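import Groth.Agent.AlgSp.K622.GrpQuot

/-!
A field-valued point whose self fibre product is etale and quasi-compact over the field can be replaced by a
monomorphism from the spectrum of a subfield.
-/

set_option autoImplicit false
universe u
open CategoryTheory CategoryTheory.Limits AlgebraicGeometry Opposite Topology
open AlgSp

set_option maxHeartbeats 400000
set_option backward.isDefEq.respectTransparency.types false

noncomputable section

namespace K622.MonoQuot

open K622.Basic K622.EpiYon K622.Sch K622.MonoPts K622.GrpQuot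

variable {S : Scheme.{u}} {F : Sp S}

/-- A monomorphism `h_Y ⟶ F` from a scheme receiving a flat surjection from the spectrum of a field gives a
field-valued point. -/
theorem exists_point_of_cover {k : Type u} [Field k] {str : Spec (CommRingCat.of k) ⟶ S} {Y : Over S}
    (p : Over.mk str ⟶ Y) (hf : Flat p.left) (hs : Surjective p.left) (m : (yon S).obj Y ⟶ F) (hm : Mono m) :
    ∃ x : FieldPt F, Points.mk x = Points.mk (ofHom ((yon S).map p ≫ m)) ∧ Mono x.toHom := by
  obtain ⟨K, _, ⟨e⟩⟩ := exists_iso_spec_of_flat_surjective (k := k) p.left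
  let str' : Spec (CommRingCat.of K) ⟶ S := e.inv ≫ Y.hom
  let j : Over.mk str' ≅ Y := Over.isoMk e.symm rfl
  let m' : (yon S).obj (Over.mk str') ⟶ F := (yon S).map j.hom ≫ m
  refine ⟨ofHom m', ?_, ?_⟩
  · have : (yon S).map p ≫ m = (yon S).map (p ≫ j.inv) ≫ m' := by
      rw [← Category.assoc, ← Functor.map_comp, Category.assoc, Iso.inv_hom_id, Category.comp_id]
    rw [this]
    exact (mk_ofHom_comp (p ≫ j.inv) m').symm
  · have h1 : Mono m' := mono_comp _ _
    have h2 : (ofHom m').toHom = m' := toHom_ofHom m'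
    rw [h2]
    exact h1

theorem exists_mono_point {k : Type u} [Field k] {str : Spec (CommRingCat.of k) ⟶ S}
    (q : (yon S).obj (Over.mk str) ⟶ F) {R : Over S} {s t : R ⟶ Over.mk str}
    (h : IsPullback ((yon S).map t) ((yon S).map s) q q) (h1 : Etale s.left) (h2 : QuasiCompact s.left) :
    ∃ p : FieldPt F, Points.mk p = Points.mk (ofHom q) ∧ Mono p.toHom := by
  have hfin : IsFinite s.left := isFinite_of_etale_of_quasiCompact (K := k) s.left
  have haff : IsAffine (Over.mk str).left := inferInstanceAs (IsAffine (Spec (CommRingCat.of k)))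
  obtain ⟨Y, p, m, h1, h2, h3, h4, h5, h6, h7⟩ := exists_quot h hfin inferInstance inferInstance
    (fun x => ⟨⊤, isAffineOpen_top _, fun r _ => trivial⟩)
  obtain ⟨x, hx, hx'⟩ := exists_point_of_cover p h2 h4 m h7
  exact ⟨x, by rw [hx, h6], hx'⟩

/-- Symmetry of a represented kernel pair. -/
theorem etale_symm {U R : Over S} {s t : R ⟶ U} {q : (yon S).obj U ⟶ F}
    (h : IsPullback ((yon S).map t) ((yon S).map s) q q) (P : MorphismProperty Scheme.{u}) [P.RespectsIso]
    (ht : P t.left) : P s.left := by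
  obtain ⟨i, hi1, hi2⟩ := exists_lift h s t (by
    have := w_rel h (𝟙 R)
    rw [Category.id_comp, Category.id_comp] at this
    exact this.symm)
  have hii : i ≫ i = 𝟙 _ := hom_ext_rel h
    (by rw [Category.assoc, hi1, hi2, Category.id_comp]) (by rw [Category.assoc, hi2, hi1, Category.id_comp])
  have : IsIso i := ⟨i, hii, hii⟩
  have : IsIso i.left := inferInstanceAs (IsIso ((Over.forget S).map i))
  rw [← hi1, Over.comp_left]
  exact (P.cancel_left_of_respectsIso i.left t.left).2 ht

theorem left_left {A B C : Over S} (f : A ⟶ B) (g : B ⟶ C) (x : ↥A.left) :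
    g.left (f.left x) = (f ≫ g).left x := by
  rw [Over.comp_left, Scheme.Hom.comp_apply]

/-- **The finiteness criterion**: if only finitely many points of `A ×_F A'` lie over `(u, u')`, then the point of `F`
under `u` is represented by a monomorphism from the spectrum of a field. -/
theorem exists_mono_point_of_finite (hF : ∀ {T : Over S} (g : (yon S).obj T ⟶ F), Representable g)
    {A A' R : Over S} (hA : IsAffine A.left) (hA' : IsAffine A'.left) {s : R ⟶ A} {t : R ⟶ A'}
    {α : (yon S).obj A ⟶ F} {α' : (yon S).obj A' ⟶ F}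
    (h : IsPullback ((yon S).map t) ((yon S).map s) α' α) (hs : Etale s.left) (ht : Etale t.left) (r0 : ↥R.left)
    (hfin : {r : ↥R.left | s.left r = s.left r0 ∧ t.left r = t.left r0}.Finite) :
    ∃ p : FieldPt F, Points.mk p = Points.ofPt α (s.left r0) ∧ Mono p.toHom := by
  let str : Spec (CommRingCat.of ↥(R.left.residueField r0)) ⟶ S := R.left.fromSpecResidueField r0 ≫ R.hom
  let ζ : Over.mk str ⟶ R := Over.homMk (R.left.fromSpecResidueField r0) rfl
  have hζ : Mono ζ := by
    have : Mono ζ.left := inferInstanceAs (Mono (R.left.fromSpecResidueField r0))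
    exact Over.mono_of_mono_left ζ
  have hζ0 : ∀ x : ↥(Over.mk str).left, ζ.left x = r0 := fun x =>
    Scheme.fromSpecResidueField_apply r0 x
  let q : (yon S).obj (Over.mk str) ⟶ F := (yon S).map (ζ ≫ s) ≫ α
  have hq' : (yon S).map (ζ ≫ t) ≫ α' = q := by
    simp only [q]
    rw [Functor.map_comp, Functor.map_comp, Category.assoc, Category.assoc, h.w]
  obtain ⟨W, a, b, hW⟩ := exists_pullback_yon (hF q) q
  -- the map `W ⟶ R`
  have hw : (yon S).map (a ≫ ζ ≫ t) ≫ α' = (yon S).map (b ≫ ζ ≫ s) ≫ α := by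
    rw [(yon S).map_comp a, (yon S).map_comp b, Category.assoc, Category.assoc, hq', hW.w]
  obtain ⟨l, hl⟩ := (yon S).map_surjective (h.lift _ _ hw)
  have hlt : l ≫ t = a ≫ ζ ≫ t := (yon S).map_injective (by rw [Functor.map_comp, hl, h.lift_fst])
  have hls : l ≫ s = b ≫ ζ ≫ s := (yon S).map_injective (by rw [Functor.map_comp, hl, h.lift_snd])
  -- `E = Spec κ(r0) ×_{A'} R ×_A R`
  let M := pullback (ζ ≫ t) t
  let m1 : M ⟶ Over.mk str := pullback.fst _ _
  let m2 : M ⟶ R := pullback.snd _ _
  let E := pullback (m2 ≫ s) s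
  let e1 : E ⟶ M := pullback.fst _ _
  let e3 : E ⟶ R := pullback.snd _ _
  have hM : IsPullback m1.left m2.left (ζ ≫ t).left t.left :=
    (IsPullback.of_hasPullback (ζ ≫ t) t).map (Over.forget S)
  have hE : IsPullback e1.left e3.left (m2 ≫ s).left s.left :=
    (IsPullback.of_hasPullback (m2 ≫ s) s).map (Over.forget S)
  have hm1 : Etale m1.left := MorphismProperty.of_isPullback (P := @Etale) hM.flip ht
  have he1 : Etale e1.left := MorphismProperty.of_isPullback (P := @Etale) hE.flip hs
  let c0 : W ⟶ M := pullback.lift a l hlt.symm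
  have hc01 : c0 ≫ m1 = a := pullback.lift_fst _ _ _
  have hc02 : c0 ≫ m2 = l := pullback.lift_snd _ _ _
  let c : W ⟶ E := pullback.lift c0 (b ≫ ζ) (by
    rw [← Category.assoc, hc02, hls, Category.assoc])
  have hc1 : c ≫ e1 = c0 := pullback.lift_fst _ _ _
  have hc3 : c ≫ e3 = b ≫ ζ := pullback.lift_snd _ _ _
  have hcm : Mono c := by
    refine ⟨fun x y hxy => hom_ext_rel hW ?_ ?_⟩
    · rw [← hc01, ← hc1, Category.assoc, ← Category.assoc, hxy, Category.assoc]
    · rw [← cancel_mono ζ, Category.assoc, Category.assoc, ← hc3, ← Category.assoc, hxy, Category.assoc]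
  have hcm' : Mono c.left := inferInstance
  have he : Etale (e1.left ≫ m1.left : E.left ⟶ Spec (CommRingCat.of ↥(R.left.residueField r0))) :=
    inferInstance
  have hco : IsOpenImmersion c.left := isOpenImmersion_of_mono_of_etale c.left (e1.left ≫ m1.left)
  have hae : Etale a.left := by
    have : a.left = c.left ≫ e1.left ≫ m1.left := by
      rw [← Category.assoc, ← Over.comp_left, hc1, ← Over.comp_left, hc01]
    rw [this]
    exact inferInstanceAs (Etale (c.left ≫ (e1.left ≫ m1.left)))
  -- `W` has finitely many points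
  have hfinM : {m : ↥M.left | m2.left m ∈ {r : ↥R.left | s.left r = s.left r0 ∧ t.left r = t.left r0}}.Finite := by
    have : {m : ↥M.left | m2.left m ∈ {r : ↥R.left | s.left r = s.left r0 ∧ t.left r = t.left r0}} =
        ⋃ r ∈ {r : ↥R.left | s.left r = s.left r0 ∧ t.left r = t.left r0},
          {m : ↥M.left | m1.left m = pt0 str ∧ m2.left m = r} := by
      ext m
      simp only [Set.mem_ofPred_eq, Set.mem_iUnion, exists_prop]
      constructor
      · intro hm
        exact ⟨_, hm, eq_pt0 _, rfl⟩
      · rintro ⟨r, hr, -, rfl⟩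
        exact hr
    rw [this]
    exact hfin.biUnion fun r _ => finite_two_fibres hM _ _
  have hfinE : {e : ↥E.left | e3.left e = r0 ∧
      m2.left (e1.left e) ∈ {r : ↥R.left | s.left r = s.left r0 ∧ t.left r = t.left r0}}.Finite := by
    have : {e : ↥E.left | e3.left e = r0 ∧
        m2.left (e1.left e) ∈ {r : ↥R.left | s.left r = s.left r0 ∧ t.left r = t.left r0}} =
        ⋃ m ∈ {m : ↥M.left | m2.left m ∈ {r : ↥R.left | s.left r = s.left r0 ∧ t.left r = t.left r0}},
          {e : ↥E.left | e1.left e = m ∧ e3.left e = r0} := by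
      ext e
      simp only [Set.mem_ofPred_eq, Set.mem_iUnion, exists_prop]
      constructor
      · rintro ⟨h1, h2⟩
        exact ⟨_, h2, rfl, h1⟩
      · rintro ⟨m, hm, rfl, h1⟩
        exact ⟨h1, hm⟩
    rw [this]
    exact hfinM.biUnion fun m _ => finite_two_fibres hE _ _
  have hWfin : Finite ↥W.left := by
    have hsub : Set.range c.left ⊆ {e : ↥E.left | e3.left e = r0 ∧
      m2.left (e1.left e) ∈ {r : ↥R.left | s.left r = s.left r0 ∧ t.left r = t.left r0}} := by
      rintro _ ⟨w, rfl⟩
      refine ⟨?_, ?_, ?_⟩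
      · rw [← Scheme.Hom.comp_apply, ← Over.comp_left, hc3, Over.comp_left, Scheme.Hom.comp_apply, hζ0]
      · rw [left_left c e1, hc1, left_left c0 m2, hc02, left_left l s, hls, ← left_left b, ← left_left ζ, hζ0]
      · rw [left_left c e1, hc1, left_left c0 m2, hc02, left_left l t, hlt, ← left_left a, ← left_left ζ, hζ0]
    exact (Set.finite_range_iff c.left.injective).1 (hfinE.subset hsub)
  have hqc : QuasiCompact a.left := ⟨fun U _ _ => (Set.toFinite _).isCompact⟩
  obtain ⟨p, hp, hpm⟩ := exists_mono_point q hW (etale_symm hW @Etale hae) (etale_symm hW @QuasiCompact hqc)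
  refine ⟨p, ?_, hpm⟩
  rw [hp]
  change Points.mk (ofHom ((yon S).map (ζ ≫ s) ≫ α)) = _
  rw [mk_ofHom_yon', Over.comp_left, Scheme.Hom.comp_apply, hζ0]

theorem left_injective_of_mono {A B : Over S} (f : A ⟶ B) [Mono f] : Function.Injective f.left :=
  have : Mono f.left := inferInstance
  f.left.injective

/-- Variant for arbitrary etale charts. -/
theorem exists_mono_point_of_finite' (hF : ∀ {T : Over S} (g : (yon S).obj T ⟶ F), Representable g)
    {U R : Over S} {s t : R ⟶ U} {φ : (yon S).obj U ⟶ F} (hφ : RepWith @Etale φ)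
    (h : IsPullback ((yon S).map t) ((yon S).map s) φ φ) (u u' : ↥U.left)
    (he : Points.ofPt φ u = Points.ofPt φ u')
    (hfin : {r : ↥R.left | s.left r = u ∧ t.left r = u'}.Finite) :
    ∃ p : FieldPt F, Points.mk p = Points.ofPt φ u ∧ Mono p.toHom := by
  obtain ⟨A0, hA0, hu, -⟩ := exists_isAffineOpen_mem_and_subset (TopologicalSpace.Opens.mem_top u)
  obtain ⟨A0', hA0', hu', -⟩ := exists_isAffineOpen_mem_and_subset (TopologicalSpace.Opens.mem_top u')
  let A : Over S := Over.mk (A0.ι ≫ U.hom)
  let A' : Over S := Over.mk (A0'.ι ≫ U.hom)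
  let i : A ⟶ U := Over.homMk A0.ι rfl
  let i' : A' ⟶ U := Over.homMk A0'.ι rfl
  have hA : IsAffine A.left := hA0
  have hA' : IsAffine A'.left := hA0'
  have hi : RepWith @Etale ((yon S).map i) := (repWith_yon_map_iff _ _).2 (inferInstanceAs (Etale A0.ι))
  have hi' : RepWith @Etale ((yon S).map i') := (repWith_yon_map_iff _ _).2 (inferInstanceAs (Etale A0'.ι))
  have hα : RepWith @Etale ((yon S).map i ≫ φ) := (RepWith @Etale).comp_mem _ _ hi hφ
  have hα' : RepWith @Etale ((yon S).map i' ≫ φ) := (RepWith @Etale).comp_mem _ _ hi' hφ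
  have him : Mono i := by
    have : Mono i.left := inferInstanceAs (Mono A0.ι)
    exact Over.mono_of_mono_left i
  have him' : Mono i' := by
    have : Mono i'.left := inferInstanceAs (Mono A0'.ι)
    exact Over.mono_of_mono_left i'
  obtain ⟨R', t', s', hR'⟩ := exists_pullback_yon hα'.1 ((yon S).map i ≫ φ)
  have hs' : Etale s'.left := hα'.2 _ _ _ hR'
  have ht' : Etale t'.left := hα.2 _ _ _ hR'.flip
  let a0 : ↥A.left := (⟨u, hu⟩ : A0)
  let a0' : ↥A'.left := (⟨u', hu'⟩ : A0')
  have ha0 : i.left a0 = u := rfl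
  have ha0' : i'.left a0' = u' := rfl
  obtain ⟨r0, hr0, hr0'⟩ := exists_pt_of_isPullback' hR' a0' a0 (by
    rw [ofPt_yon_map, ofPt_yon_map, ha0, ha0', he])
  obtain ⟨l, hlt, hls⟩ := exists_lift h (t' ≫ i') (s' ≫ i) (by
    rw [Functor.map_comp, Functor.map_comp, Category.assoc, Category.assoc, hR'.w])
  have hlm : Mono l := by
    refine ⟨fun x y hxy => ?_⟩
    apply (yon S).map_injective
    apply hR'.hom_ext
    · rw [← Functor.map_comp, ← Functor.map_comp]
      congr 1
      rw [← cancel_mono i', Category.assoc, Category.assoc, ← hlt, ← Category.assoc, hxy, Category.assoc]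
    · rw [← Functor.map_comp, ← Functor.map_comp]
      congr 1
      rw [← cancel_mono i, Category.assoc, Category.assoc, ← hls, ← Category.assoc, hxy, Category.assoc]
  have hfin' : {r : ↥R'.left | s'.left r = s'.left r0 ∧ t'.left r = t'.left r0}.Finite := by
    refine Set.Finite.of_finite_image (f := l.left) (hfin.subset ?_) (left_injective_of_mono l).injOn
    rintro _ ⟨r, ⟨h1, h2⟩, rfl⟩
    refine ⟨?_, ?_⟩
    · rw [left_left, hls, ← left_left, h1, hr0', ha0]
    · rw [left_left, hlt, ← left_left, h2, hr0, ha0']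
  obtain ⟨p, hp, hpm⟩ := exists_mono_point_of_finite hF hA hA' hR' hs' ht' r0 hfin'
  refine ⟨p, ?_, hpm⟩
  rw [hp, hr0', ofPt_yon_map, ha0]

end K622.MonoQuot
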