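import Groth.Agent.AlgSp.K622.AnDefs2

/-!
# The two group-theoretic inputs of `CoreD`: statements

`NodeC1`: the translate of a point of `X` by an arc is a point of `X`.
`NodeC2`: the group `H` acts on the generic fibres of the good models.
-/

set_option autoImplicit false
universe u

open CategoryTheory CategoryTheory.Limits AlgebraicGeometry MonoidalCategory CartesianMonoidalCategory MonObj AlgSp

namespace K622.CoreC

open K622.AnDefs K622.AnDefs2 K612.OrbFlat

noncomputable section

/-- The point of `M` defined by a morphism to the scheme `Xs ≅ X`. -/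
abbrev pt {S : Scheme.{u}} {M : Over ((yon S).obj (Over.mk (𝟙 S)))} {X : Sp S} (i : X ⟶ M.left)
    {Xs : Over S} (eX : (yon S).obj Xs ≅ X) {T : Over S} (m : T ⟶ Xs) : (yon S).obj T ⟶ M.left :=
  (yon S).map m ≫ eX.hom ≫ i

/-- **Node C1**: translates by arcs. -/
def NodeC1 : Prop :=
  ∀ (R K : Type u) [CommRing R] [IsDedekindDomain R] [Field K] [Algebra R K] [IsFractionRing R K]
    (G M : Over ((yon (Spec (CommRingCat.of R))).obj (Over.mk (𝟙 (Spec (CommRingCat.of R))))))
    [GrpObj G] (act : GAction G M) (X : Sp (Spec (CommRingCat.of R))) (i : X ⟶ M.left),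
    Sit act i → FibClosed i →
    ∀ (D : HData R K G) (q : MaximalSpectrum R) (A : Arc R K D q)
      (Xs : Over (Spec (CommRingCat.of R))) (eX : (yon (Spec (CommRingCat.of R))).obj Xs ≅ X)
      (T : Over (Spec (CommRingCat.of R))) (p : T ⟶ Over.mk (Spec.map (CommRingCat.ofHom A.φ)))
      (m : T ⟶ Xs),
      (∃ w : T ⟶ Xs, pt i eX w =
        op act ((yon (Spec (CommRingCat.of R))).map (p ≫ A.c) ≫ A.j) (pt i eX m)) ∧
      (∃ w : T ⟶ Xs, pt i eX w =
        op act (inv ((yon (Spec (CommRingCat.of R))).map (p ≫ A.c) ≫ A.j)) (pt i eX m))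

/-- **Node C2**: the group `H` acts on the generic fibre `YK` of a model: `y : YK ⟶ Xs ×_R K` is a closed
immersion with open range, `YK` is geometrically integral. -/
def NodeC2 : Prop :=
  ∀ (R K : Type u) [CommRing R] [IsDedekindDomain R] [Field K] [Algebra R K] [IsFractionRing R K]
    (G M : Over ((yon (Spec (CommRingCat.of R))).obj (Over.mk (𝟙 (Spec (CommRingCat.of R))))))
    [GrpObj G] (act : GAction G M) (X : Sp (Spec (CommRingCat.of R))) (i : X ⟶ M.left),
    Sit act i → FibClosed i →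
    ∀ (D : HData R K G) (Xs : Over (Spec (CommRingCat.of R)))
      (eX : (yon (Spec (CommRingCat.of R))).obj Xs ≅ X)
      (XK YK : Over (Spec (CommRingCat.of K))) (x : (Over.map (gn R K)).obj XK ⟶ Xs)
      (_ : IsPullback x.left XK.hom Xs.hom (gn R K)) (y : YK ⟶ XK),
      IsClosedImmersion y.left → IsOpen (Set.range y.left) → GeometricallyIntegral YK.hom →
      ∃ ρ : D.H ⊗ YK ⟶ YK,
        lift (toUnit YK ≫ η[D.H]) (𝟙 YK) ≫ ρ = 𝟙 YK ∧
        (μ[D.H] ▷ YK) ≫ ρ = (α_ D.H D.H YK).hom ≫ (D.H ◁ ρ) ≫ ρ ∧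
        ∀ (T : Over (Spec (CommRingCat.of K))) (a : T ⟶ D.H) (z : T ⟶ YK),
          pt i eX ((Over.map (gn R K)).map (lift a z ≫ ρ ≫ y) ≫ x) =
            op act ((yon (Spec (CommRingCat.of R))).map ((Over.map (gn R K)).map a) ≫ D.h)
              (pt i eX ((Over.map (gn R K)).map (z ≫ y) ≫ x))

/-- **Node C4**: generic translates are maximal points of the fibres. `T` is a scheme over `P` and over
`Xs`, `w` the translate of the point `m : T ⟶ Xs`; for a point `z` of `T` which is maximal in the fibre of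
`T ⟶ Xs` over `m z`, when `T` is the base change of a scheme over `Xs`, the point `w z` is maximal in its
fibre over `Spec R`. -/
def NodeC4 : Prop :=
  ∀ (R K : Type u) [CommRing R] [IsDedekindDomain R] [Field K] [Algebra R K] [IsFractionRing R K]
    (G M : Over ((yon (Spec (CommRingCat.of R))).obj (Over.mk (𝟙 (Spec (CommRingCat.of R))))))
    [GrpObj G] (act : GAction G M) (X : Sp (Spec (CommRingCat.of R))) (i : X ⟶ M.left),
    Sit act i → OrbFlat act →
    ∀ (D : HData R K G) (q : MaximalSpectrum R) (A : Arc R K D q)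
      (Xs : Over (Spec (CommRingCat.of R))) (eX : (yon (Spec (CommRingCat.of R))).obj Xs ≅ X)
      (w w' : Over.mk (pullback.fst Xs.hom (Spec.map (CommRingCat.ofHom A.φ)) ≫ Xs.hom) ⟶ Xs),
      pt i eX w = op act ((yon (Spec (CommRingCat.of R))).map
          ((Over.homMk (pullback.snd Xs.hom (Spec.map (CommRingCat.ofHom A.φ))) pullback.condition.symm :
            Over.mk (pullback.fst Xs.hom (Spec.map (CommRingCat.ofHom A.φ)) ≫ Xs.hom) ⟶
              Over.mk (Spec.map (CommRingCat.ofHom A.φ))) ≫ A.c) ≫ A.j)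
        (pt i eX (Over.homMk (pullback.fst Xs.hom (Spec.map (CommRingCat.ofHom A.φ))) rfl)) →
      pt i eX w' = op act (inv ((yon (Spec (CommRingCat.of R))).map
          ((Over.homMk (pullback.snd Xs.hom (Spec.map (CommRingCat.ofHom A.φ))) pullback.condition.symm :
            Over.mk (pullback.fst Xs.hom (Spec.map (CommRingCat.ofHom A.φ)) ≫ Xs.hom) ⟶
              Over.mk (Spec.map (CommRingCat.ofHom A.φ))) ≫ A.c) ≫ A.j))
        (pt i eX (Over.homMk (pullback.fst Xs.hom (Spec.map (CommRingCat.ofHom A.φ))) rfl)) →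
      ∀ z : ↥(pullback Xs.hom (Spec.map (CommRingCat.ofHom A.φ))),
        (∀ z', z' ⤳ z → pullback.fst Xs.hom _ z' = pullback.fst Xs.hom _ z → z' = z) →
        FibPts.IsMaxFib Xs.hom (w.left z) ∧ FibPts.IsMaxFib Xs.hom (w'.left z)

end

end K622.CoreC
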