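import Groth.Agent.AlgSp.K622.FibPts
import Groth.Agent.Models.DVRGeneric2

/-!
# Ampleness from generic translations over a semi-local Dedekind domain

`exists_isAmple`: `f : Y ⟶ Spec R` flat separated of finite type with `Y` integral and regular, `R` a
Dedekind domain with finitely many maximal ideals; for each maximal ideal `q` a flat local extension
`R_q → P q` of discrete valuation rings such that integral schemes of finite type over `κ(q)` stay
integral over `P q`, and two affine morphisms `a q, b q : Y ×_R P q ⟶ Y` such that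

* the classes `a^* c * b^* c * (p^* c)^(-2)` are torsion on the generic fibre of `Y ×_R P q`;
* every point of `Y` has a point above it in some `Y ×_R P q` which is mapped by `a` and by `b` to
  maximal points of the fibres of `f`.

Then `Y` has an ample invertible module.
-/

set_option autoImplicit false
universe u

open CategoryTheory CategoryTheory.Limits AlgebraicGeometry TopologicalSpace

namespace K622.Trans

open Groth.Agent Groth.Agent.Grpsch.PicGrp K622.FibPts K622.PicKer K622.AmpCore

set_option maxHeartbeats 400000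
set_option backward.isDefEq.respectTransparency.types false

noncomputable section

variable {R : Type u} [CommRing R] {Y : Scheme.{u}} (f : Y ⟶ Spec (CommRingCat.of R))

/-- The base change of `Y` along `φ : R → P`. -/
abbrev bc {P : Type u} [CommRing P] (φ : R →+* P) : Scheme.{u} :=
  pullback f (Spec.map (CommRingCat.ofHom φ))

/-- The generic fibre of the base change. -/
abbrev gen {P : Type u} [CommRing P] [IsDomain P] (φ : R →+* P) :
    pullback (pullback.snd f (Spec.map (CommRingCat.ofHom φ)))
      (Spec.map (CommRingCat.ofHom (algebraMap P (FractionRing P)))) ⟶ bc f φ :=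
  pullback.fst _ _

theorem isOpenImmersion_spec_frac (P : Type u) [CommRing P] [IsDomain P] [IsDiscreteValuationRing P] :
    IsOpenImmersion (Spec.map (CommRingCat.ofHom (algebraMap P (FractionRing P)))) := by
  obtain ⟨ϖ, hϖ⟩ := IsDiscreteValuationRing.exists_irreducible P
  have := Groth.Agent.Models.DVRGeneric.isLocalization_away P ϖ hϖ (FractionRing P)
  exact IsOpenImmersion.of_isLocalization ϖ

theorem range_spec_frac (P : Type u) [CommRing P] [IsDomain P] :
    Set.range (Spec.map (CommRingCat.ofHom (algebraMap P (FractionRing P)))) =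
      {x | x.asIdeal = ⊥} := by
  ext x
  constructor
  · rintro ⟨z, rfl⟩
    have hz : z.asIdeal = ⊥ := by
      rcases Ideal.eq_bot_or_top z.asIdeal with h | h
      · exact h
      · exact (z.isPrime.ne_top h).elim
    change z.asIdeal.comap (algebraMap P (FractionRing P)) = ⊥
    rw [hz]
    exact (RingHom.injective_iff_ker_eq_bot _).mp (IsFractionRing.injective P (FractionRing P))
  · intro hx
    refine ⟨⟨⊥, Ideal.isPrime_bot⟩, ?_⟩
    apply PrimeSpectrum.ext
    rw [show x.asIdeal = ⊥ from hx]
    change (⊥ : Ideal (FractionRing P)).comap (algebraMap P (FractionRing P)) = ⊥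
    exact (RingHom.injective_iff_ker_eq_bot _).mp (IsFractionRing.injective P (FractionRing P))

theorem eq_bot_or_eq_max {P : Type u} [CommRing P] [IsDomain P] [IsDiscreteValuationRing P]
    (x : PrimeSpectrum P) : x.asIdeal = ⊥ ∨ x.asIdeal = IsLocalRing.maximalIdeal P := by
  by_cases h : x.asIdeal = ⊥
  · exact Or.inl h
  · exact Or.inr (IsLocalRing.eq_maximalIdeal (Ring.DimensionLEOne.maximalOfPrime h x.isPrime))

/-- The image in `Spec R` of a point of the base change. -/
theorem f_fst {P : Type u} [CommRing P] (φ : R →+* P) (y' : bc f φ) :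
    (f (pullback.fst f (Spec.map (CommRingCat.ofHom φ)) y')).asIdeal =
      (pullback.snd f (Spec.map (CommRingCat.ofHom φ)) y').asIdeal.comap φ := by
  have h := congrArg (fun g : bc f φ ⟶ Spec (CommRingCat.of R) => (g y').asIdeal)
    (pullback.condition (f := f) (g := Spec.map (CommRingCat.ofHom φ)))
  exact h

/-- The pull-back of the reduced ideal of the closure of a point. -/
def comapPtIso {P : Type u} [CommRing P] (φ : R →+* P) (ξ : Y) :
    ((K458.Decomp.pt ξ).comap (pullback.fst f (Spec.map (CommRingCat.ofHom φ)))).subscheme ≅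
      pullback ((K458.Decomp.pt ξ).subschemeι ≫ f) (Spec.map (CommRingCat.ofHom φ)) :=
  (K458.Decomp.pt ξ).comapIso _ ≪≫ pullbackSymmetry _ _ ≪≫ pullbackRightPullbackFstIso _ _ _

variable [IsDedekindDomain R] [Finite (MaximalSpectrum R)]

omit [IsDedekindDomain R] [Finite (MaximalSpectrum R)] in
theorem ne_zero_of_flat [IsDomain R] {P : Type u} [CommRing P] [IsDomain P] {φ : R →+* P}
    (hφ : φ.Flat) {a : R} (ha : a ≠ 0) : φ a ≠ 0 :=
  nonZeroDivisors.ne_zero (Groth.Agent.Divis.EffCartier.map_mem_nonZeroDivisors_of_flat φ hφ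
    (mem_nonZeroDivisors_of_ne_zero ha))

/-- **Ampleness from generic translations.** -/
theorem exists_isAmple (hR : ¬ IsField R) [Flat f] [IsSeparated f] [LocallyOfFiniteType f] [QuasiCompact f]
    [IsIntegral Y] (hreg : ∀ y : Y, IsRegularLocalRing (Y.presheaf.stalk y))
    (P : MaximalSpectrum R → Type u) [∀ q, CommRing (P q)] [∀ q, IsDomain (P q)]
    [∀ q, IsDiscreteValuationRing (P q)] (φ : ∀ q, R →+* P q) (hφf : ∀ q, (φ q).Flat)
    (hφ : ∀ q, (IsLocalRing.maximalIdeal (P q)).comap (φ q) = q.asIdeal)
    (hint : ∀ q, IsIntegral (bc f (φ q)))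
    (hC : ∀ (q : MaximalSpectrum R) (C : Scheme.{u}) (c : C ⟶ Spec (CommRingCat.of R)),
      IsIntegral C → LocallyOfFiniteType c → (∀ x, (c x).asIdeal = q.asIdeal) →
        IsIntegral (pullback c (Spec.map (CommRingCat.ofHom (φ q)))))
    (a b : ∀ q, bc f (φ q) ⟶ Y) (ha : ∀ q, IsAffineHom (a q)) (hb : ∀ q, IsAffineHom (b q))
    (hc : ∀ (q : MaximalSpectrum R) (c : Pic Y), ∃ n : ℕ, 0 < n ∧ pull (gen f (φ q))
      ((pull (a q) c * pull (b q) c * (pull (pullback.fst f _) c ^ 2)⁻¹) ^ n) = 1)
    (hd : ∀ y : Y, ∃ (q : MaximalSpectrum R) (y' : bc f (φ q)), pullback.fst f _ y' = y ∧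
      IsMaxFib f (a q y') ∧ IsMaxFib f (b q y')) :
    ∃ L : Y.Modules, CohB1.IsAmple L := by
  classical
  have hN : IsNoetherian Y := by
    have : IsLocallyNoetherian Y := LocallyOfFiniteType.isLocallyNoetherian f
    have : CompactSpace Y := QuasiCompact.compactSpace_of_compactSpace f
    exact {}
  have hsep : Y.IsSeparated := ⟨by
    have h1 : terminal.from Y = f ≫ terminal.from _ := (terminalIsTerminal.hom_ext _ _)
    rw [h1]; infer_instance⟩
  have hNP : ∀ q, IsNoetherian (bc f (φ q)) := fun q => by
    have : IsLocallyNoetherian (bc f (φ q)) :=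
      LocallyOfFiniteType.isLocallyNoetherian (pullback.snd f (Spec.map (CommRingCat.ofHom (φ q))))
    have : CompactSpace (bc f (φ q)) := QuasiCompact.compactSpace_of_compactSpace
      (pullback.snd f (Spec.map (CommRingCat.ofHom (φ q))))
    exact {}
  have hsepP : ∀ q, (bc f (φ q)).IsSeparated := fun q => ⟨by
    have h1 : terminal.from (bc f (φ q)) = pullback.snd f (Spec.map (CommRingCat.ofHom (φ q))) ≫
      terminal.from _ := (terminalIsTerminal.hom_ext _ _)
    rw [h1]; infer_instance⟩
  have hflat : ∀ q, Flat (Spec.map (CommRingCat.ofHom (φ q))) := fun q =>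
    (HasRingHomProperty.Spec_iff (P := @Flat)).mpr (hφf q)
  have hopen : ∀ q, IsOpenImmersion
      (Spec.map (CommRingCat.ofHom (algebraMap (P q) (FractionRing (P q))))) :=
    fun q => isOpenImmersion_spec_frac (P q)
  obtain ⟨U, hU, hU'⟩ := exists_affine f
  -- the complement of `U`
  have hdense : Dense (U : Set Y) := by
    have h1 : genericPoint Y ∈ U := hU' _ (isMaxFib_genericPoint f)
    exact U.isOpen.dense ⟨_, h1⟩
  let Z : Closeds Y := ⟨(U : Set Y)ᶜ, U.isOpen.isClosed_compl⟩
  have hZ : Z.compl = U := by
    ext x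
    simp [Z]
  have hD : BlowUp.IsEffCartierIdeal (Scheme.IdealSheafData.vanishingIdeal Z) :=
    K647.VanEff.isEff_of_affine hreg Z (by rw [hZ]; exact hU) (by
      change Dense ((U : Set Y)ᶜᶜ)
      rw [compl_compl]
      exact hdense)
  obtain ⟨c, hc'⟩ : ∃ c : Pic Y, HasSec c U := by
    refine ⟨mk _ (Groth.Agent.Grpsch.PicGrp.isInvertible_dual
      (Groth.Agent.Dix.IdealModCartier.isInvertible_idealMod hD)), _, _,
      Groth.Agent.Dix.Cast5.canSec (Scheme.IdealSheafData.vanishingIdeal Z), rfl, ?_⟩
    · apply SetLike.coe_injective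
      rw [K455.PicLoc.genLocus_canSec _ hD, Scheme.IdealSheafData.coe_support_vanishingIdeal]
      exact compl_compl _
  refine AmpCore.exists_isAmple (fun q => bc f (φ q)) (fun q => pullback
      (pullback.snd f (Spec.map (CommRingCat.ofHom (φ q))))
      (Spec.map (CommRingCat.ofHom (algebraMap (P q) (FractionRing (P q))))))
    (fun _ => Spec (CommRingCat.of R)) (fun q => Spec (CommRingCat.of (P q)))
    (fun _ => f) (fun q => Spec.map (CommRingCat.ofHom (φ q))) (fun q => pullback.fst f _) a b
    (fun q => pullback.snd f _) (fun q => IsPullback.of_hasPullback f _) (fun q => gen f (φ q))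
    U hU c hc' (fun y => ?_) (fun q => hc q c) (fun q M hM => ?_)
  · obtain ⟨q, y', h1, h2, h3⟩ := hd y
    exact ⟨q, y', h1, hU' _ h2, hU' _ h3⟩
  · -- the kernel of the restriction to the generic fibre
    have := hint q
    obtain ⟨G, hG, hG1, hG2⟩ := exists_gens f q
    obtain ⟨ϖ, hϖ⟩ := exists_span q.asIdeal
    have hgen : (pullback.snd f (Spec.map (CommRingCat.ofHom (φ q)))
        (genericPoint (bc f (φ q)))).asIdeal = ⊥ :=
      map_genericPoint (pullback.snd f (Spec.map (CommRingCat.ofHom (φ q))))
    have h0 : ϖ ≠ 0 := by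
      rintro rfl
      exact Ring.ne_bot_of_isMaximal_of_not_isField q.isMaximal hR
        (hϖ.trans (Ideal.span_singleton_eq_bot.mpr rfl))
    have hker : ∀ q', (⊥ : Ideal (P q')).comap (φ q') = ⊥ := fun q' => by
      rw [eq_bot_iff]
      intro a ha
      by_contra hne
      exact ne_zero_of_flat (hφf q') (fun h => hne h) ha
    have hqbot : q.asIdeal ≠ ⊥ := fun h => h0 (Ideal.span_singleton_eq_bot.mp (hϖ ▸ h))
    let e := hG.toFinset.equivFin
    let r := hG.toFinset.card
    let ξ : Fin r → Y := fun i => (e.symm i).1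
    have hξ : ∀ i, ξ i ∈ G := fun i => hG.mem_toFinset.mp (e.symm i).2
    have hdim : ∀ i, ringKrullDim (Y.presheaf.stalk (ξ i)) = 1 := fun i =>
      dim_stalk f ((hG1 _).mp (hξ i)).2 h0
        (by rw [(mem_fib_iff f q _).mp ((hG1 _).mp (hξ i)).1, hϖ])
    have hD' : ∀ i, BlowUp.IsEffCartierIdeal (K458.Decomp.pt (ξ i)) := fun i =>
      K458.Decomp.isEff_pt (K458.Decomp.factorial_of_regular hreg) _ (hdim i)
    have hsuppi : ∀ i, ((K458.Decomp.pt (ξ i)).support : Set Y) ⊆ fib f q := fun i => by
      rw [K458.Decomp.support_pt, hG2]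
      exact Set.subset_biUnion_of_mem (u := fun ξ => closure {ξ}) (hξ i)
    have hne : Nonempty ↥(pullback (pullback.snd f (Spec.map (CommRingCat.ofHom (φ q))))
        (Spec.map (CommRingCat.ofHom (algebraMap (P q) (FractionRing (P q)))))) := by
      have h1 : genericPoint (bc f (φ q)) ∈ Set.range (gen f (φ q)) := by
        rw [Scheme.Pullback.range_fst]
        change _ ∈ Set.range _
        rw [range_spec_frac]
        exact hgen
      obtain ⟨z, -⟩ := h1
      exact ⟨z⟩
    have := hne
    have hintg : ∀ i, IsIntegral ((K458.Decomp.pt (ξ i)).comap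
        (pullback.fst f (Spec.map (CommRingCat.ofHom (φ q))))).subscheme := by
      intro i
      have h1 : IsIntegral (pullback ((K458.Decomp.pt (ξ i)).subschemeι ≫ f)
          (Spec.map (CommRingCat.ofHom (φ q)))) := by
        refine hC q _ _ inferInstance inferInstance fun x => ?_
        apply (mem_fib_iff f q _).mp
        apply hsuppi i
        rw [← Scheme.IdealSheafData.range_subschemeι]
        exact ⟨x, rfl⟩
      obtain ⟨x⟩ : Nonempty ↥(pullback ((K458.Decomp.pt (ξ i)).subschemeι ≫ f)
          (Spec.map (CommRingCat.ofHom (φ q)))) := h1.nonempty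
      have : Nonempty ↥((K458.Decomp.pt (ξ i)).comap
          (pullback.fst f (Spec.map (CommRingCat.ofHom (φ q))))).subscheme :=
        ⟨(comapPtIso f (φ q) (ξ i)).inv x⟩
      exact AlgebraicGeometry.isIntegral_of_isOpenImmersion (comapPtIso f (φ q) (ξ i)).hom
    have hrng : Set.range (gen f (φ q)) = (⋃ i,
        (pullback.fst f (Spec.map (CommRingCat.ofHom (φ q)))) ⁻¹'
          ((K458.Decomp.pt (ξ i)).support : Set Y))ᶜ := by
      rw [Scheme.Pullback.range_fst]
      rw [range_spec_frac]
      have hU : (⋃ i, (pullback.fst f (Spec.map (CommRingCat.ofHom (φ q)))) ⁻¹'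
          ((K458.Decomp.pt (ξ i)).support : Set Y)) =
          (pullback.fst f (Spec.map (CommRingCat.ofHom (φ q)))) ⁻¹' (fib f q : Set Y) := by
        rw [← Set.preimage_iUnion, hG2]
        congr 1
        ext y
        simp only [Set.mem_iUnion, K458.Decomp.support_pt]
        constructor
        · rintro ⟨i, hi⟩
          exact ⟨ξ i, hξ i, hi⟩
        · rintro ⟨z, hz, hzy⟩
          refine ⟨e ⟨z, hG.mem_toFinset.mpr hz⟩, ?_⟩
          have : ξ (e ⟨z, hG.mem_toFinset.mpr hz⟩) = z := by simp [ξ]
          rw [this]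
          exact hzy
      rw [hU]
      ext y'
      have h2 := f_fst f (φ q) y'
      have h3 : y' ∈ (pullback.fst f (Spec.map (CommRingCat.ofHom (φ q)))) ⁻¹' (fib f q : Set Y) ↔
          (pullback.snd f (Spec.map (CommRingCat.ofHom (φ q))) y').asIdeal.comap (φ q) =
            q.asIdeal := by
        rw [← h2]
        exact mem_fib_iff f q _
      rw [Set.mem_compl_iff, h3]
      rcases eq_bot_or_eq_max (pullback.snd f (Spec.map (CommRingCat.ofHom (φ q))) y') with h | h
      · constructor
        · intro _ h4
          rw [h, hker] at h4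
          exact hqbot h4.symm
        · intro _
          exact h
      · constructor
        · intro h4
          have h5 : (pullback.snd f (Spec.map (CommRingCat.ofHom (φ q))) y').asIdeal = ⊥ := h4
          rw [h] at h5
          exact (IsDiscreteValuationRing.not_a_field _ h5).elim
        · intro h4
          rw [h, hφ] at h4
          exact (h4 rfl).elim
    obtain ⟨m, hm⟩ := PicKer.exists_pull (pullback.fst f (Spec.map (CommRingCat.ofHom (φ q))))
      (gen f (φ q)) (fun i => K458.Decomp.pt (ξ i)) hD' hintg hrng M hM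
    · refine ⟨_, hm.symm, fun q' hq' => ?_⟩
      rw [map_prod]
      refine Finset.prod_eq_one fun i _ => ?_
      rw [map_zpow, pull_ic_eq_one, one_zpow]
      rw [← Scheme.IdealSheafData.support_eq_bot_iff]
      apply SetLike.coe_injective
      rw [Scheme.IdealSheafData.support_comap]
      change _ ⁻¹' ((K458.Decomp.pt (ξ i)).support : Set Y) = ∅
      rw [Set.eq_empty_iff_forall_notMem]
      intro y' hy'
      have h1 := hsuppi i hy'
      have h2 := (mem_fib_iff f q _).mp h1
      rw [f_fst] at h2
      rcases eq_bot_or_eq_max (pullback.snd f (Spec.map (CommRingCat.ofHom (φ q'))) y') with h | h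
      · rw [h, hker] at h2
        exact hqbot h2.symm
      · rw [h, hφ] at h2
        exact hq' (MaximalSpectrum.ext h2)

end

end K622.Trans
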