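import Groth.Prelude.Def_AlgSpGpd
import Groth.Prelude.Def_AlgSp2
import Groth.Prelude.Def_AlgSp3
import Groth.Agent.AlgSp.K632.FlatClos
import Mathlib.RingTheory.DedekindDomain.Basic
import Mathlib.RingTheory.KrullDimension.Basic

/-!
# Homogeneous spaces over a semi-local Dedekind base: vocabulary

`Sit act i`: `G` a group algebraic space over `S` acting on a separated algebraic space `M`, homogeneous,
both locally of finite type; `i : X ⟶ M` a quasi-compact open subspace which is closed in `M` fibre by
fibre (`FibClosed`). `Concl X`: an integral surjective morphism from a scheme such that the inverse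
image of a finite set of points lies in an affine open. `ThmB`: the theorem over semi-local Dedekind
domains; `OverDedekind`: its core, for `X` a scheme which is closed fibre by fibre.
-/

set_option autoImplicit false
universe u

open CategoryTheory CategoryTheory.Limits AlgebraicGeometry MonoidalCategory MonObj AlgSp

namespace K622.AnDefs

variable {S : Scheme.{u}}

/-- `i : X ⟶ M` (an open subspace) is closed fibre by fibre: for every field `k` over `S` and every scheme
`Z` over `k` with a map to `M` over `S` the inverse image of `X` in `Z` is closed. -/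
def FibClosed {X M : Sp S} (i : X ⟶ M) : Prop :=
  ∀ (k : Type u) [Field k] (t : Spec (CommRingCat.of k) ⟶ S) (Z V : Over S) (_ : Z ⟶ Over.mk t)
    (h : (yon S).obj Z ⟶ M) (v : V ⟶ Z) (h' : (yon S).obj V ⟶ X),
    IsPullback h' ((yon S).map v) i h → IsClosed (Set.range v.left)

/-- Every finite set of points is contained in an affine open. -/
def FinAff (Y : Scheme.{u}) : Prop :=
  ∀ E : Set ↥Y, E.Finite → ∃ U : Y.Opens, IsAffineOpen U ∧ E ⊆ (U : Set ↥Y)

/-- A group acting on itself by left translations. -/
noncomputable def selfAct {B : Sp S} (G : Over B) [GrpObj G] : GAction G G where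
  act := μ[G]
  one_act := by simp
  mul_act := by simp

/-- The situation (see the header). -/
structure Sit {G M : Over ((yon S).obj (Over.mk (𝟙 S)))} [GrpObj G] (act : GAction G M) {X : Sp S}
    (i : X ⟶ M.left) : Prop where
  algG : IsAlgSpace G.left
  lftG : LocP @LocallyOfFiniteType G.hom
  algM : IsAlgSpace M.left
  lftM : LocP @LocallyOfFiniteType M.hom
  sepM : IsSeparatedSp M.left
  hom : Epi (CartesianMonoidalCategory.lift act.act (CartesianMonoidalCategory.snd G M)).left
  op : RepWith @IsOpenImmersion i
  qc : IsQuasiCompactSp X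

/-- The orbit map `(g, z) ↦ (g x(z), z)` of a point `x` of `M` with values in `T`. -/
noncomputable def orb {G M : Over ((yon S).obj (Over.mk (𝟙 S)))} [GrpObj G] (act : GAction G M)
    {T : Over S} (x : (yon S).obj T ⟶ M.left) :
    pullback G.hom ((yon S).map (Over.homMk T.hom (Category.comp_id T.hom) : T ⟶ Over.mk (𝟙 S))) ⟶
      pullback M.hom ((yon S).map (Over.homMk T.hom (Category.comp_id T.hom) : T ⟶ Over.mk (𝟙 S))) :=
  pullback.lift (pullback.lift (pullback.fst _ _) (pullback.snd _ _ ≫ x)
      ((K596.QC2.isTerminalYon S).hom_ext _ _) ≫ act.act.left)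
    (pullback.snd _ _) ((K596.QC2.isTerminalYon S).hom_ext _ _)

/-- The orbit maps of the points with values in fields are flat. -/
def OrbFlat {G M : Over ((yon S).obj (Over.mk (𝟙 S)))} [GrpObj G] (act : GAction G M) : Prop :=
  ∀ (k : Type u) [Field k] (t : Spec (CommRingCat.of k) ⟶ S) (x : (yon S).obj (Over.mk t) ⟶ M.left),
    LocP @Flat (orb act x)

/-- Near each closed point of `Spec R` the unit section factors through an open subscheme of `G`. -/
def UnitSch (R : Type u) [CommRing R]
    (G : Over ((yon (Spec (CommRingCat.of R))).obj (Over.mk (𝟙 (Spec (CommRingCat.of R)))))) [GrpObj G] :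
    Prop :=
  ∀ q : MaximalSpectrum R, ∃ (Γ : Over (Spec (CommRingCat.of R)))
    (j : (yon (Spec (CommRingCat.of R))).obj Γ ⟶ G.left)
    (T : Over (Spec (CommRingCat.of R))) (e : T ⟶ Γ),
    RepWith @IsOpenImmersion j ∧ IsSeparated Γ.hom ∧ LocallyOfFiniteType Γ.hom ∧ QuasiCompact Γ.hom ∧
    T = Over.mk (Spec.map (CommRingCat.ofHom (algebraMap R (Localization.AtPrime q.asIdeal)))) ∧
    (yon (Spec (CommRingCat.of R))).map e ≫ j =
      (yon (Spec (CommRingCat.of R))).map
        (Over.homMk T.hom (Category.comp_id T.hom) : T ⟶ Over.mk (𝟙 (Spec (CommRingCat.of R)))) ≫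
        η[G].left

/-- The conclusion: an integral surjective morphism from a scheme onto `X` such that the inverse image
of a finite set of points of `X` is contained in an affine open. -/
def Concl (X : Sp S) : Prop :=
  ∃ (Z : Over S) (π : (yon S).obj Z ⟶ X), RepWith @IsIntegralHom π ∧ RepWith @Surjective π ∧
    ∀ E : Set (Points X), E.Finite → ∃ U : Z.left.Opens, IsAffineOpen U ∧
      ∀ z : ↥Z.left, Points.ofPt π z ∈ E → z ∈ U

/-- The core over a semi-local Dedekind domain (`X` a scheme, closed in `M` fibre by fibre). -/
def OverDedekind : Prop :=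
  ∀ (R : Type u) [CommRing R] [IsDedekindDomain R] [Finite (MaximalSpectrum R)] (_ : ¬ IsField R)
    (G M : Over ((yon (Spec (CommRingCat.of R))).obj (Over.mk (𝟙 (Spec (CommRingCat.of R))))))
    [GrpObj G] (act : GAction G M) (X : Sp (Spec (CommRingCat.of R))) (i : X ⟶ M.left),
    Sit act i → FibClosed i → K632.FlatClos.FlatSp G.left → K632.FlatClos.FlatSp M.left →
    OrbFlat act → UnitSch R G → X.obj.IsRepresentable → Concl X

/-- **Theorem B** over a semi-local Dedekind domain. -/
def ThmB : Prop :=
  ∀ (R : Type u) [CommRing R] [IsDedekindDomain R] [Finite (MaximalSpectrum R)] (_ : ¬ IsField R)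
    (G M : Over ((yon (Spec (CommRingCat.of R))).obj (Over.mk (𝟙 (Spec (CommRingCat.of R))))))
    [GrpObj G] (act : GAction G M) (X : Sp (Spec (CommRingCat.of R))) (i : X ⟶ M.left),
    Sit act i → (IsSeparatedSp G.left ∨ G.left.obj.IsRepresentable) →
    K632.FlatClos.FlatSp G.left → K632.FlatClos.FlatSp M.left → Concl X

end K622.AnDefs
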