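import Groth.Prelude.Def_AlgSpDec

/-!
Basic facts on field-valued points of fppf sheaves: description of `Points` through morphisms from `h_{Spec K}`,
points of fibre products, points of a representable sheaf.
-/

set_option autoImplicit false
universe u
open CategoryTheory CategoryTheory.Limits AlgebraicGeometry Opposite Topology
open AlgSp

noncomputable section

namespace K622.Basic

variable {S : Scheme.{u}} {F G H P : Sp S}

/-- The field-valued point defined by a morphism from `h_{Spec K}`. -/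
def ofHom {K : Type u} [Field K] {str : Spec (CommRingCat.of K) ⟶ S}
    (i : (yon S).obj (Over.mk str) ⟶ F) : FieldPt F := ⟨K, str, (J S).uliftYonedaEquiv i⟩

@[simp] theorem toHom_ofHom {K : Type u} [Field K] {str : Spec (CommRingCat.of K) ⟶ S}
    (i : (yon S).obj (Over.mk str) ⟶ F) : (ofHom i).toHom = i :=
  Equiv.symm_apply_apply _ _

theorem ofHom_toHom (p : FieldPt F) : ofHom (K := p.K) (str := p.str) p.toHom = p := by
  obtain ⟨K, str, val⟩ := p
  change (⟨K, str, _⟩ : FieldPt F) = ⟨K, str, val⟩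
  congr 1
  exact FieldPt.uliftYonedaEquiv_toHom _

theorem map_ofHom {K : Type u} [Field K] {str : Spec (CommRingCat.of K) ⟶ S}
    (i : (yon S).obj (Over.mk str) ⟶ F) (f : F ⟶ G) : (ofHom i).map f = ofHom (i ≫ f) := by
  have h : ((ofHom i).map f).toHom = i ≫ f :=
    (FieldPt.toHom_map f (ofHom i)).trans
      (congrArg (fun z : (yon S).obj (Over.mk str) ⟶ F => z ≫ f) (toHom_ofHom i))
  rw [← ofHom_toHom ((ofHom i).map f)]
  exact congrArg (fun z : (yon S).obj (Over.mk str) ⟶ G => ofHom z) h

/-- Every point is the class of a morphism from the spectrum of a field. -/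
theorem exists_ofHom (x : Points F) : ∃ (K : Type u) (_ : Field K) (str : Spec (CommRingCat.of K) ⟶ S)
    (i : (yon S).obj (Over.mk str) ⟶ F), Points.mk (ofHom i) = x := by
  induction x using Points.ind with | h p =>
  exact ⟨p.K, inferInstance, p.str, p.toHom, congrArg _ (ofHom_toHom p)⟩

/-- Two morphisms from spectra of fields define the same point iff they agree after a common field extension. -/
theorem mk_ofHom_eq_iff {K L : Type u} [Field K] [Field L] {str : Spec (CommRingCat.of K) ⟶ S}
    {str' : Spec (CommRingCat.of L) ⟶ S}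
    (i : (yon S).obj (Over.mk str) ⟶ F) (j : (yon S).obj (Over.mk str') ⟶ F) :
    Points.mk (ofHom i) = Points.mk (ofHom j) ↔
    ∃ (Ω : Type u) (_ : Field Ω) (w : Spec (CommRingCat.of Ω) ⟶ S) (a : Over.mk w ⟶ Over.mk str)
      (b : Over.mk w ⟶ Over.mk str'), (yon S).map a ≫ i = (yon S).map b ≫ j := by
  have key : ∀ {Ω : Type u} [Field Ω] {w : Spec (CommRingCat.of Ω) ⟶ S} {K : Type u} [Field K]
      {str : Spec (CommRingCat.of K) ⟶ S} (a : Over.mk w ⟶ Over.mk str)
      (i : (yon S).obj (Over.mk str) ⟶ F),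
      (J S).uliftYonedaEquiv ((yon S).map a ≫ i) = F.obj.map a.op ((J S).uliftYonedaEquiv i) := by
    intro Ω _ w K _ str a i
    rw [GrothendieckTopology.map_uliftYonedaEquiv, GrothendieckTopology.uliftYonedaEquiv_comp,
      GrothendieckTopology.uliftYonedaEquiv_uliftYoneda_map]
  rw [Points.mk_eq_mk_iff]
  constructor
  · rintro ⟨Ω, _, w, a, b, h⟩
    refine ⟨Ω, inferInstance, w, a, b, ?_⟩
    apply (J S).uliftYonedaEquiv.injective
    exact (key a i).trans (h.trans (key b j).symm)
  · rintro ⟨Ω, _, w, a, b, h⟩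
    refine ⟨Ω, inferInstance, w, a, b, ?_⟩
    exact (key a i).symm.trans ((congrArg (J S).uliftYonedaEquiv h).trans (key b j))

theorem mk_ofHom_comp {K L : Type u} [Field K] [Field L] {str : Spec (CommRingCat.of K) ⟶ S}
    {w : Spec (CommRingCat.of L) ⟶ S} (a : Over.mk w ⟶ Over.mk str)
    (i : (yon S).obj (Over.mk str) ⟶ F) :
    Points.mk (ofHom ((yon S).map a ≫ i)) = Points.mk (ofHom i) := by
  rw [mk_ofHom_eq_iff]
  refine ⟨L, inferInstance, w, 𝟙 _, a, ?_⟩
  rw [(yon S).map_id, Category.id_comp]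

theorem ofPt_eq_mk {T : Over S} (g : (yon S).obj T ⟶ F) (t : ↥T.left) :
    Points.ofPt g t = Points.mk (ofHom (K := ↥(T.left.residueField t))
      (str := T.left.fromSpecResidueField t ≫ T.hom)
      ((yon S).map (Over.homMk (T.left.fromSpecResidueField t) rfl) ≫ g)) := by
  change Points.mk (FieldPt.ofPt g t) = _
  rw [← ofHom_toHom (FieldPt.ofPt g t)]
  exact congrArg (fun z => Points.mk (ofHom (K := ↥(T.left.residueField t))
      (str := T.left.fromSpecResidueField t ≫ T.hom) z)) (FieldPt.toHom_ofPt g t)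

/-- The point of `F` defined by `Spec K ⟶ T ⟶ F`. -/
theorem mk_ofHom_yon {T : Over S} (g : (yon S).obj T ⟶ F) {K : Type u} [Field K]
    {str : Spec (CommRingCat.of K) ⟶ S} (m : Over.mk str ⟶ T) :
    Points.mk (ofHom ((yon S).map m ≫ g)) = Points.ofPt g (m.left (IsLocalRing.closedPoint K)) := by
  have h := Points.ofScheme_apply_eq_mk T (K := K) (str := str) m.left (Over.w m)
  have h2 : (⟨K, str, ULift.up (Over.homMk m.left (Over.w m))⟩ : FieldPt ((yon S).obj T)) =
      ofHom ((yon S).map m) := by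
    change _ = (⟨K, str, _⟩ : FieldPt ((yon S).obj T))
    congr 1
  rw [h2] at h
  have h3 := congrArg (Points.map g) h
  rw [Points.map_mk, map_ofHom, ← Points.ofPt_eq_map_ofScheme] at h3
  exact h3.symm

/-- Points of a fibre product of sheaves surject onto compatible pairs of points. -/
theorem exists_of_isPullback {fst : P ⟶ F} {snd : P ⟶ G} {f : F ⟶ H} {g : G ⟶ H}
    (h : IsPullback fst snd f g) (x : Points F) (y : Points G) (hxy : Points.map f x = Points.map g y) :
    ∃ w : Points P, Points.map fst w = x ∧ Points.map snd w = y := by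
  obtain ⟨K, _, str, i, rfl⟩ := exists_ofHom x
  obtain ⟨L, _, str', j, rfl⟩ := exists_ofHom y
  rw [Points.map_mk, Points.map_mk, map_ofHom, map_ofHom, mk_ofHom_eq_iff] at hxy
  obtain ⟨Ω, _, w, a, b, hab⟩ := hxy
  let l : (yon S).obj (Over.mk w) ⟶ P := h.lift ((yon S).map a ≫ i) ((yon S).map b ≫ j) (by
    rw [Category.assoc, Category.assoc]; exact hab)
  refine ⟨Points.mk (ofHom l), ?_, ?_⟩
  · rw [Points.map_mk, map_ofHom, h.lift_fst]
    exact mk_ofHom_comp a i
  · rw [Points.map_mk, map_ofHom, h.lift_snd]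
    exact mk_ofHom_comp b j

theorem exists_ofScheme (T : Over S) (x : Points ((yon S).obj T)) : ∃ t : ↥T.left, Points.ofPt (𝟙 _) t = x :=
  ⟨Points.toScheme T x, Points.ofScheme_toScheme T x⟩

theorem ofPt_id_injective (T : Over S) : Function.Injective (Points.ofPt (𝟙 ((yon S).obj T))) :=
  (Points.schemeEquiv T).injective

theorem ofPt_yon_map' {T T' : Over S} (φ : T ⟶ T') (t : ↥T.left) :
    Points.ofPt ((yon S).map φ) t = Points.ofPt (𝟙 _) (φ.left t) := by
  have := Points.toScheme_ofPt φ t
  rw [← this]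
  exact (Points.ofScheme_toScheme _ _).symm

theorem ofPt_yon_map {T T' : Over S} (φ : T ⟶ T') (g : (yon S).obj T' ⟶ F) (t : ↥T.left) :
    Points.ofPt ((yon S).map φ ≫ g) t = Points.ofPt g (φ.left t) := by
  rw [← Points.map_ofPt, Points.ofPt_eq_map_ofScheme g]
  congr 1
  exact ofPt_yon_map' φ t

/-- Variant of `exists_of_isPullback` with represented corner. -/
theorem exists_pt_of_isPullback {W : Over S} {fst : (yon S).obj W ⟶ F} {snd : (yon S).obj W ⟶ G}
    {f : F ⟶ H} {g : G ⟶ H} (h : IsPullback fst snd f g) (x : Points F) (y : Points G)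
    (hxy : Points.map f x = Points.map g y) :
    ∃ w : ↥W.left, Points.ofPt fst w = x ∧ Points.ofPt snd w = y := by
  obtain ⟨w, h1, h2⟩ := exists_of_isPullback h x y hxy
  obtain ⟨w, rfl⟩ := exists_ofScheme W w
  refine ⟨w, ?_, ?_⟩
  · rw [← h1, Points.map_ofPt, Category.id_comp]
  · rw [← h2, Points.map_ofPt, Category.id_comp]

/-- Points of a represented fibre product `W = U ×_F V`. -/
theorem exists_pt_of_isPullback' {U V W : Over S} {a : W ⟶ U} {b : W ⟶ V} {f : (yon S).obj U ⟶ F}
    {g : (yon S).obj V ⟶ F} (h : IsPullback ((yon S).map a) ((yon S).map b) f g) (x : ↥U.left) (y : ↥V.left)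
    (hxy : Points.ofPt f x = Points.ofPt g y) :
    ∃ w : ↥W.left, a.left w = x ∧ b.left w = y := by
  obtain ⟨w, h1, h2⟩ := exists_pt_of_isPullback h (Points.ofPt (𝟙 _) x) (Points.ofPt (𝟙 _) y) (by
    rw [Points.map_ofPt, Points.map_ofPt, Category.id_comp, Category.id_comp, hxy])
  refine ⟨w, ?_, ?_⟩
  · apply ofPt_id_injective
    rw [← h1, ofPt_yon_map']
  · apply ofPt_id_injective
    rw [← h2, ofPt_yon_map']

/-- Mixed variant: a represented corner over a scheme `U` and a sheaf `G`. -/
theorem exists_pt_of_isPullback_left {U W : Over S} {a : W ⟶ U} {b : (yon S).obj W ⟶ G}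
    {f : (yon S).obj U ⟶ F} {g : G ⟶ F} (h : IsPullback ((yon S).map a) b f g) (x : ↥U.left) (y : Points G)
    (hxy : Points.ofPt f x = Points.map g y) :
    ∃ w : ↥W.left, a.left w = x ∧ Points.ofPt b w = y := by
  obtain ⟨w, h1, h2⟩ := exists_pt_of_isPullback h (Points.ofPt (𝟙 _) x) y (by
    rw [Points.map_ofPt, Category.id_comp, hxy])
  refine ⟨w, ?_, h2⟩
  apply ofPt_id_injective
  rw [← h1, ofPt_yon_map']

/-- Base change of a representable morphism `h_U ⟶ F` along `h_V ⟶ F`. -/
theorem exists_pullback_yon {U V : Over S} {f : (yon S).obj U ⟶ F} (hf : Representable f)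
    (g : (yon S).obj V ⟶ F) :
    ∃ (W : Over S) (a : W ⟶ U) (b : W ⟶ V), IsPullback ((yon S).map a) ((yon S).map b) f g :=
  ⟨hf.pullback g, hf.fst' g, hf.snd g, hf.isPullback' g⟩

theorem mono_fst_of_isPullback {C : Type*} [Category* C] {A B D E : C} {fst : A ⟶ B} {snd : A ⟶ D} {f : B ⟶ E}
    {g : D ⟶ E} (h : IsPullback fst snd f g) [Mono g] : Mono fst :=
  ⟨fun a b hab => h.hom_ext hab (by
    rw [← cancel_mono g, Category.assoc, Category.assoc, ← h.w, ← Category.assoc, ← Category.assoc, hab])⟩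

theorem mono_snd_of_isPullback {C : Type*} [Category* C] {A B D E : C} {fst : A ⟶ B} {snd : A ⟶ D} {f : B ⟶ E}
    {g : D ⟶ E} (h : IsPullback fst snd f g) [Mono f] : Mono snd :=
  mono_fst_of_isPullback h.flip

theorem isIso_fst_of_isPullback_self {C : Type*} [Category* C] {A B E : C} {fst snd : A ⟶ B} {f : B ⟶ E}
    (h : IsPullback fst snd f f) [Mono f] : IsIso fst := by
  have hs : fst = snd := by rw [← cancel_mono f, h.w]
  subst hs
  refine ⟨h.lift (𝟙 _) (𝟙 _) rfl, h.hom_ext ?_ ?_, h.lift_fst _ _ _⟩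
  · rw [Category.assoc, h.lift_fst, Category.comp_id, Category.id_comp]
  · rw [Category.assoc, h.lift_fst, Category.comp_id, Category.id_comp]

theorem isPullback_over {W U V T : Over S} {a : W ⟶ U} {b : W ⟶ V} {c : U ⟶ T} {d : V ⟶ T}
    (h : IsPullback ((yon S).map a) ((yon S).map b) ((yon S).map c) ((yon S).map d)) :
    IsPullback a b c d :=
  IsPullback.of_map (yon S) ((yon S).map_injective (by simpa using h.w)) h

theorem isPullback_left {W U V T : Over S} {a : W ⟶ U} {b : W ⟶ V} {c : U ⟶ T} {d : V ⟶ T}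
    (h : IsPullback ((yon S).map a) ((yon S).map b) ((yon S).map c) ((yon S).map d)) :
    IsPullback a.left b.left c.left d.left :=
  (isPullback_over h).map (Over.forget S)

end K622.Basic
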