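import Groth.Agent.Fdesc.AmpleDescent
import Groth.Agent.Grpsch.PicGrp
import Groth.Agent.Ega1.AmpFam
import Groth.Agent.CohqB.ProjLift2

/-!
# Sections of classes in the Picard group and pointwise descent of ampleness

* `HasSec c V`: the class `c ∈ Pic X` is represented by an invertible module with a global section
  whose generating locus is `V`.
* `isAmple_of_forall`: an invertible module on a qcqs scheme is ample as soon as every point `x` has
  a point `x'` above it in some flat affine base change `X'` of `X`, such that a positive power of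
  the pullback of `L` has a section whose generating locus is affine and contains `x'`.
-/

set_option autoImplicit false
universe u

open CategoryTheory CategoryTheory.Limits AlgebraicGeometry Opposite TopologicalSpace

namespace K622.AmpCore

open Groth.Agent.Fdesc.LocGen Groth.Agent.Grpsch.PicGrp Groth.Agent.Fdesc.AmpleDescent

set_option maxHeartbeats 400000
set_option backward.isDefEq.respectTransparency.types false

noncomputable section

variable {X Y : Scheme.{u}}

/-- The class `c` has a representative with a global section with generating locus `V`. -/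
def HasSec (c : Pic X) (V : X.Opens) : Prop :=
  ∃ (L : X.Modules) (hL : PicF.IsInvertible L) (s : Coh.structureModule X ⟶ L),
    c = mk L hL ∧ CohB1.genLocus L s = V

theorem HasSec.exists_section {L : X.Modules} {hL : PicF.IsInvertible L} {V : X.Opens}
    (h : HasSec (mk L hL) V) : ∃ s : Coh.structureModule X ⟶ L, CohB1.genLocus L s = V := by
  obtain ⟨M, hM, s, h1, h2⟩ := h
  obtain ⟨e⟩ := (mk_eq_iff hL hM).mp h1
  exact ⟨s ≫ e.symm.hom, (Groth.Agent.CohqB.ProjLift.genLocus_comp_iso e.symm s).trans h2⟩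

theorem HasSec.of_section {L : X.Modules} (hL : PicF.IsInvertible L)
    (s : Coh.structureModule X ⟶ L) : HasSec (mk L hL) (CohB1.genLocus L s) :=
  ⟨L, hL, s, rfl, rfl⟩

theorem HasSec.mul {c c' : Pic X} {V V' : X.Opens} (h : HasSec c V) (h' : HasSec c' V') :
    HasSec (c * c') (V ⊓ V') := by
  obtain ⟨L, hL, s, rfl, rfl⟩ := h
  obtain ⟨L', hL', s', rfl, rfl⟩ := h'
  exact ⟨_, _, tmulHom s s', mk_mul_mk hL hL', genLocus_tmulHom hL hL' s s'⟩

theorem HasSec.pow {c : Pic X} {V : X.Opens} (h : HasSec c V) {n : ℕ} (hn : 0 < n) :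
    HasSec (c ^ n) V := by
  obtain ⟨L, hL, s, rfl, rfl⟩ := h
  obtain ⟨m, rfl⟩ : ∃ m, n = m + 1 := ⟨n - 1, by omega⟩
  exact ⟨_, _, powHom s (m + 1), (mk_tensorPow hL (m + 1)).symm, genLocus_powHom hL s m⟩

theorem HasSec.pull {c : Pic Y} {V : Y.Opens} (h : HasSec c V) (f : X ⟶ Y) :
    HasSec (Groth.Agent.Grpsch.PicGrp.pull f c) (f ⁻¹ᵁ V) := by
  obtain ⟨L, hL, s, rfl, rfl⟩ := h
  exact ⟨_, _, pullHom f s, pull_mk f hL, Groth.Agent.Ega1.AmpFam.genLocus_pullHom f hL s⟩

/-- A section with affine generating locus containing `x'`, over a flat base change, gives sections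
over `X` with small generating locus at the image of `x'`. -/
theorem exists_of_pt {X' Z Z' : Scheme.{u}} [IsAffine Z] [IsAffine Z'] (f : X ⟶ Z) (g : Z' ⟶ Z)
    (p : X' ⟶ X) (b : X' ⟶ Z') (H : IsPullback p b f g) [CompactSpace X]
    [QuasiSeparatedSpace X] [Flat g] (L : X.Modules) (hL : PicF.IsInvertible L)
    (x' : X') (n : ℕ) (hn : 0 < n) (V' : X'.Opens) (hx' : x' ∈ V') (hV' : IsAffineOpen V')
    (hs : HasSec (Groth.Agent.Grpsch.PicGrp.pull p (mk L hL) ^ n) V') (W : X.Opens) (hW : p x' ∈ W) :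
    ∃ (m : ℕ) (s : Coh.structureModule X ⟶ CohB1.tensorPow L (m + 1)),
      p x' ∈ CohB1.genLocus _ s ∧ CohB1.genLocus _ s ≤ W := by
  have hg : IsAffineHom g := inferInstance
  have hp : IsAffineHom p := MorphismProperty.of_isPullback H.flip hg
  have : CompactSpace X' := QuasiCompact.compactSpace_of_compactSpace p
  have : QuasiSeparatedSpace X' := quasiSeparatedSpace_of_quasiSeparated p
  obtain ⟨m, rfl⟩ : ∃ m, n = m + 1 := ⟨n - 1, by omega⟩
  rw [pull_mk, ← mk_tensorPow] at hs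
  obtain ⟨s', hs'⟩ := hs.exists_section
  obtain ⟨φ, hφW, hxφ⟩ := hV'.exists_basicOpen_le ⟨x', (show x' ∈ p ⁻¹ᵁ W from hW)⟩ hx'
  subst hs'
  obtain ⟨k, t, ht⟩ := exists_genLocus_eq_basicOpen (isInvertible_pullback p hL) m s' φ
  exact exists_section_of_section f g p b H L hL x' W k t (by rwa [ht]) (by rw [ht]; exact hφW)

/-- Pointwise criterion of ampleness. -/
theorem isAmple_of_forall [CompactSpace X] [QuasiSeparatedSpace X] (L : X.Modules)
    (hL : PicF.IsInvertible L)
    (h : ∀ x : X, ∃ (X' Z Z' : Scheme.{u}) (_ : IsAffine Z) (_ : IsAffine Z') (f : X ⟶ Z)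
      (g : Z' ⟶ Z) (p : X' ⟶ X) (b : X' ⟶ Z') (_ : IsPullback p b f g) (_ : Flat g)
      (x' : X') (n : ℕ) (V' : X'.Opens), p x' = x ∧ 0 < n ∧ x' ∈ V' ∧ IsAffineOpen V' ∧
        HasSec (Groth.Agent.Grpsch.PicGrp.pull p (mk L hL) ^ n) V') : CohB1.IsAmple L := by
  refine isAmple_of_forall_exists hL fun x W hxW => ?_
  obtain ⟨X', Z, Z', _, _, f, g, p, b, H, _, x', n, V', rfl, hn, hx', hV', hs⟩ := h x
  exact exists_of_pt f g p b H L hL x' n hn V' hx' hV' hs W hxW

/-- **Ampleness from generic translations.**  `U` is an affine open of `X`, the generating locus of a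
section of the class `c`; `X' i` are flat affine base changes of `X` with two further affine maps
`a i`, `b i` to `X` such that every point of `X` has a point above it in some `X' i` mapped into `U`
by both `a i` and `b i`; if the classes `(a i)^* c * (b i)^* c` come, up to a power, from one class
`N` on `X`, then `N` is ample. -/
theorem isAmple_of_translations [CompactSpace X] [QuasiSeparatedSpace X] {ι : Type*}
    (X' Z Z' : ι → Scheme.{u}) [∀ i, IsAffine (Z i)] [∀ i, IsAffine (Z' i)]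
    [∀ i, (X' i).IsSeparated]
    (f : ∀ i, X ⟶ Z i) (g : ∀ i, Z' i ⟶ Z i) [∀ i, Flat (g i)] (p a b : ∀ i, X' i ⟶ X)
    (s : ∀ i, X' i ⟶ Z' i) (H : ∀ i, IsPullback (p i) (s i) (f i) (g i))
    [∀ i, IsAffineHom (a i)] [∀ i, IsAffineHom (b i)]
    (U : X.Opens) (hU : IsAffineOpen U) (c : Pic X) (hc : HasSec c U)
    (hd : ∀ x : X, ∃ (i : ι) (x' : X' i), p i x' = x ∧ a i x' ∈ U ∧ b i x' ∈ U)
    (n : ℕ) (hn : 0 < n) (L : X.Modules) (hL : PicF.IsInvertible L)
    (hN : ∀ i, Groth.Agent.Grpsch.PicGrp.pull (p i) (mk L hL) =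
      (Groth.Agent.Grpsch.PicGrp.pull (a i) c * Groth.Agent.Grpsch.PicGrp.pull (b i) c) ^ n) :
    CohB1.IsAmple L := by
  refine isAmple_of_forall L hL fun x => ?_
  obtain ⟨i, x', rfl, ha, hb⟩ := hd x
  refine ⟨X' i, Z i, Z' i, inferInstance, inferInstance, f i, g i, p i, s i, H i, inferInstance, x', 1,
    (a i ⁻¹ᵁ U) ⊓ (b i ⁻¹ᵁ U), rfl, Nat.one_pos, ⟨ha, hb⟩,
    (hU.preimage (a i)).inf (hU.preimage (b i)), ?_⟩
  rw [pow_one, hN i]
  exact ((hc.pull (a i)).mul (hc.pull (b i))).pow hn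

/-- Existence form: it is enough to know the classes `(a i)^* c * (b i)^* c * (p i)^* c ^ (-2)` up to
powers after some pull-back `j i`, when the kernels of `pull (j i)` come from `X`. -/
theorem exists_isAmple [CompactSpace X] [QuasiSeparatedSpace X] {ι : Type*} [Finite ι]
    (X' XF Z Z' : ι → Scheme.{u}) [∀ i, IsAffine (Z i)] [∀ i, IsAffine (Z' i)]
    [∀ i, (X' i).IsSeparated]
    (f : ∀ i, X ⟶ Z i) (g : ∀ i, Z' i ⟶ Z i) [∀ i, Flat (g i)] (p a b : ∀ i, X' i ⟶ X)
    (s : ∀ i, X' i ⟶ Z' i) (H : ∀ i, IsPullback (p i) (s i) (f i) (g i))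
    [∀ i, IsAffineHom (a i)] [∀ i, IsAffineHom (b i)] (j : ∀ i, XF i ⟶ X' i)
    (U : X.Opens) (hU : IsAffineOpen U) (c : Pic X) (hc : HasSec c U)
    (hd : ∀ x : X, ∃ (i : ι) (x' : X' i), p i x' = x ∧ a i x' ∈ U ∧ b i x' ∈ U)
    (hj : ∀ i, ∃ n : ℕ, 0 < n ∧ Groth.Agent.Grpsch.PicGrp.pull (j i)
      ((Groth.Agent.Grpsch.PicGrp.pull (a i) c * Groth.Agent.Grpsch.PicGrp.pull (b i) c *
        (Groth.Agent.Grpsch.PicGrp.pull (p i) c ^ 2)⁻¹) ^ n) = 1)
    (hK : ∀ (i : ι) (M : Pic (X' i)), Groth.Agent.Grpsch.PicGrp.pull (j i) M = 1 →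
      ∃ N : Pic X, Groth.Agent.Grpsch.PicGrp.pull (p i) N = M ∧
        ∀ i', i' ≠ i → Groth.Agent.Grpsch.PicGrp.pull (p i') N = 1) :
    ∃ L : X.Modules, CohB1.IsAmple L := by
  classical
  cases nonempty_fintype ι
  choose n hn hjn using hj
  let m : ℕ := ∏ i, n i
  have hm : 0 < m := Finset.prod_pos fun i _ => hn i
  let E : ∀ i, Pic (X' i) := fun i =>
    Groth.Agent.Grpsch.PicGrp.pull (a i) c * Groth.Agent.Grpsch.PicGrp.pull (b i) c *
        (Groth.Agent.Grpsch.PicGrp.pull (p i) c ^ 2)⁻¹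
  have hjm : ∀ i, Groth.Agent.Grpsch.PicGrp.pull (j i) (E i ^ m) = 1 := by
    intro i
    obtain ⟨k, hk⟩ : n i ∣ m := Finset.dvd_prod_of_mem n (Finset.mem_univ i)
    rw [hk, pow_mul, map_pow]
    rw [show Groth.Agent.Grpsch.PicGrp.pull (j i) (E i ^ n i) = 1 from hjn i, one_pow]
  choose N hN hN' using fun i => hK i (E i ^ m) (hjm i)
  obtain ⟨L, hL, hLN⟩ := exists_mk (c ^ (2 * m) * ∏ i, N i)
  refine ⟨L, isAmple_of_translations X' Z Z' f g p a b s H U hU c hc hd m hm L hL fun i => ?_⟩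
  rw [← hLN, map_mul, map_prod, map_pow, Finset.prod_eq_single i (fun i' _ h => hN' i' i h.symm)
    (fun h => (h (Finset.mem_univ i)).elim), hN i]
  change Groth.Agent.Grpsch.PicGrp.pull (p i) c ^ (2 * m) *
    (Groth.Agent.Grpsch.PicGrp.pull (a i) c * Groth.Agent.Grpsch.PicGrp.pull (b i) c *
        (Groth.Agent.Grpsch.PicGrp.pull (p i) c ^ 2)⁻¹) ^ m = _
  rw [mul_pow, inv_pow, ← pow_mul, mul_comm, mul_assoc, inv_mul_cancel, mul_one]

end

end K622.AmpCore
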