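import Groth.Agent.Surf.K455.PicLoc
import Groth.Agent.Divis.EffCartier
import Groth.Agent.Dix.IdealModCartier

/-!
# Classes on `X'` which are trivial off finitely many integral divisors pulled back from `X`

* `ic D hD`: the class of the ideal module of an effective Cartier ideal sheaf in `Pic X`.
* `exists_pull`: `p : X' ⟶ X` flat, `X'` integral Noetherian, `D i` effective Cartier ideal sheaves on
  `X` whose pull-backs to `X'` are integral; a class on `X'` which is trivial off the pull-backs of
  the `D i` is the pull-back of a product of integral powers of the classes of the `D i`.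
-/

set_option autoImplicit false
universe u

open CategoryTheory CategoryTheory.Limits AlgebraicGeometry Opposite TopologicalSpace

namespace K622.PicKer

open Groth.Agent Groth.Agent.Fdesc.LocGen Groth.Agent.Dix.IdealModCartier
open Groth.Agent.Grpsch.PicGrp Groth.Agent.Fga.PicMon Groth.Agent.Divis.EffCartier

set_option maxHeartbeats 400000
set_option backward.isDefEq.respectTransparency.types false

noncomputable section

variable {X : Scheme.{u}}

/-- The class of `O_X(-D)`. -/
def ic (D : X.IdealSheafData) (hD : BlowUp.IsEffCartierIdeal D) : Pic X :=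
  mk (ClSub.idealMod D) (isInvertible_idealMod hD)

theorem ic_mul {D E : X.IdealSheafData} (hD : BlowUp.IsEffCartierIdeal D)
    (hE : BlowUp.IsEffCartierIdeal E) : ic (D * E) (isEff_mul hD hE) = ic D hD * ic E hE := by
  unfold ic
  rw [mk_mul_mk, mk_eq_iff]
  obtain ⟨e⟩ := idealMod_mul hD hE
  exact ⟨e.symm⟩

theorem ic_congr {D E : X.IdealSheafData} (hD : BlowUp.IsEffCartierIdeal D)
    (hE : BlowUp.IsEffCartierIdeal E) (h : D = E) : ic D hD = ic E hE := by subst h; rfl

theorem ic_top : ic (⊤ : X.IdealSheafData) isEff_top = 1 := by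
  have h := ic_mul (X := X) isEff_top isEff_top
  rw [ic_congr (D := (⊤ * ⊤ : X.IdealSheafData)) (isEff_mul isEff_top isEff_top) isEff_top
    (by rw [← Scheme.IdealSheafData.one_eq_top, one_mul])] at h
  exact (mul_eq_left.mp h.symm)

theorem isEff_one : BlowUp.IsEffCartierIdeal (1 : X.IdealSheafData) := by
  rw [Scheme.IdealSheafData.one_eq_top]; exact isEff_top

theorem ic_one : ic (1 : X.IdealSheafData) isEff_one = 1 := by
  rw [ic_congr isEff_one isEff_top Scheme.IdealSheafData.one_eq_top, ic_top]

theorem ic_pow {D : X.IdealSheafData} (hD : BlowUp.IsEffCartierIdeal D) (n : ℕ) :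
    ic (D ^ n) (isEff_pow hD n) = ic D hD ^ n := by
  induction n with
  | zero => rw [ic_congr (isEff_pow hD 0) isEff_one (pow_zero D), ic_one, pow_zero]
  | succ n ih =>
    rw [ic_congr (isEff_pow hD (n + 1)) (isEff_mul (isEff_pow hD n) hD) (pow_succ D n),
      ic_mul (isEff_pow hD n) hD, ih, pow_succ]

theorem isEff_prod {ι : Type*} (s : Finset ι) (D : ι → X.IdealSheafData)
    (hD : ∀ i, BlowUp.IsEffCartierIdeal (D i)) : BlowUp.IsEffCartierIdeal (∏ i ∈ s, D i) := by
  classical
  induction s using Finset.induction_on with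
  | empty => rw [Finset.prod_empty]; exact isEff_one
  | insert a s has ih => rw [Finset.prod_insert has]; exact isEff_mul (hD a) ih

theorem ic_prod {ι : Type*} (s : Finset ι) (D : ι → X.IdealSheafData)
    (hD : ∀ i, BlowUp.IsEffCartierIdeal (D i)) :
    ic (∏ i ∈ s, D i) (isEff_prod s D hD) = ∏ i ∈ s, ic (D i) (hD i) := by
  classical
  induction s using Finset.induction_on with
  | empty => rw [ic_congr (isEff_prod ∅ D hD) isEff_one Finset.prod_empty, ic_one]; rfl
  | insert a s has ih =>
    rw [ic_congr (isEff_prod _ D hD) (isEff_mul (hD a) (isEff_prod s D hD)) (Finset.prod_insert has),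
      ic_mul (hD a) (isEff_prod s D hD), Finset.prod_insert has, ih]

theorem isEff_prod_pow {ι : Type*} (s : Finset ι) (D : ι → X.IdealSheafData)
    (hD : ∀ i, BlowUp.IsEffCartierIdeal (D i)) (n : ι → ℕ) :
    BlowUp.IsEffCartierIdeal (∏ i ∈ s, D i ^ n i) :=
  isEff_prod s _ fun i => isEff_pow (hD i) (n i)

theorem ic_prod_pow {ι : Type*} (s : Finset ι) (D : ι → X.IdealSheafData)
    (hD : ∀ i, BlowUp.IsEffCartierIdeal (D i)) (n : ι → ℕ) :
    ic (∏ i ∈ s, D i ^ n i) (isEff_prod_pow s D hD n) = ∏ i ∈ s, ic (D i) (hD i) ^ n i := by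
  rw [ic_prod s (fun i => D i ^ n i) (fun i => isEff_pow (hD i) (n i))]
  exact Finset.prod_congr rfl fun i _ => ic_pow (hD i) (n i)

theorem pull_ic {Y : Scheme.{u}} (f : Y ⟶ X) {D : X.IdealSheafData}
    (hD : BlowUp.IsEffCartierIdeal D) (hD' : BlowUp.IsEffCartierIdeal (D.comap f)) :
    pull f (ic D hD) = ic (D.comap f) hD' := by
  unfold ic
  rw [pull_mk, mk_eq_iff]
  exact pullback_idealMod f hD hD'

/-- A class pulls back to `1` along a morphism which misses the divisor. -/
theorem pull_ic_eq_one {Y : Scheme.{u}} (f : Y ⟶ X) {D : X.IdealSheafData}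
    (hD : BlowUp.IsEffCartierIdeal D) (h : D.comap f = ⊤) : pull f (ic D hD) = 1 := by
  rw [pull_ic f hD (h.symm ▸ isEff_top), ic_congr _ isEff_top h, ic_top]

/-- In terms of invertible modules. -/
theorem mk_eq_of_mc {L M : X.Modules} (hL : PicF.IsInvertible L) (hM : PicF.IsInvertible M)
    (h : mc L = mc M) : mk L hL = mk M hM := by
  rw [mk_eq_iff]
  exact (mc_eq_iff L M).mp h

theorem support_prod {ι : Type*} (s : Finset ι) (D : ι → X.IdealSheafData) :
    ((∏ i ∈ s, D i).support : Set X) = ⋃ i ∈ s, ((D i).support : Set X) := by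
  classical
  induction s using Finset.induction_on with
  | empty =>
    rw [Finset.prod_empty, Scheme.IdealSheafData.one_eq_top]
    simp
  | insert a s has ih =>
    rw [Finset.prod_insert has, Scheme.IdealSheafData.support_mul, Finset.set_biUnion_insert]
    change ((D a).support : Set X) ∪ ((∏ i ∈ s, D i).support : Set X) = _
    rw [ih]

/-- **The kernel of restriction to the complement of integral divisors.** -/
theorem exists_prod [IsIntegral X] [IsNoetherian X] {V : Scheme.{u}} (j : V ⟶ X)
    [IsOpenImmersion j] [Nonempty V] {r : ℕ} (D : Fin r → X.IdealSheafData)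
    (hD : ∀ i, BlowUp.IsEffCartierIdeal (D i)) (hint : ∀ i, IsIntegral (D i).subscheme)
    (hj : Set.range j = (⋃ i, ((D i).support : Set X))ᶜ) (M : Pic X) (hM : pull j M = 1) :
    ∃ b : Fin r → ℤ, M = ∏ i, ic (D i) (hD i) ^ b i := by
  obtain ⟨N, hN, rfl⟩ := exists_mk M
  rw [pull_mk, mk_eq_one_iff] at hM
  obtain ⟨s, hs⟩ := Models.H38.TrivGen.exists_isGen_opensRange j hM
  have hsupp : ((∏ i, D i).support : Set X) = ⋃ i, ((D i).support : Set X) := by
    rw [support_prod]; simp
  obtain ⟨m, D', hD', hD's, h⟩ := K455.PicLoc.exists_divisor_off (∏ i, D i)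
    (isEff_prod Finset.univ D hD) hN (U := j.opensRange) (by rw [hsupp]; exact hj)
    (Set.range_nonempty j) s hs
  obtain ⟨c, hc⟩ := S1659.result X D' hD' r D hD hint (by rw [← hsupp]; exact hD's)
  have h1 : mk N hN * ic D' hD' = ic (∏ i, D i) (isEff_prod Finset.univ D hD) ^ m := by
    rw [← ic_pow, ic, ic, mk_mul_mk]
    apply mk_eq_of_mc
    rw [mc_tensor, h, Models.H38.TrivGen.mc_idealMod_pow (isEff_prod Finset.univ D hD)]
  rw [ic_congr hD' (isEff_prod_pow Finset.univ D hD c) hc, ic_prod_pow, ic_prod] at h1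
  refine ⟨fun i => (m : ℤ) - (c i : ℤ), ?_⟩
  rw [eq_mul_inv_of_mul_eq h1, ← Finset.prod_pow, ← Finset.prod_inv_distrib,
    ← Finset.prod_mul_distrib]
  refine Finset.prod_congr rfl fun i _ => ?_
  rw [zpow_sub, zpow_natCast, zpow_natCast]

/-- **Descent of classes trivial off integral divisors which come from `X`.** -/
theorem exists_pull {X' V : Scheme.{u}} [IsIntegral X'] [IsNoetherian X'] (p : X' ⟶ X) [Flat p]
    (j : V ⟶ X') [IsOpenImmersion j] [Nonempty V] {r : ℕ} (D : Fin r → X.IdealSheafData)
    (hD : ∀ i, BlowUp.IsEffCartierIdeal (D i))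
    (hint : ∀ i, IsIntegral ((D i).comap p).subscheme)
    (hj : Set.range j = (⋃ i, p ⁻¹' ((D i).support : Set X))ᶜ) (M : Pic X') (hM : pull j M = 1) :
    ∃ b : Fin r → ℤ, M = pull p (∏ i, ic (D i) (hD i) ^ b i) := by
  obtain ⟨b, hb⟩ := exists_prod j (fun i => (D i).comap p) (fun i => isEff_comap_flat (hD i) p)
    hint (by
      rw [hj]
      congr 1
      refine Set.iUnion_congr fun i => ?_
      rw [Scheme.IdealSheafData.support_comap]
      rfl) M hM
  refine ⟨b, ?_⟩
  rw [hb, map_prod]
  refine Finset.prod_congr rfl fun i _ => ?_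
  rw [map_zpow, pull_ic p (hD i) (isEff_comap_flat (hD i) p)]

end

end K622.PicKer
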