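import Groth.Agent.Surf.K458.Decomp
import Groth.Agent.AlgSp.K647.VanEff
import Groth.Agent.AlgSp.K622.AmpCore
import Groth.Agent.AlgSp.K622.PicKer
import Groth.Agent.S0217
import Mathlib.RingTheory.DedekindDomain.PID
import Mathlib.AlgebraicGeometry.Morphisms.Flat
import Mathlib.RingTheory.Ideal.KrullsHeightTheorem

/-!
# Maximal points of the fibres of a flat scheme over a semi-local Dedekind domain

* `IsMaxFib f y`: `y` is a maximal (= generic) point of its fibre.
* `dim_stalk`: a maximal point of a closed fibre has a one-dimensional local ring.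
* `exists_affine`: one affine open contains all the maximal points of all the fibres.
* `exists_gens`: finitely many maximal points in a closed fibre, their closures cover it.
-/

set_option autoImplicit false
universe u

open CategoryTheory CategoryTheory.Limits AlgebraicGeometry TopologicalSpace

namespace K622.FibPts

open Groth.Agent

set_option maxHeartbeats 400000
set_option backward.isDefEq.respectTransparency.types false

noncomputable section

/-- `y` is a maximal point of its fibre. -/
def IsMaxFib {Y S : Scheme.{u}} (f : Y ⟶ S) (y : Y) : Prop :=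
  ∀ z : Y, z ⤳ y → f z = f y → z = y

section basic

variable {R : Type u} [CommRing R] {Y : Scheme.{u}} (f : Y ⟶ Spec (CommRingCat.of R))

theorem isMaxFib_genericPoint [IrreducibleSpace Y] : IsMaxFib f (genericPoint Y) :=
  fun z hz _ => (hz.antisymm (genericPoint_specializes z)).eq

/-- The ring homomorphism from the base to a local ring. -/
def toStalk (y : Y) : R →+* Y.presheaf.stalk y :=
  (Spec.preimage (Y.fromSpecStalk y ≫ f)).hom

theorem map_toStalk (y : Y) : Spec.map (CommRingCat.ofHom (toStalk f y)) = Y.fromSpecStalk y ≫ f :=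
  Spec.map_preimage _

theorem apply_fromSpecStalk (y : Y) (p : Spec (Y.presheaf.stalk y)) :
    (f (Y.fromSpecStalk y p)).asIdeal = p.asIdeal.comap (toStalk f y) := by
  have h := congrArg (fun g : Spec (Y.presheaf.stalk y) ⟶ Spec (CommRingCat.of R) =>
    (g p).asIdeal) (map_toStalk f y)
  exact h.symm

variable [IsDomain R]

/-- A flat morphism from an irreducible scheme sends the generic point to the generic point. -/
theorem map_genericPoint [Flat f] [IrreducibleSpace Y] : (f (genericPoint Y)).asIdeal = ⊥ := by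
  have h1 : (⊥ : PrimeSpectrum R) ⤳ (f (genericPoint Y) : PrimeSpectrum R) := by
    rw [← PrimeSpectrum.le_iff_specializes]
    exact bot_le
  obtain ⟨z, hz, hz'⟩ := Flat.generalizingMap f h1
  have h2 : z = genericPoint Y := ((genericPoint_specializes z).antisymm hz).eq.symm
  rw [← h2, hz']
  rfl

theorem eq_of_isMaxFib [Flat f] [IrreducibleSpace Y] {y : Y} (hy : IsMaxFib f y)
    (h : (f y).asIdeal = ⊥) : y = genericPoint Y := by
  refine (hy (genericPoint Y) (genericPoint_specializes y) ?_).symm
  apply PrimeSpectrum.ext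
  rw [h, map_genericPoint f]

/-- Maximal points of closed fibres have one-dimensional local rings. -/
theorem dim_stalk [Flat f] [IsIntegral Y] [IsLocallyNoetherian Y] {y : Y} (hy : IsMaxFib f y)
    {ϖ : R} (hϖ : ϖ ≠ 0) (h : (f y).asIdeal = Ideal.span {ϖ}) :
    ringKrullDim (Y.presheaf.stalk y) = 1 := by
  have hmax : ∀ p : Ideal (Y.presheaf.stalk y), p.IsPrime → toStalk f y ϖ ∈ p →
      p = IsLocalRing.maximalIdeal _ := by
    intro p hp hϖp
    let P : Spec (Y.presheaf.stalk y) := ⟨p, hp⟩
    have h1 : Y.fromSpecStalk y P ⤳ y := by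
      have : Y.fromSpecStalk y P ∈ Set.range (Y.fromSpecStalk y) := ⟨P, rfl⟩
      rwa [Scheme.range_fromSpecStalk] at this
    have h2 : f (Y.fromSpecStalk y P) = f y := by
      apply PrimeSpectrum.ext
      apply le_antisymm
      · exact (PrimeSpectrum.le_iff_specializes _ _).mpr (h1.map f.continuous)
      · rw [h, Ideal.span_singleton_le_iff_mem, apply_fromSpecStalk]
        exact hϖp
    have h3 := hy _ h1 h2
    have h4 : P = IsLocalRing.closedPoint (Y.presheaf.stalk y) := by
      apply (Y.fromSpecStalk y).isEmbedding.injective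
      rw [h3, Scheme.fromSpecStalk_closedPoint]
    exact congrArg PrimeSpectrum.asIdeal h4
  have hmem : toStalk f y ϖ ∈ IsLocalRing.maximalIdeal (Y.presheaf.stalk y) := by
    have h1 := apply_fromSpecStalk f y (IsLocalRing.closedPoint (Y.presheaf.stalk y))
    rw [Scheme.fromSpecStalk_closedPoint, h] at h1
    have h2 : ϖ ∈ Ideal.span {ϖ} := Ideal.mem_span_singleton_self ϖ
    rw [h1] at h2
    exact h2
  have hne : toStalk f y ϖ ≠ 0 := by
    intro h0
    have h1 : (⊥ : Ideal (Y.presheaf.stalk y)).IsPrime := Ideal.isPrime_bot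
    have h2 := hmax ⊥ h1 (by rw [h0]; exact Ideal.zero_mem _)
    -- then the generic point is `y`
    have h3 : Y.fromSpecStalk y ⟨⊥, h1⟩ = y := by
      have : (⟨⊥, h1⟩ : Spec (Y.presheaf.stalk y)) = IsLocalRing.closedPoint (Y.presheaf.stalk y) :=
        PrimeSpectrum.ext h2
      rw [this, Scheme.fromSpecStalk_closedPoint]
    have h4 : y = genericPoint Y := by
      have h5 : genericPoint Y ∈ Set.range (Y.fromSpecStalk y) := by
        rw [Scheme.range_fromSpecStalk]
        exact genericPoint_specializes y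
      obtain ⟨P, hP⟩ := h5
      have h6 : (⟨⊥, h1⟩ : Spec (Y.presheaf.stalk y)) ⤳ P := by
        rw [← PrimeSpectrum.le_iff_specializes]
        exact bot_le
      have h7 := h6.map (Y.fromSpecStalk y).continuous
      rw [hP, h3] at h7
      exact (h7.antisymm (genericPoint_specializes y)).eq
    have h5 := map_genericPoint f
    rw [← h4, h] at h5
    exact hϖ (Ideal.span_singleton_eq_bot.mp h5)
  rw [← IsLocalRing.maximalIdeal_height_eq_ringKrullDim]
  apply le_antisymm
  · have h1 : IsLocalRing.maximalIdeal (Y.presheaf.stalk y) ∈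
        (Ideal.span {toStalk f y ϖ}).minimalPrimes := by
      refine ⟨⟨inferInstance, (Ideal.span_singleton_le_iff_mem _).mpr hmem⟩, fun p hp hle => ?_⟩
      rw [hmax p hp.1 (hp.2 (Ideal.mem_span_singleton_self _))]
    exact_mod_cast Ideal.height_le_one_of_isPrincipal_of_mem_minimalPrimes _ _ h1
  · have h1 : (1 : ℕ∞) ≤ (IsLocalRing.maximalIdeal (Y.presheaf.stalk y)).height := by
      rw [Order.one_le_iff_ne_zero, Ne, Ideal.height_eq_zero_iff_eq_bot]
      intro h0
      rw [h0] at hmem
      exact hne hmem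
    exact_mod_cast h1

end basic

section semilocal

variable {R : Type u} [CommRing R] {Y : Scheme.{u}} (f : Y ⟶ Spec (CommRingCat.of R))

/-- The closed fibre. -/
def fib (q : MaximalSpectrum R) : Closeds Y :=
  ⟨f ⁻¹' {(⟨q.asIdeal, q.isMaximal.isPrime⟩ : PrimeSpectrum R)},
    ((PrimeSpectrum.isClosed_singleton_iff_isMaximal _).mpr q.isMaximal).preimage f.continuous⟩

theorem mem_fib_iff (q : MaximalSpectrum R) (y : Y) : y ∈ fib f q ↔ (f y).asIdeal = q.asIdeal :=
  ⟨fun h => congrArg PrimeSpectrum.asIdeal (show f y = _ from h),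
    fun h => show f y = _ from PrimeSpectrum.ext h⟩

/-- The maximal points of a closed fibre. -/
theorem exists_gens [IsNoetherian Y] (q : MaximalSpectrum R) :
    ∃ G : Set Y, G.Finite ∧ (∀ ξ, ξ ∈ G ↔ ξ ∈ fib f q ∧ IsMaxFib f ξ) ∧
      (fib f q : Set Y) = ⋃ ξ ∈ G, closure {ξ} := by
  obtain ⟨G, hG, h1, h2⟩ := K458.Decomp.exists_gens
    (Scheme.IdealSheafData.vanishingIdeal (fib f q))
  rw [Scheme.IdealSheafData.coe_support_vanishingIdeal] at h1 h2
  have h3 : ∀ ξ, ξ ∈ G ↔ ξ ∈ fib f q ∧ IsMaxFib f ξ := by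
    intro ξ
    constructor
    · intro hξ
      refine ⟨(h1 ξ hξ).1, fun z hz hfz => (h1 ξ hξ).2 z ?_ hz⟩
      have := (mem_fib_iff f q ξ).mp (h1 ξ hξ).1
      exact (mem_fib_iff f q z).mpr (by rw [hfz, this])
    · rintro ⟨hξ, hm⟩
      obtain ⟨ζ, hζ, hmem⟩ := Set.mem_iUnion₂.mp (h2 hξ)
      have h4 : ζ ⤳ ξ := specializes_iff_mem_closure.mpr hmem
      have h5 : f ζ = f ξ := by
        apply PrimeSpectrum.ext
        rw [(mem_fib_iff f q ξ).mp hξ, (mem_fib_iff f q ζ).mp (h1 ζ hζ).1]
      rw [← hm ζ h4 h5]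
      exact hζ
  refine ⟨G, hG, h3, Set.Subset.antisymm h2 ?_⟩
  intro x hx
  obtain ⟨ζ, hζ, hmem⟩ := Set.mem_iUnion₂.mp hx
  exact (fib f q).isClosed.closure_subset_iff.mpr
    (Set.singleton_subset_iff.mpr (h1 ζ hζ).1) hmem

variable [IsDedekindDomain R] [Finite (MaximalSpectrum R)]

omit [Finite (MaximalSpectrum R)] in
theorem eq_bot_or_isMaximal (s : PrimeSpectrum R) : s.asIdeal = ⊥ ∨ s.asIdeal.IsMaximal := by
  by_cases h : s.asIdeal = ⊥
  · exact Or.inl h
  · exact Or.inr (Ring.DimensionLEOne.maximalOfPrime h s.isPrime)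

theorem exists_span (q : Ideal R) : ∃ ϖ : R, q = Ideal.span {ϖ} := by
  have hf : {I : Ideal R | I.IsMaximal}.Finite := by
    have := Set.finite_range (fun m : MaximalSpectrum R => m.asIdeal)
    refine this.subset fun I hI => ⟨⟨I, hI⟩, rfl⟩
  have := IsPrincipalIdealRing.of_finite_maximals hf
  exact (IsPrincipalIdealRing.principal q).principal

/-- One affine open contains all the maximal points of the fibres. -/
theorem exists_affine [Flat f] [IsIntegral Y] [IsNoetherian Y] [Y.IsSeparated] :
    ∃ U : Y.Opens, IsAffineOpen U ∧ ∀ y, IsMaxFib f y → y ∈ U := by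
  classical
  choose G hG hG1 hG2 using fun q => exists_gens f q
  have hfin : ({genericPoint Y} ∪ ⋃ q, G q : Set Y).Finite :=
    (Set.finite_singleton _).union (Set.finite_iUnion hG)
  obtain ⟨U, hU, hU'⟩ := S0217.result Y (fun V hV => by
    have : NoetherianSpace (V : Set Y) := inferInstance
    exact NoetherianSpace.finite_irreducibleComponents) hfin.toFinset (fun x hx => by
    refine ⟨inferInstance, ?_⟩
    rw [Set.Finite.mem_toFinset] at hx
    rcases hx with hx | hx
    · have hx' : x = genericPoint Y := hx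
      subst hx'
      have h1 : IsField (Y.presheaf.stalk (genericPoint Y)) :=
        Field.toIsField Y.functionField
      rw [ringKrullDim_eq_zero_of_isField h1]
      exact zero_le_one
    · obtain ⟨q, hq⟩ := Set.mem_iUnion.mp hx
      obtain ⟨h1, h2⟩ := (hG1 q x).mp hq
      obtain ⟨ϖ, hϖ⟩ := exists_span q.asIdeal
      by_cases h0 : ϖ = 0
      · -- then `R` is a field and `x` is the generic point
        have h3 : (f x).asIdeal = ⊥ := by
          rw [(mem_fib_iff f q x).mp h1, hϖ, h0, Ideal.span_singleton_eq_bot.mpr rfl]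
        have hx' := eq_of_isMaxFib f h2 h3
        subst hx'
        have h1 : IsField (Y.presheaf.stalk (genericPoint Y)) :=
          Field.toIsField Y.functionField
        rw [ringKrullDim_eq_zero_of_isField h1]
        exact zero_le_one
      · rw [dim_stalk f h2 h0 (by rw [(mem_fib_iff f q x).mp h1, hϖ])])
  refine ⟨U, hU, fun y hy => hU' y ?_⟩
  rw [Set.Finite.mem_toFinset]
  rcases eq_bot_or_isMaximal (f y) with h | h
  · exact Or.inl (eq_of_isMaxFib f hy h)
  · exact Or.inr (Set.mem_iUnion.mpr ⟨⟨(f y).asIdeal, h⟩,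
      (hG1 _ y).mpr ⟨(mem_fib_iff f _ y).mpr rfl, hy⟩⟩)

end semilocal

end

end K622.FibPts
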