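import Groth.Agent.AlgSp.K622.AnDefs
import Groth.Agent.AlgSp.K622.FibPts
import Groth.Agent.AlgSp.K612.OrbFlat
import Mathlib.AlgebraicGeometry.Geometrically.Integral

/-!
# Generic arcs of a group and good models of a homogeneous space over a semi-local Dedekind domain

Vocabulary for the proof of `K622.AnDefs.OverDedekind`:

* `HData R K G`: a smooth geometrically integral group `H` over `K = Frac R` with a homomorphism to `G`.
* `Arc R K D q`: a discrete valuation ring `P` over `R` at the maximal ideal `q`, weakly unramified with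
  geometrically integral residue field extension, and a point `c` of (an open subscheme `Γ` of) `G` with
  values in `P`, generic in both fibres of `Γ` and connected there with the unit section.
* `HasModels K f`: finitely many finite morphisms `Y i ⟶ X`, jointly surjective, with `Y i` integral and flat
  with geometrically reduced fibres over `R`, whose generic fibres are the connected components of the
  reduction of the generic fibre of `X`.
* `CoreD`: the statement to which everything is reduced.
-/

set_option autoImplicit false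
universe u

open CategoryTheory CategoryTheory.Limits AlgebraicGeometry MonoidalCategory MonObj AlgSp

namespace K622.AnDefs2

open K622.AnDefs K612.OrbFlat

variable (R K : Type u) [CommRing R] [Field K] [Algebra R K]

/-- The generic point `Spec K ⟶ Spec R`. -/
noncomputable abbrev gn : Spec (CommRingCat.of K) ⟶ Spec (CommRingCat.of R) :=
  Spec.map (CommRingCat.ofHom (algebraMap R K))

variable {R} in
/-- The localization of `Spec R` at the maximal ideal `q`. -/
noncomputable abbrev loc (q : MaximalSpectrum R) : Over (Spec (CommRingCat.of R)) :=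
  Over.mk (Spec.map (CommRingCat.ofHom (algebraMap R (Localization.AtPrime q.asIdeal))))

/-- A smooth geometrically integral group over the generic point with a homomorphism to `G`. -/
structure HData (G : Over ((yon (Spec (CommRingCat.of R))).obj (Over.mk (𝟙 (Spec (CommRingCat.of R))))))
    [GrpObj G] where
  /-- the group -/
  H : Over (Spec (CommRingCat.of K))
  [grp : GrpObj H]
  smooth : Smooth H.hom
  geom : GeometricallyIntegral H.hom
  qc : QuasiCompact H.hom
  /-- the homomorphism -/
  h : (yon (Spec (CommRingCat.of R))).obj ((Over.map (gn R K)).obj H) ⟶ G.left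
  hmul : ∀ {T : Over (Spec (CommRingCat.of K))} (a b : T ⟶ H),
    (yon (Spec (CommRingCat.of R))).map ((Over.map (gn R K)).map (a * b)) ≫ h =
      mul ((yon (Spec (CommRingCat.of R))).map ((Over.map (gn R K)).map a) ≫ h)
        ((yon (Spec (CommRingCat.of R))).map ((Over.map (gn R K)).map b) ≫ h)

attribute [instance] HData.grp HData.smooth HData.geom HData.qc

/-- A generic arc of `G` at the maximal ideal `q` (see the header). -/
structure Arc {G : Over ((yon (Spec (CommRingCat.of R))).obj (Over.mk (𝟙 (Spec (CommRingCat.of R)))))}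
    [GrpObj G] (D : HData R K G) (q : MaximalSpectrum R) where
  /-- the discrete valuation ring -/
  P : Type u
  [cr : CommRing P]
  [dom : IsDomain P]
  [dvr : IsDiscreteValuationRing P]
  /-- its structure map -/
  φ : R →+* P
  flat : φ.Flat
  comap : (IsLocalRing.maximalIdeal P).comap φ = q.asIdeal
  map : q.asIdeal.map φ = IsLocalRing.maximalIdeal P
  /-- the residue field extension is geometrically integral -/
  res : ∀ (k' : Type u) [Field k'] (ψ : R →+* k'), RingHom.ker ψ = q.asIdeal →
    IsIntegral (pullback (Spec.map (CommRingCat.ofHom ψ))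
      (Spec.map (CommRingCat.ofHom ((IsLocalRing.residue P).comp φ))))
  /-- an open subscheme of `G` -/
  Γ : Over (Spec (CommRingCat.of R))
  /-- its inclusion -/
  j : (yon (Spec (CommRingCat.of R))).obj Γ ⟶ G.left
  openImm : RepWith @IsOpenImmersion j
  lft : LocallyOfFiniteType Γ.hom
  /-- the unit section over `R_q` -/
  e : loc q ⟶ Γ
  unit : (yon (Spec (CommRingCat.of R))).map e ≫ j =
    (yon (Spec (CommRingCat.of R))).map
      (Over.homMk (loc q).hom (Category.comp_id (loc q).hom) : loc q ⟶ Over.mk (𝟙 _)) ≫ η[G].left
  /-- the arc -/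
  c : Over.mk (Spec.map (CommRingCat.ofHom φ)) ⟶ Γ
  max_closed : FibPts.IsMaxFib Γ.hom (c.left (IsLocalRing.closedPoint P))
  max_gen : FibPts.IsMaxFib Γ.hom (c.left (⊥ : PrimeSpectrum P))
  spec_closed : c.left (IsLocalRing.closedPoint P) ⤳
    e.left (IsLocalRing.closedPoint (Localization.AtPrime q.asIdeal))
  spec_gen : ∀ z : ↥(loc q).left, ((loc q).hom z).asIdeal = ⊥ → c.left (⊥ : PrimeSpectrum P) ⤳ e.left z
  /-- the group point of the generic fibre of the arc -/
  t : K →+* FractionRing P
  ht : t.comp (algebraMap R K) = (algebraMap P (FractionRing P)).comp φ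
  g : Over.mk (Spec.map (CommRingCat.ofHom t)) ⟶ D.H
  hg : (yon (Spec (CommRingCat.of R))).map ((Over.map (gn R K)).map g) ≫ D.h =
    (yon (Spec (CommRingCat.of R))).map
      ((Over.homMk (Spec.map (CommRingCat.ofHom (algebraMap P (FractionRing P)))) (by
        change Spec.map _ ≫ Spec.map _ = Spec.map _ ≫ Spec.map _
        rw [← Spec.map_comp, ← Spec.map_comp, ← CommRingCat.ofHom_comp, ← CommRingCat.ofHom_comp, ht]) :
        (Over.map (gn R K)).obj (Over.mk (Spec.map (CommRingCat.ofHom t))) ⟶
          Over.mk (Spec.map (CommRingCat.ofHom φ))) ≫ c) ≫ j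

attribute [instance] Arc.cr Arc.dom Arc.dvr Arc.lft

variable {R} in
/-- Good models: finite morphisms from integral schemes, flat with geometrically reduced fibres, whose
generic fibres are the connected components of the reduction of the generic fibre of `X`. -/
def HasModels {X : Scheme.{u}} (f : X ⟶ Spec (CommRingCat.of R)) : Prop :=
  ∃ (n : ℕ) (Y : Fin n → Scheme.{u}) (ν : ∀ i, Y i ⟶ X), (∀ i, IsIntegral (Y i)) ∧ (∀ i, IsFinite (ν i)) ∧
    (∀ x : ↥X, ∃ (i : Fin n) (y : ↥(Y i)), ν i y = x) ∧ (∀ i, Flat (ν i ≫ f)) ∧
    (∀ i, GeometricallyReduced (ν i ≫ f)) ∧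
    ∀ i, Smooth (pullback.snd (ν i ≫ f) (gn R K)) ∧
      GeometricallyIntegral (pullback.snd (ν i ≫ f) (gn R K)) ∧
      IsClosedImmersion (pullback.map (ν i ≫ f) (gn R K) f (gn R K) (ν i) (𝟙 _) (𝟙 _)
        (Category.comp_id _) (by rw [Category.comp_id, Category.id_comp])) ∧
      IsOpen (Set.range (pullback.map (ν i ≫ f) (gn R K) f (gn R K) (ν i) (𝟙 _) (𝟙 _)
        (Category.comp_id _) (by rw [Category.comp_id, Category.id_comp])))

/-- The core, `G` separated or a scheme. -/
def OverDed : Prop :=
  ∀ (R : Type u) [CommRing R] [IsDedekindDomain R] [Finite (MaximalSpectrum R)] (_ : ¬ IsField R)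
    (G M : Over ((yon (Spec (CommRingCat.of R))).obj (Over.mk (𝟙 (Spec (CommRingCat.of R))))))
    [GrpObj G] (act : GAction G M) (X : Sp (Spec (CommRingCat.of R))) (i : X ⟶ M.left),
    Sit act i → FibClosed i → (IsSeparatedSp G.left ∨ G.left.obj.IsRepresentable) →
    K632.FlatClos.FlatSp G.left → K632.FlatClos.FlatSp M.left →
    OrbFlat act → UnitSch R G → X.obj.IsRepresentable → Concl X

/-- The final statement: arcs and models exist over `R` itself. -/
def CoreD : Prop :=
  ∀ (R K : Type u) [CommRing R] [IsDedekindDomain R] [Finite (MaximalSpectrum R)] (_ : ¬ IsField R)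
    [Field K] [Algebra R K] [IsFractionRing R K]
    (G M : Over ((yon (Spec (CommRingCat.of R))).obj (Over.mk (𝟙 (Spec (CommRingCat.of R))))))
    [GrpObj G] (act : GAction G M) (X : Sp (Spec (CommRingCat.of R))) (i : X ⟶ M.left),
    Sit act i → FibClosed i → K632.FlatClos.FlatSp G.left → K632.FlatClos.FlatSp M.left → OrbFlat act →
    ∀ (D : HData R K G), (∀ q : MaximalSpectrum R, Nonempty (Arc R K D q)) →
    ∀ (Xs : Over (Spec (CommRingCat.of R))) (_ : (yon (Spec (CommRingCat.of R))).obj Xs ≅ X),
      HasModels K Xs.hom → Concl X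

end K622.AnDefs2
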