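import Groth.Agent.AlgSp.K622.CoreC
import Groth.Agent.AlgSp.K598.RepKit
import Groth.Agent.AlgSp.K598.Charts
import Groth.Agent.AlgSp.K610.Factor
import Groth.Agent.Sga1.SigmaFinite

/-!
# The conclusion from a finite family of finite morphisms
-/

set_option autoImplicit false
universe u

open CategoryTheory CategoryTheory.Limits AlgebraicGeometry AlgSp

namespace K622.CoreE

open Groth.Agent K622.AnDefs

set_option maxHeartbeats 400000
set_option backward.isDefEq.respectTransparency.types false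

noncomputable section

section sigma

variable {ι : Type u} [Finite ι] (Y : ι → Scheme.{u})

omit [Finite ι] in
theorem exists_sigma (z : ↥(∐ Y)) : ∃ (i : ι) (y : Y i), Sigma.ι Y i y = z := by
  obtain ⟨i, y, hy⟩ := (sigmaOpenCover Y).exists_eq z
  exact ⟨i, y, hy⟩

theorem finAff_sigma (h : ∀ i, FinAff (Y i)) : FinAff (∐ Y) := by
  intro E hE
  choose U hU hEU using fun i => h i ((Sigma.ι Y i) ⁻¹' E)
    (hE.preimage ((Sigma.ι Y i).isOpenEmbedding.injective.injOn))
  refine ⟨⨆ i, (Sigma.ι Y i) ''ᵁ (U i), IsAffineOpen.iSup_of_disjoint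
    (fun i => (hU i).image_of_isOpenImmersion _) (fun i j hij => ?_), fun z hz => ?_⟩
  · have h1 := disjoint_opensRange_sigmaι Y i j hij
    exact h1.mono (Scheme.Hom.image_le_opensRange _ _) (Scheme.Hom.image_le_opensRange _ _)
  · obtain ⟨i, y, rfl⟩ := exists_sigma Y z
    rw [SetLike.mem_coe, TopologicalSpace.Opens.mem_iSup]
    exact ⟨i, y, hEU i hz, rfl⟩

end sigma

variable {S : Scheme.{u}}

theorem ofPt_iso_injective {X : Sp S} {T : Over S} (e : (yon S).obj T ≅ X) :
    Function.Injective (Points.ofPt e.hom) := by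
  have h2 : Points.ofPt e.hom = Points.map e.hom ∘ (Points.schemeHomeo T) := by
    ext t
    exact Points.ofPt_eq_map_ofScheme e.hom t
  rw [h2]
  refine Function.Injective.comp ?_ (Points.schemeHomeo T).injective
  intro a b hab
  have h3 := congrArg (Points.map e.inv) hab
  rw [← Points.map_comp, ← Points.map_comp, e.hom_inv_id, Points.map_id, Points.map_id] at h3
  exact h3

/-- The conclusion from a finite jointly surjective family of finite morphisms. -/
theorem concl_of_family {X : Sp S} {Xs : Over S} (eX : (yon S).obj Xs ≅ X) {ι : Type u} [Finite ι]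
    (Y : ι → Scheme.{u}) (ν : ∀ i, Y i ⟶ Xs.left) (hν : ∀ i, IsFinite (ν i))
    (hsurj : ∀ x : ↥Xs.left, ∃ (i : ι) (y : ↥(Y i)), ν i y = x) (h : ∀ i, FinAff (Y i)) : Concl X := by
  let d : (∐ Y) ⟶ Xs.left := Sigma.desc ν
  have hfin : IsFinite d := Sga1.SigmaFinite.isFinite_sigmaDesc ν
  have hs : Surjective d := by
    refine ⟨fun x => ?_⟩
    obtain ⟨i, y, rfl⟩ := hsurj x
    refine ⟨Sigma.ι Y i y, ?_⟩
    rw [← Scheme.Hom.comp_apply, Sigma.ι_desc]
  let Z : Over S := Over.mk (d ≫ Xs.hom)
  let δ : Z ⟶ Xs := Over.homMk d rfl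
  have hint : IsIntegralHom δ.left := inferInstanceAs (IsIntegralHom d)
  have hsur : Surjective δ.left := hs
  refine ⟨Z, (yon S).map δ ≫ eX.hom, ?_, ?_, fun E hE => ?_⟩
  · exact MorphismProperty.comp_mem (RepWith @IsIntegralHom) _ _ (K598.Charts.repWith_yon_map hint)
      (K598.RepKit.repWith_of_isIso _)
  · exact MorphismProperty.comp_mem (RepWith @Surjective) _ _ (K598.Charts.repWith_yon_map hsur)
      (K598.RepKit.repWith_of_isIso _)
  · have h1 : (Points.ofPt eX.hom ⁻¹' E).Finite := hE.preimage (ofPt_iso_injective eX).injOn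
    have h2 : (d ⁻¹' (Points.ofPt eX.hom ⁻¹' E)).Finite := by
      refine h1.preimage' fun x _ => ?_
      exact d.finite_preimage_singleton x
    obtain ⟨U, hU, hEU⟩ := finAff_sigma Y h _ h2
    refine ⟨U, hU, fun z hz => hEU ?_⟩
    rw [K610.Base.ofPt_map_comp] at hz
    exact hz

end

end K622.CoreE
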