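import Groth.Agent.AlgSp.K622.CoreM
import Groth.Agent.AlgSp.K622.CoreE
import Groth.Agent.S2324

/-!
# `CoreD`

The core of Theorem B from the nodes C1, C2, C4.
-/

set_option autoImplicit false
universe u

open CategoryTheory CategoryTheory.Limits AlgebraicGeometry AlgSp

namespace K622.CoreD

open Groth.Agent K622.AnDefs K622.AnDefs2 K622.CoreC

set_option maxHeartbeats 400000
set_option backward.isDefEq.respectTransparency.types false

noncomputable section

theorem finAff_of_isAmple {Y : Scheme.{u}} [CompactSpace Y] [Y.IsSeparated]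
    (h : ∃ L : Y.Modules, CohB1.IsAmple L) : FinAff Y := by
  obtain ⟨L, hL⟩ := h
  intro E hE
  obtain ⟨n, s, h1, -, h3⟩ := Groth.Agent.S2324.result Y L hL E hE ⊤ (Set.subset_univ _)
  exact ⟨_, h3, h1⟩

/-- The scheme `Xs` is separated, of finite type. -/
theorem finiteness {R : Type u} [CommRing R]
    {G M : Over ((yon (Spec (CommRingCat.of R))).obj (Over.mk (𝟙 (Spec (CommRingCat.of R)))))}
    [GrpObj G] {act : GAction G M} {X : Sp (Spec (CommRingCat.of R))} {i : X ⟶ M.left} (hs : Sit act i)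
    {Xs : Over (Spec (CommRingCat.of R))} (eX : (yon (Spec (CommRingCat.of R))).obj Xs ≅ X) :
    IsSeparated Xs.hom ∧ LocallyOfFiniteType Xs.hom ∧ QuasiCompact Xs.hom := by
  let j : (yon (Spec (CommRingCat.of R))).obj Xs ⟶ M.left := eX.hom ≫ i
  have hj : RepWith @IsOpenImmersion j :=
    MorphismProperty.comp_mem (RepWith @IsOpenImmersion) _ _ (K598.RepKit.repWith_of_isIso _) hs.op
  have hjm : Mono j := K610.Factor.mono_of_isOpenImmersion hj
  refine ⟨?_, ?_, ?_⟩
  · have h1 : IsSeparatedSp ((yon (Spec (CommRingCat.of R))).obj Xs) :=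
      K598.RepKit.repWith_of_isPullback (K610.Sub.diag_pullback_of_mono j).flip hs.sepM
    exact ⟨(repWith_diag_yon_iff @IsClosedImmersion Xs).1 h1⟩
  · refine hs.lftM j (𝟙 _) (K625.Prod.toBase Xs) ?_ (repWith_id _ _)
      ((K625.Prod.isTerminalBase _).hom_ext _ _)
    exact K598.RepKit.repWith_mono (fun _ _ f hf => by
      have : IsOpenImmersion f := hf
      exact (inferInstance : Etale f)) hj
  · obtain ⟨V, p, h1, h2, h3⟩ := hs.qc
    obtain ⟨r, hr⟩ := (yon (Spec (CommRingCat.of R))).map_surjective (p ≫ eX.inv)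
    have h5 : RepWith @Surjective ((yon (Spec (CommRingCat.of R))).map r) := by
      rw [hr]
      exact MorphismProperty.RespectsIso.postcomp _ _ _ h2
    have h4 : Surjective r.left := (repWith_yon_map_iff _ _).1 h5
    have h6 : CompactSpace Xs.left := Function.Surjective.compactSpace r.left.continuous h4.surj
    exact (quasiCompact_iff_compactSpace Xs.hom).2 h6

/-- **The core**. -/
theorem coreD (hC1 : NodeC1.{u}) (hC2 : NodeC2.{u}) (hC4 : NodeC4.{u}) : CoreD.{u} := by
  intro R K _ _ _ hR _ _ _ G M _ act X i hs hfc _ _ ho D hA Xs eX hmod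
  obtain ⟨n, Y, ν, h1, h2, h3, h4, h5, h6⟩ := hmod
  obtain ⟨hXs, hXf, hXq⟩ := finiteness hs eX
  refine K622.CoreE.concl_of_family eX (ι := ULift.{u} (Fin n)) (fun j => Y j.down)
    (fun j => ν j.down) (fun j => h2 j.down) (fun x => ?_) (fun j => ?_)
  · obtain ⟨j, y, hy⟩ := h3 x
    exact ⟨⟨j⟩, y, hy⟩
  · have e1 := h1 j.down
    have e2 := h2 j.down
    have e4 := h4 j.down
    have e5 := h5 j.down
    obtain ⟨h7, h8, h9, h10⟩ := h6 j.down
    have hsep : IsSeparated (ν j.down ≫ Xs.hom) := inferInstance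
    have hqc : QuasiCompact (ν j.down ≫ Xs.hom) := inferInstance
    have hc : CompactSpace (Y j.down) := (quasiCompact_iff_compactSpace (ν j.down ≫ Xs.hom)).1 hqc
    have hss : (Y j.down).IsSeparated := by
      rw [Scheme.isSeparated_iff, ← terminal.comp_from (ν j.down ≫ Xs.hom)]
      infer_instance
    exact finAff_of_isAmple (K622.CoreM.exists_isAmple_model act i D (fun q => Classical.choice (hA q)) eX
      hC1 hC2 hC4 hR hs hfc ho (Y j.down) (ν j.down) h7 h8 h9 h10)

end

end K622.CoreD
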