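import Groth.Agent.Dix.PointSite
import Groth.Agent.FlatB.GeomRed
import Mathlib.AlgebraicGeometry.Morphisms.FlatMono
import Mathlib.AlgebraicGeometry.Morphisms.Finite
import Mathlib.RingTheory.Unramified.LocalStructure

/-!
Monomorphisms into (disjoint unions of) spectra of fields; flat surjections from the spectrum of a field.
-/

set_option autoImplicit false
universe u
open CategoryTheory CategoryTheory.Limits AlgebraicGeometry Topology

set_option maxHeartbeats 200000
set_option backward.isDefEq.respectTransparency.types false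

noncomputable section

namespace K622.Sch

/-- A monomorphism from a nonempty scheme to an integral one-point scheme is an isomorphism. -/
theorem isIso_of_mono_of_subsingleton {N M : Scheme.{u}} (f : N ⟶ M) [Mono f] [Nonempty N]
    [Subsingleton M] [IsIntegral M] : IsIso f := by
  have : Subsingleton N := ⟨fun a b => f.injective (Subsingleton.elim _ _)⟩
  have hs : Surjective f := ⟨fun y => ⟨Classical.arbitrary _, Subsingleton.elim _ _⟩⟩
  have hq : QuasiCompact f := ⟨fun U _ _ => (Set.toFinite _).isCompact⟩
  exact Flat.isIso_of_surjective_of_mono f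

/-- A monomorphism from a nonempty scheme to the spectrum of a field is an isomorphism. -/
theorem isIso_of_mono_field {N : Scheme.{u}} {K : Type u} [Field K] (f : N ⟶ Spec (CommRingCat.of K))
    [Mono f] [Nonempty N] : IsIso f :=
  isIso_of_mono_of_subsingleton f

theorem isOpenImmersion_of_mono_of_subsingleton {N M : Scheme.{u}} (f : N ⟶ M) [Mono f]
    [Subsingleton M] [IsIntegral M] : IsOpenImmersion f := by
  rcases isEmpty_or_nonempty N with h | h
  · infer_instance
  · have := isIso_of_mono_of_subsingleton f
    infer_instance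

/-- A monomorphism to a reduced discrete scheme is an open immersion. -/
theorem isOpenImmersion_of_mono_of_discrete {N M : Scheme.{u}} (f : N ⟶ M) [Mono f]
    [IsReduced M] [DiscreteTopology M] : IsOpenImmersion f := by
  let 𝒰 : M.OpenCover := M.openCoverOfIsOpenCover
      (fun x : M ↦ ⟨{x}, isOpen_discrete _⟩) (.mk (by ext; simp))
  rw [IsZariskiLocalAtTarget.iff_of_openCover (P := @IsOpenImmersion) 𝒰]
  intro x
  have h1 : Subsingleton (𝒰.X x) := (Set.subsingleton_coe ({(x : M)} : Set M)).2 Set.subsingleton_singleton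
  have h2 : Nonempty (𝒰.X x) := ⟨⟨x, rfl⟩⟩
  have h3 : IsReduced (𝒰.X x) := isReduced_of_isOpenImmersion (𝒰.f x)
  have h4 : IsIntegral (𝒰.X x) := (isIntegral_iff_irreducibleSpace_and_isReduced _).mpr
    ⟨⟨inferInstance⟩, inferInstance⟩
  have h5 : Mono (𝒰.pullbackHom f x) := by
    change Mono (pullback.snd f (𝒰.f x))
    infer_instance
  exact isOpenImmersion_of_mono_of_subsingleton _

/-- A monomorphism to a scheme etale over a field is an open immersion. -/
theorem isOpenImmersion_of_mono_of_etale {N M : Scheme.{u}} (f : N ⟶ M) [Mono f] {K : Type u} [Field K]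
    (g : M ⟶ Spec (CommRingCat.of K)) [Etale g] : IsOpenImmersion f := by
  have := Groth.Agent.Dix.PointSite.isReduced_of_etale g
  have := Groth.Agent.Dix.PointSite.discreteTopology_of_etale g
  exact isOpenImmersion_of_mono_of_discrete f

/-- A nonempty one-point reduced scheme is the spectrum of a field. -/
theorem exists_iso_spec_of_subsingleton (Y : Scheme.{u}) [Subsingleton Y] [Nonempty Y] [IsReduced Y] :
    ∃ (K : Type u) (_ : Field K), Nonempty (Y ≅ Spec (CommRingCat.of K)) := by
  have h4 : IsIntegral Y := (isIntegral_iff_irreducibleSpace_and_isReduced _).mpr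
    ⟨⟨inferInstance⟩, inferInstance⟩
  let hF := (isField_of_isIntegral_of_subsingleton Y).toField
  have : IsAffine Y := inferInstance
  exact ⟨Γ(Y, ⊤), hF, ⟨Y.isoSpec⟩⟩

/-- A scheme receiving a flat surjection from the spectrum of a field is the spectrum of a field. -/
theorem exists_iso_spec_of_flat_surjective {Y : Scheme.{u}} {k : Type u} [Field k]
    (p : Spec (CommRingCat.of k) ⟶ Y) [Flat p] [Surjective p] :
    ∃ (K : Type u) (_ : Field K), Nonempty (Y ≅ Spec (CommRingCat.of K)) := by
  have : Subsingleton Y := ⟨fun a b => by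
    obtain ⟨a, rfl⟩ := p.surjective a
    obtain ⟨b, rfl⟩ := p.surjective b
    rw [Subsingleton.elim a b]⟩
  have : Nonempty Y := ⟨p (IsLocalRing.closedPoint k)⟩
  have : IsReduced Y := Groth.Agent.FlatB.GeomRed.isReduced_of_flat_of_surjective p
  exact exists_iso_spec_of_subsingleton Y

theorem locallyQuasiFinite_of_formallyUnramified {X Y : Scheme.{u}} (g : Y ⟶ X)
    [FormallyUnramified g] [LocallyOfFiniteType g] : LocallyQuasiFinite g where
  quasiFinite_appLE {U} hU {V} hV e := by
    have h1 := g.finiteType_appLE hU hV e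
    have h2 := g.formallyUnramified_appLE hU hV e
    algebraize [(g.appLE U V e).hom]
    exact inferInstanceAs (Algebra.QuasiFinite _ _)

/-- Etale and quasi-compact over a field implies finite. -/
theorem isFinite_of_etale_of_quasiCompact {N : Scheme.{u}} {K : Type u} [Field K]
    (f : N ⟶ Spec (CommRingCat.of K)) [Etale f] [QuasiCompact f] : IsFinite f :=
  have := locallyQuasiFinite_of_formallyUnramified f
  IsFinite.of_locallyQuasiFinite f

/-- The fibres of a quasi-compact etale morphism are finite. -/
theorem finite_fibre_of_etale {N M : Scheme.{u}} (f : N ⟶ M) [Etale f] [QuasiCompact f] (y : M) :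
    (f ⁻¹' {y}).Finite :=
  have := locallyQuasiFinite_of_formallyUnramified f
  f.finite_preimage_singleton y

/-- In a fibre product over an affine scheme with one etale factor, only finitely many points lie over a given
pair of points. -/
theorem finite_two_fibres {V V' Q B : Scheme.{u}} [IsAffine B] {b : V ⟶ B} {b' : V' ⟶ B} [Etale b']
    {p1 : Q ⟶ V} {p2 : Q ⟶ V'} (h : IsPullback p1 p2 b b') (v : V) (v' : V') :
    {q : Q | p1 q = v ∧ p2 q = v'}.Finite := by
  obtain ⟨W, hW1, hW2, -⟩ := exists_isAffineOpen_mem_and_subset (TopologicalSpace.Opens.mem_top v')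
  have hWa : IsAffine W.toScheme := hW1
  have hr := isPullback_morphismRestrict p2 W
  have hp := hr.paste_vert h.flip
  have h1 : Etale ((p2 ⁻¹ᵁ W).ι ≫ p1) := MorphismProperty.of_isPullback (P := @Etale) hp inferInstance
  have h2 : QuasiCompact ((p2 ⁻¹ᵁ W).ι ≫ p1) :=
    MorphismProperty.of_isPullback (P := @QuasiCompact) hp inferInstance
  refine ((finite_fibre_of_etale ((p2 ⁻¹ᵁ W).ι ≫ p1) v).image (p2 ⁻¹ᵁ W).ι).subset ?_
  rintro q ⟨hq1, hq2⟩
  refine ⟨⟨q, ?_⟩, ?_, rfl⟩
  · change p2 q ∈ W
    rw [hq2]; exact hW2
  · change ((p2 ⁻¹ᵁ W).ι ≫ p1) _ = v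
    rw [Scheme.Hom.comp_apply]
    exact hq1

end K622.Sch
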