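import Groth.Agent.AlgSp.K622.EpiYon
import Groth.Agent.AlgSp.K622.Sch

/-!
Monomorphisms from spectra of fields to sheaves.
-/

set_option autoImplicit false
universe u
open CategoryTheory CategoryTheory.Limits AlgebraicGeometry Opposite Topology
open AlgSp

set_option maxHeartbeats 200000
set_option backward.isDefEq.respectTransparency.types false

noncomputable section

namespace K622.MonoPts

open K622.Basic K622.EpiYon K622.Sch

variable {S : Scheme.{u}} {F G H : Sp S}

theorem mono_yon_map {U V : Over S} (f : U ⟶ V) [Mono f.left] : Mono ((yon S).map f) := by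
  have : Mono f := Over.mono_of_mono_left f
  infer_instance

theorem mono_left {U V : Over S} (f : U ⟶ V) [Mono f] : Mono f.left := inferInstance

theorem mono_of_yon_map {U V : Over S} (f : U ⟶ V) [Mono ((yon S).map f)] : Mono f.left := by
  have : Mono f := (yon S).mono_of_mono_map ‹_›
  infer_instance

theorem mono_toHom_ofPt {T : Over S} (g : (yon S).obj T ⟶ F) [Mono g] (t : ↥T.left) :
    Mono (FieldPt.ofPt g t).toHom := by
  rw [FieldPt.toHom_ofPt]
  have h : Mono ((yon S).map (Over.homMk (T.left.fromSpecResidueField t) rfl :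
      Over.mk (T.left.fromSpecResidueField t ≫ T.hom) ⟶ T)) := by
    have : Mono (Over.homMk (T.left.fromSpecResidueField t) rfl :
      Over.mk (T.left.fromSpecResidueField t ≫ T.hom) ⟶ T).left := by
      change Mono (T.left.fromSpecResidueField t)
      infer_instance
    exact mono_yon_map _
  exact @mono_comp _ _ _ _ _ _ h _ ‹_›

/-- The unique point of the spectrum of a field. -/
def pt0 {K : Type u} [Field K] (str : Spec (CommRingCat.of K) ⟶ S) : ↥(Over.mk str).left :=
  IsLocalRing.closedPoint K

theorem eq_pt0 {K : Type u} [Field K] {str : Spec (CommRingCat.of K) ⟶ S} (t : ↥(Over.mk str).left) :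
    t = pt0 str := Subsingleton.elim (α := ↥(Spec (CommRingCat.of K))) _ _

theorem ofPt_toHom_pt0 (p : FieldPt F) :
    Points.ofPt p.toHom (pt0 p.str) = Points.mk p :=
  Points.ofPt_toHom p _

theorem mk_ofHom_eq_ofPt {K : Type u} [Field K] {str : Spec (CommRingCat.of K) ⟶ S}
    (i : (yon S).obj (Over.mk str) ⟶ F) : Points.mk (ofHom i) = Points.ofPt i (pt0 str) := by
  have h := mk_ofHom_yon i (𝟙 (Over.mk str))
  rw [(yon S).map_id, Category.id_comp] at h
  exact h

theorem mk_ofHom_yon' {T : Over S} (g : (yon S).obj T ⟶ F) {K : Type u} [Field K]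
    {str : Spec (CommRingCat.of K) ⟶ S} (m : Over.mk str ⟶ T) :
    Points.mk (ofHom ((yon S).map m ≫ g)) = Points.ofPt g (m.left (pt0 str)) :=
  mk_ofHom_yon g m

/-- If `x` in `|F|` maps to a point of `G` represented by `q : Spec k ⟶ G`, there is a point of the represented
fibre product over `x`. -/
theorem exists_pt_fibre {f : F ⟶ G} (q : FieldPt G) {V : Over S} {fst : (yon S).obj V ⟶ F}
    {snd : V ⟶ q.pt} (h : IsPullback fst ((yon S).map snd) f q.toHom) (x : Points F)
    (hx : Points.map f x = Points.mk q) : ∃ v : ↥V.left, Points.ofPt fst v = x := by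
  obtain ⟨v, hv, -⟩ := exists_pt_of_isPullback h x
    (Points.ofPt (𝟙 ((yon S).obj q.pt)) (pt0 q.str)) (by
      rw [hx, Points.map_ofPt, Category.id_comp, ofPt_toHom_pt0])
  exact ⟨v, hv⟩

/-- Two points of a scheme with a common field-valued point are equal. -/
theorem eq_of_comp_residue {X : Scheme.{u}} {s t : X} {Ω : Type u} [Field Ω]
    (a : Spec (CommRingCat.of Ω) ⟶ Spec (X.residueField s))
    (b : Spec (CommRingCat.of Ω) ⟶ Spec (X.residueField t))
    (h : a ≫ X.fromSpecResidueField s = b ≫ X.fromSpecResidueField t) : s = t := by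
  have h' := congrArg (fun z : Spec (CommRingCat.of Ω) ⟶ X => z (IsLocalRing.closedPoint Ω)) h
  dsimp only at h'
  rw [Scheme.Hom.comp_apply, Scheme.Hom.comp_apply, Scheme.fromSpecResidueField_apply,
    Scheme.fromSpecResidueField_apply] at h'
  exact h'

/-- Points of a scheme mapping through a monomorphism of sheaves are determined by their image. -/
theorem ofPt_injective_of_mono {T : Over S} (g : (yon S).obj T ⟶ F) [Mono g] :
    Function.Injective (Points.ofPt g) := by
  intro s t hst
  rw [ofPt_eq_mk, ofPt_eq_mk, mk_ofHom_eq_iff] at hst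
  obtain ⟨Ω, _, w, a, b, hab⟩ := hst
  rw [← Category.assoc, ← Category.assoc, cancel_mono, ← Functor.map_comp, ← Functor.map_comp] at hab
  have e := congrArg (fun z => z.left) ((yon S).map_injective hab)
  exact eq_of_comp_residue (X := T.left) a.left b.left e

end K622.MonoPts
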