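import Groth.Agent.GrpQ.H765.FinQuot
import Groth.Agent.GrpQ.H766.Consequences
import Groth.Agent.GrpQ.H766.RelGrpd
import Groth.Agent.AlgSp.K622.MonoPts

/-!
Quotient of `h_U` by a finite locally free equivalence relation `U ×_F U` all of whose orbits lie in affine opens:
a morphism `q : h_U ⟶ F` with `U ×_F U ⟶ U` finite locally free factors as `h_U ⟶ h_Y ⟶ F` with `U ⟶ Y`
finite locally free surjective and `h_Y ⟶ F` a monomorphism.
-/

set_option autoImplicit false
universe u
open CategoryTheory CategoryTheory.Limits AlgebraicGeometry Opposite Topology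
open AlgSp

set_option maxHeartbeats 400000
set_option backward.isDefEq.respectTransparency.types false

noncomputable section

namespace K622.GrpQuot

open K622.Basic K622.EpiYon K622.Sch K622.MonoPts

variable {S : Scheme.{u}} {F : Sp S} {U R : Over S} {s t : R ⟶ U} {q : (yon S).obj U ⟶ F}

theorem exists_lift (h : IsPullback ((yon S).map t) ((yon S).map s) q q) {T : Over S} (a b : T ⟶ U)
    (hab : (yon S).map a ≫ q = (yon S).map b ≫ q) : ∃ l : T ⟶ R, l ≫ t = a ∧ l ≫ s = b := by
  obtain ⟨l, hl⟩ := (yon S).map_surjective (h.lift _ _ hab)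
  refine ⟨l, (yon S).map_injective ?_, (yon S).map_injective ?_⟩
  · rw [Functor.map_comp, hl, h.lift_fst]
  · rw [Functor.map_comp, hl, h.lift_snd]

theorem hom_ext_rel (h : IsPullback ((yon S).map t) ((yon S).map s) q q) {T : Over S} {a b : T ⟶ R}
    (h1 : a ≫ t = b ≫ t) (h2 : a ≫ s = b ≫ s) : a = b := by
  apply (yon S).map_injective
  apply h.hom_ext
  · rw [← Functor.map_comp, ← Functor.map_comp, h1]
  · rw [← Functor.map_comp, ← Functor.map_comp, h2]

theorem w_rel (h : IsPullback ((yon S).map t) ((yon S).map s) q q) {T : Over S} (a : T ⟶ R) :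
    (yon S).map (a ≫ t) ≫ q = (yon S).map (a ≫ s) ≫ q := by
  rw [Functor.map_comp, Functor.map_comp, Category.assoc, Category.assoc, h.w]

/-- The groupoid scheme of a represented kernel pair. -/
theorem exists_groupoid (h : IsPullback ((yon S).map t) ((yon S).map s) q q) :
    ∃ (G : Grpd.GroupoidScheme S) (_ : Mono G.j) (_ : G.U = U.left) (_ : G.R = R.left),
      HEq G.s s.left ∧ HEq G.t t.left := by
  have ext : ∀ {T : Scheme.{u}} (a b : T ⟶ R.left), a ≫ t.left = b ≫ t.left → a ≫ s.left = b ≫ s.left → a = b := by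
    intro T a b h1 h2
    have hb : b ≫ R.hom = a ≫ R.hom := by
      rw [← Over.w s, ← Category.assoc, ← h2, Category.assoc, Over.w s]
    let a' : Over.mk (a ≫ R.hom) ⟶ R := Over.homMk a rfl
    let b' : Over.mk (a ≫ R.hom) ⟶ R := Over.homMk b hb
    have : a' = b' := hom_ext_rel h (Over.OverMorphism.ext h1) (Over.OverMorphism.ext h2)
    exact congrArg (fun z => z.left) this
  obtain ⟨e, het, hes⟩ := exists_lift h (𝟙 U) (𝟙 U) rfl
  obtain ⟨i, hit, his⟩ := exists_lift h s t (by
    have := w_rel h (𝟙 R)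
    rw [Category.id_comp, Category.id_comp] at this
    exact this.symm)
  let P : Over S := Over.mk (pullback.fst s.left t.left ≫ R.hom)
  let p1 : P ⟶ R := Over.homMk (pullback.fst s.left t.left) rfl
  let p2 : P ⟶ R := Over.homMk (pullback.snd s.left t.left) (by
    change pullback.snd s.left t.left ≫ R.hom = pullback.fst s.left t.left ≫ R.hom
    rw [← Over.w t, ← Category.assoc, ← pullback.condition, Category.assoc, Over.w s, Over.w t])
  have hp : p1 ≫ s = p2 ≫ t := Over.OverMorphism.ext pullback.condition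
  obtain ⟨c, hct, hcs⟩ := exists_lift h (p1 ≫ t) (p2 ≫ s) (by
    rw [w_rel h, hp, w_rel h])
  let G : Grpd.GroupoidScheme S := Groth.Agent.GrpQ.H766.RelGrpd.ofMono U.hom t.left s.left ext
    ((Over.w t).trans (Over.w s).symm) e.left (congrArg (fun z => z.left) hes) (congrArg (fun z => z.left) het)
    i.left (congrArg (fun z => z.left) his) (congrArg (fun z => z.left) hit) c.left
    (congrArg (fun z => z.left) hcs) (congrArg (fun z => z.left) hct)
  refine ⟨G, ⟨fun a b hab => ?_⟩, rfl, rfl, HEq.rfl, HEq.rfl⟩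
  have := (Groth.Agent.Grpsch.Points.comp_j_eq_iff G a b).mp hab
  exact ext a b this.1 this.2

/-- The scheme-theoretic quotient. -/
theorem exists_scheme_quot (h : IsPullback ((yon S).map t) ((yon S).map s) q q)
    (h1 : IsFinite s.left) (h2 : Flat s.left) (h3 : LocallyOfFinitePresentation s.left)
    (hb : ∀ x : U.left, ∃ V : U.left.Opens, IsAffineOpen V ∧ ∀ r : R.left, s.left r = x → t.left r ∈ V) :
    ∃ (Y : Scheme.{u}) (p : U.left ⟶ Y), IsPullback t.left s.left p p ∧ IsFinite p ∧ Flat p ∧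
      LocallyOfFinitePresentation p ∧ Surjective p := by
  obtain ⟨G, hj, eU, eR, hs, ht⟩ := exists_groupoid h
  obtain ⟨GU, GR, pU, pR, Gs, Gt, e, i, c, k1, k2, k3, k4, k5, k6, k7, k8, k9, k10, k11, k12, k13⟩ := G
  dsimp only at eU eR hs ht
  subst eU eR
  obtain rfl := eq_of_heq hs
  obtain rfl := eq_of_heq ht
  have hb' : ∀ x : U.left, ∃ V : U.left.Opens, IsAffineOpen V ∧
      t.left.base '' (s.left.base ⁻¹' {x}) ⊆ (V : Set U.left) := by
    intro x
    obtain ⟨V, hV, hV'⟩ := hb x
    refine ⟨V, hV, ?_⟩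
    rintro _ ⟨r, hr, rfl⟩
    exact hV' r hr
  obtain ⟨Y, p, hp, -, hsurj, -, -⟩ := Groth.Agent.GrpQ.H765.FinQuot.exists_isGeomQuot
    (⟨_, _, pU, pR, s.left, t.left, e, i, c, k1, k2, k3, k4, k5, k6, k7, k8, k9, k10, k11, k12, k13⟩ :
      Grpd.GroupoidScheme S) ⟨h1, h2, h3⟩ hb'
  obtain ⟨i4, i5, i6⟩ := Groth.Agent.GrpQ.H765.FinQuot.isFinLocFree_t
    (⟨_, _, pU, pR, s.left, t.left, e, i, c, k1, k2, k3, k4, k5, k6, k7, k8, k9, k10, k11, k12, k13⟩ :
      Grpd.GroupoidScheme S) ⟨h1, h2, h3⟩
  have hfl := Groth.Agent.GrpQ.H766.Consequences.isFinLocFree_of_mono hp hb'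
  exact ⟨Y, p, Groth.Agent.GrpQ.H766.Consequences.isPullback_of_mono hp hb', hfl.1, hfl.2.1, hfl.2.2, hsurj⟩

/-- **Quotient of `h_U` by a finite locally free equivalence relation.** -/
theorem exists_quot (h : IsPullback ((yon S).map t) ((yon S).map s) q q)
    (h1 : IsFinite s.left) (h2 : Flat s.left) (h3 : LocallyOfFinitePresentation s.left)
    (hb : ∀ x : U.left, ∃ V : U.left.Opens, IsAffineOpen V ∧ ∀ r : R.left, s.left r = x → t.left r ∈ V) :
    ∃ (Y : Over S) (p : U ⟶ Y) (m : (yon S).obj Y ⟶ F), IsFinite p.left ∧ Flat p.left ∧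
      LocallyOfFinitePresentation p.left ∧ Surjective p.left ∧ IsPullback t.left s.left p.left p.left ∧
      (yon S).map p ≫ m = q ∧ Mono m := by
  obtain ⟨Y, p, hp, p1, p2, p3, p4⟩ := exists_scheme_quot h h1 h2 h3 hb
  have key : ∀ {Z : Scheme.{u}} (a b : Z ⟶ U.left), a ≫ p = b ≫ p → a ≫ U.hom = b ≫ U.hom := by
    intro Z a b hab
    rw [← hp.lift_fst a b hab, Category.assoc, Over.w t]
    conv_rhs => rw [← hp.lift_snd a b hab, Category.assoc, Over.w s]
  let π : Y ⟶ S := EffectiveEpi.desc p U.hom (fun a b => key a b)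
  have hπ : p ≫ π = U.hom := EffectiveEpi.fac p U.hom (fun a b => key a b)
  let Y' : Over S := Over.mk π
  let p' : U ⟶ Y' := Over.homMk p hπ
  have i1 : IsFinite p'.left := p1
  have i2 : Flat p'.left := p2
  have i3 : LocallyOfFinitePresentation p'.left := p3
  have i4 : Surjective p'.left := p4
  have hlift : ∀ {Z : Over S} (a b : Z ⟶ U), a ≫ p' = b ≫ p' → ∃ l : Z ⟶ R, l ≫ t = a ∧ l ≫ s = b := by
    intro Z a b hab
    have hab' : a.left ≫ p = b.left ≫ p := congrArg (fun z => z.left) hab
    let l : Z.left ⟶ R.left := hp.lift a.left b.left hab'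
    have l1 : l ≫ t.left = a.left := hp.lift_fst _ _ _
    have l2 : l ≫ s.left = b.left := hp.lift_snd _ _ _
    refine ⟨Over.homMk l ?_, Over.OverMorphism.ext l1, Over.OverMorphism.ext l2⟩
    rw [← Over.w t, ← Category.assoc, l1, Over.w a]
  have hq : ∀ {Z : Over S} (a b : Z ⟶ U), a ≫ p' = b ≫ p' → (yon S).map a ≫ q = (yon S).map b ≫ q := by
    intro Z a b hab
    obtain ⟨l, rfl, rfl⟩ := hlift a b hab
    exact w_rel h l
  obtain ⟨m, hm, -⟩ := existsUnique_desc p' q hq
  refine ⟨Y', p', m, i1, i2, i3, i4, hp, hm, mono_of_yon m fun T a b hab => ?_⟩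
  obtain ⟨a, rfl⟩ := (yon S).map_surjective a
  obtain ⟨b, rfl⟩ := (yon S).map_surjective b
  -- pull back the covering `p'` along `a` and `b`
  let A := pullback a p'
  let B := pullback (pullback.fst a p' ≫ b) p'
  let π' : B ⟶ T := pullback.fst _ _ ≫ pullback.fst a p'
  let α : B ⟶ U := pullback.fst _ _ ≫ pullback.snd a p'
  let β : B ⟶ U := pullback.snd _ _
  have hα : α ≫ p' = π' ≫ a := by
    simp only [α, π', Category.assoc, pullback.condition]
  have hβ : β ≫ p' = π' ≫ b := by
    simp only [β, π', Category.assoc]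
    rw [← pullback.condition]
  have hcov : ∀ {V : Over S} (v : V ⟶ Y'), Flat (pullback.fst v p').left ∧ Surjective (pullback.fst v p').left ∧
      LocallyOfFinitePresentation (pullback.fst v p').left := by
    intro V v
    have hV : IsPullback (pullback.snd v p').left (pullback.fst v p').left p'.left v.left :=
      ((IsPullback.of_hasPullback v p').flip).map (Over.forget S)
    exact ⟨MorphismProperty.of_isPullback hV i2, MorphismProperty.of_isPullback hV i4,
      MorphismProperty.of_isPullback hV i3⟩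
  obtain ⟨c1, c2, c3⟩ := hcov a
  obtain ⟨d1, d2, d3⟩ := hcov (pullback.fst a p' ≫ b)
  have f1 : Flat π'.left := by
    change Flat ((pullback.fst (pullback.fst a p' ≫ b) p').left ≫ (pullback.fst a p').left); infer_instance
  have f2 : Surjective π'.left := by
    change Surjective ((pullback.fst (pullback.fst a p' ≫ b) p').left ≫ (pullback.fst a p').left); infer_instance
  have f3 : LocallyOfFinitePresentation π'.left := by
    change LocallyOfFinitePresentation
      ((pullback.fst (pullback.fst a p' ≫ b) p').left ≫ (pullback.fst a p').left)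
    infer_instance
  apply hom_ext_cover π'
  rw [← Functor.map_comp, ← Functor.map_comp, ← hα, ← hβ]
  have hab2 : (yon S).map α ≫ q = (yon S).map β ≫ q := by
    rw [← hm, ← Category.assoc, ← Category.assoc, ← Functor.map_comp, ← Functor.map_comp, hα, hβ,
      (yon S).map_comp π' a, (yon S).map_comp π' b, Category.assoc, Category.assoc, hab]
  obtain ⟨l, hl1, hl2⟩ := exists_lift h α β hab2
  rw [← hl1, ← hl2]
  congr 1
  apply Over.OverMorphism.ext
  change (l.left ≫ t.left) ≫ p = (l.left ≫ s.left) ≫ p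
  rw [Category.assoc, Category.assoc, hp.w]

end K622.GrpQuot
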