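import Groth.Agent.AlgSp.K622.CoreS
import Groth.Agent.Fdesc.IntegralFib

/-!
# Maximal points of fibres and base change

* `exists_forall_specializes_eq`: a nonempty scheme has a point without proper generizations.
* `exists_max`: points of `Y ×_S T` over `z ∈ Y`, maximal in the fibre, whose image in `X ×_S T` is maximal in the
  fibre over the image of `z`.
* `isMaxFib_of_isIntegralHom`: a point over a maximal point of the fibre is maximal in its fibre.
-/

set_option autoImplicit false
universe u

open CategoryTheory CategoryTheory.Limits AlgebraicGeometry TopologicalSpace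

namespace K622.CoreT

open Groth.Agent K622.FibPts

set_option maxHeartbeats 400000
set_option backward.isDefEq.respectTransparency.types false

noncomputable section

theorem exists_forall_specializes_eq (A : Scheme.{u}) (a : A) : ∃ ξ : A, ∀ w : A, w ⤳ ξ → w = ξ := by
  have hT : irreducibleComponent a ∈ irreducibleComponents A := irreducibleComponent_mem_irreducibleComponents a
  obtain ⟨ξ, hξ⟩ := QuasiSober.sober hT.1 (isClosed_of_mem_irreducibleComponents _ hT)
  refine ⟨ξ, fun w hw => ?_⟩
  have h1 : irreducibleComponent a ⊆ closure {w} := by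
    rw [← hξ.def]
    exact (specializes_iff_closure_subset.1 hw)
  have h2 : closure {w} ⊆ irreducibleComponent a := hT.2 (isIrreducible_singleton.closure) h1
  have h3 : ξ ⤳ w := hξ.specializes (h2 (subset_closure rfl))
  exact (hw.antisymm h3).eq

theorem isMaxFib_of_isIntegralHom {X Y S : Scheme.{u}} (ν : Y ⟶ X) [IsIntegralHom ν] (f : X ⟶ S) (y : Y)
    (h : IsMaxFib f (ν y)) : IsMaxFib (ν ≫ f) y := by
  intro z hz hf
  refine Fdesc.IntegralFib.eq_of_specializes_of_isIntegralHom ν hz (h _ (hz.map ν.continuous) ?_)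
  rw [Scheme.Hom.comp_apply, Scheme.Hom.comp_apply] at hf
  exact hf

section

variable {X Y S T : Scheme.{u}} (ν : Y ⟶ X) (f : X ⟶ S) (s : T ⟶ S)

/-- The base change of `ν`. -/
def kap : pullback (ν ≫ f) s ⟶ pullback f s :=
  pullback.lift (pullback.fst _ _ ≫ ν) (pullback.snd _ _) (by
    rw [Category.assoc, pullback.condition])

theorem kap_fst : kap ν f s ≫ pullback.fst _ _ = pullback.fst _ _ ≫ ν := pullback.lift_fst _ _ _

theorem kap_snd : kap ν f s ≫ pullback.snd _ _ = pullback.snd _ _ := pullback.lift_snd _ _ _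

theorem isPullback_kap : IsPullback (kap ν f s) (pullback.fst (ν ≫ f) s) (pullback.fst f s) ν := by
  refine IsPullback.of_right (h₁₂ := pullback.snd f s) (v₁₃ := s) (h₂₂ := f) ?_ (kap_fst ν f s)
    (IsPullback.of_hasPullback f s).flip
  rw [kap_snd]
  exact (IsPullback.of_hasPullback (ν ≫ f) s).flip

/-- Points of the base change, maximal in the fibre, with maximal image. -/
theorem exists_max (z : Y) (hne : ∃ p : T, s p = f (ν z)) :
    ∃ z' : ↥(pullback (ν ≫ f) s), pullback.fst (ν ≫ f) s z' = z ∧
      ∀ u : ↥(pullback f s), u ⤳ kap ν f s z' → pullback.fst f s u = pullback.fst f s (kap ν f s z') →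
        u = kap ν f s z' := by
  obtain ⟨p, hp⟩ := hne
  obtain ⟨z₀, hz₀, -⟩ := Scheme.Pullback.exists_preimage_pullback (f := ν ≫ f) (g := s) z p
    (by rw [Scheme.Hom.comp_apply, hp])
  let a := pullback.fst (ν ≫ f) s
  let b := pullback.fst f s
  obtain ⟨a₀, -⟩ : z₀ ∈ Set.range (a.fiberι z) := by
    rw [a.range_fiberι]
    exact hz₀
  obtain ⟨ξ, hξ⟩ := exists_forall_specializes_eq (a.fiber z) a₀
  have h0 : a (a.fiberι z ξ) = z := by
    have : a.fiberι z ξ ∈ a ⁻¹' {z} := by
      rw [← a.range_fiberι]
      exact ⟨ξ, rfl⟩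
    exact this
  refine ⟨a.fiberι z ξ, h0, fun u hu hfu => ?_⟩
  -- the map on fibres
  have sq1 : IsPullback (pullback.fst a (Y.fromSpecResidueField z) ≫ kap ν f s)
      (pullback.snd a (Y.fromSpecResidueField z)) b (Y.fromSpecResidueField z ≫ ν) :=
    (IsPullback.of_hasPullback a (Y.fromSpecResidueField z)).paste_horiz
      (isPullback_kap ν f s)
  have he : Y.fromSpecResidueField z ≫ ν =
      Spec.map (ν.residueFieldMap z) ≫ X.fromSpecResidueField (ν z) :=
    (Scheme.Hom.SpecMap_residueFieldMap_fromSpecResidueField ν z).symm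
  rw [he] at sq1
  let k : pullback a (Y.fromSpecResidueField z) ⟶ pullback b (X.fromSpecResidueField (ν z)) :=
    pullback.lift (pullback.fst a (Y.fromSpecResidueField z) ≫ kap ν f s)
      (pullback.snd a (Y.fromSpecResidueField z) ≫ Spec.map (ν.residueFieldMap z))
      (by rw [sq1.w, Category.assoc])
  have hk1 : k ≫ pullback.fst b (X.fromSpecResidueField (ν z)) =
      pullback.fst a (Y.fromSpecResidueField z) ≫ kap ν f s := pullback.lift_fst _ _ _
  have hk2 : k ≫ pullback.snd b (X.fromSpecResidueField (ν z)) =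
      pullback.snd a (Y.fromSpecResidueField z) ≫ Spec.map (ν.residueFieldMap z) := pullback.lift_snd _ _ _
  have sq2 : IsPullback k (pullback.snd a (Y.fromSpecResidueField z))
      (pullback.snd b (X.fromSpecResidueField (ν z))) (Spec.map (ν.residueFieldMap z)) := by
    refine IsPullback.of_right (h₁₂ := pullback.fst b (X.fromSpecResidueField (ν z))) (v₁₃ := b)
      (h₂₂ := X.fromSpecResidueField (ν z)) ?_ hk2 (IsPullback.of_hasPullback b _)
    rw [hk1]
    exact sq1
  have hfl : Flat (Spec.map (ν.residueFieldMap z)) := inferInstance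
  have hkfl : Flat k := MorphismProperty.of_isPullback sq2.flip hfl
  -- the two points of the fibre
  have h1 : b (kap ν f s (a.fiberι z ξ)) = ν z := by
    rw [← Scheme.Hom.comp_apply, kap_fst, Scheme.Hom.comp_apply]
    exact congrArg ν h0
  obtain ⟨u₁, hu₁⟩ : u ∈ Set.range (b.fiberι (ν z)) := by
    rw [b.range_fiberι]
    exact hfu.trans h1
  have hv₁ : b.fiberι (ν z) (k ξ) = kap ν f s (a.fiberι z ξ) := by
    change pullback.fst b (X.fromSpecResidueField (ν z)) (k ξ) =
      kap ν f s (pullback.fst a (Y.fromSpecResidueField z) ξ)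
    rw [← Scheme.Hom.comp_apply, hk1, Scheme.Hom.comp_apply]
  have h2 : u₁ ⤳ k ξ := by
    rw [← (b.fiberι (ν z)).isEmbedding.isInducing.specializes_iff, hu₁, hv₁]
    exact hu
  obtain ⟨w, hw, hw'⟩ := Flat.generalizingMap k h2
  rw [← hu₁, ← hw', hξ w hw, hv₁]

end

end

end K622.CoreT
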