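import Groth.Agent.AlgSp.K622.Trans
import Groth.Agent.S2155
import Groth.Agent.Ega4C.SmoothRegular
import Groth.Agent.Models.K382.ModelMap
import Mathlib.CategoryTheory.Monoidal.Cartesian.Grp

/-!
# Ampleness from a group acting on the generic fibre and generic translations

`f : Y ⟶ Spec R` flat separated of finite type over a semi-local Dedekind domain, smooth at the maximal
points of the fibres, with geometrically integral generic fibre `YK`; a group `H` over `K = Frac R`
acting on `YK`; for each maximal ideal `q` a discrete valuation ring `P q` over `R` as in `K622.Trans` and a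
point `γ q` of `H` with values in `Frac (P q)` such that the translations by `γ q` and `(γ q)⁻¹` extend to
morphisms `Y ×_R P q ⟶ Y`, generic enough. Then `Y` is smooth over `R` and has an ample module.
-/

set_option autoImplicit false
universe u

open CategoryTheory Limits MonoidalCategory CartesianMonoidalCategory AlgebraicGeometry TopologicalSpace
open scoped MonObj

namespace K622.GenTr

open Groth.Agent Groth.Agent.Grpsch.PicGrp K622.FibPts K622.Trans

set_option maxHeartbeats 400000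
set_option backward.isDefEq.respectTransparency.types false

noncomputable section

theorem isRegularLocalRing_stalk {R : Type u} [CommRing R] [IsDedekindDomain R] {Y : Scheme.{u}}
    (f : Y ⟶ Spec (CommRingCat.of R)) [Smooth f] (y : Y) : IsRegularLocalRing (Y.presheaf.stalk y) := by
  obtain ⟨W, hW, hyW, -⟩ := exists_isAffineOpen_mem_and_subset (U := (⊤ : Y.Opens))
    (show y ∈ (⊤ : Y.Opens) from trivial)
  let s : R →+* Γ(Y, W) := (f.appLE ⊤ W le_top).hom.comp (Scheme.ΓSpecIso (CommRingCat.of R)).inv.hom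
  have hs : s.Smooth := by
    have h1 : (f.appLE ⊤ W le_top).hom.Smooth := f.smooth_appLE (isAffineOpen_top _) hW le_top
    exact RingHom.Smooth.comp (RingHom.Smooth.of_bijective
      (ConcreteCategory.bijective_of_isIso (Scheme.ΓSpecIso (CommRingCat.of R)).inv)) h1
  let _ := s.toAlgebra
  have hsm : Algebra.Smooth R Γ(Y, W) := hs.toAlgebra
  let _ := Y.presheaf.algebra_section_stalk ⟨y, hyW⟩
  have hloc := hW.isLocalization_stalk ⟨y, hyW⟩
  have h2 : IsRegularLocalRing (Localization.AtPrime (hW.primeIdealOf ⟨y, hyW⟩).asIdeal) :=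
    Groth.Agent.Ega4C.SmoothRegular.isRegularLocalRing_of_isSmoothAt R Γ(Y, W) _
  exact IsRegularLocalRing.of_ringEquiv (IsLocalization.algEquiv
    (hW.primeIdealOf ⟨y, hyW⟩).asIdeal.primeCompl
    (Localization.AtPrime (hW.primeIdealOf ⟨y, hyW⟩).asIdeal) (Y.presheaf.stalk y)).toRingEquiv

section act

variable {C : Type*} [Category C] [CartesianMonoidalCategory C] {H Y : C} [GrpObj H] (ρ : H ⊗ Y ⟶ Y)

theorem act_mul (hmul : (μ[H] ▷ Y) ≫ ρ = (α_ H H Y).hom ≫ (H ◁ ρ) ≫ ρ) {T : C} (a b : T ⟶ H) (z : T ⟶ Y) :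
    lift a (lift b z ≫ ρ) ≫ ρ = lift (a * b) z ≫ ρ := by
  have h1 : lift a (lift b z ≫ ρ) = lift (lift a b) z ≫ (α_ H H Y).hom ≫ (H ◁ ρ) := by
    simp
  rw [h1, Category.assoc, Category.assoc, ← hmul, Hom.mul_def, ← Category.assoc]
  congr 1
  simp

theorem act_one (hone : lift (toUnit Y ≫ η[H]) (𝟙 Y) ≫ ρ = 𝟙 Y) {T : C} (z : T ⟶ Y) :
    lift (1 : T ⟶ H) z ≫ ρ = z := by
  have h1 : lift (1 : T ⟶ H) z = z ≫ lift (toUnit Y ≫ η[H]) (𝟙 Y) := by
    rw [comp_lift, Category.comp_id, ← Category.assoc, toUnit_unique (z ≫ toUnit Y) (toUnit T)]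
    rfl
  rw [h1, Category.assoc, hone, Category.comp_id]

end act

section gen

variable {R K : Type u} [CommRing R] [Field K] [Algebra R K] {Y : Scheme.{u}}
  (f : Y ⟶ Spec (CommRingCat.of R)) (YK : Over (Spec (CommRingCat.of K))) (y : YK.left ⟶ Y)
  (sq : IsPullback y YK.hom f (Spec.map (CommRingCat.ofHom (algebraMap R K))))
  {P : Type u} [CommRing P] [IsDomain P] (φ : R →+* P) (t : K →+* FractionRing P)
  (ht : t.comp (algebraMap R K) = (algebraMap P (FractionRing P)).comp φ)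

/-- `Spec (Frac P)` as a scheme over `K`. -/
abbrev TF : Over (Spec (CommRingCat.of K)) := Over.mk (Spec.map (CommRingCat.ofHom t))

include sq ht in
theorem jcond : ((snd (TF t) YK).left ≫ y) ≫ f =
    ((fst (TF t) YK).left ≫ Spec.map (CommRingCat.ofHom (algebraMap P (FractionRing P)))) ≫
      Spec.map (CommRingCat.ofHom φ) := by
  have h1 : (snd (TF t) YK).left ≫ YK.hom = (fst (TF t) YK).left ≫ (TF t).hom := by
    rw [Over.w, Over.w]
  rw [Category.assoc, Category.assoc, sq.w, ← Category.assoc, h1, Category.assoc]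
  congr 1
  change Spec.map _ ≫ Spec.map _ = Spec.map _ ≫ Spec.map _
  rw [← Spec.map_comp, ← Spec.map_comp, ← CommRingCat.ofHom_comp, ← CommRingCat.ofHom_comp, ht]

/-- The generic fibre of the base change. -/
def jj : (TF t ⊗ YK).left ⟶ bc f φ :=
  pullback.lift ((snd (TF t) YK).left ≫ y)
    ((fst (TF t) YK).left ≫ Spec.map (CommRingCat.ofHom (algebraMap P (FractionRing P))))
    (jcond f YK y sq φ t ht)

theorem jj_fst : jj f YK y sq φ t ht ≫ pullback.fst _ _ = (snd (TF t) YK).left ≫ y := pullback.lift_fst _ _ _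

theorem jj_snd : jj f YK y sq φ t ht ≫ pullback.snd _ _ =
    (fst (TF t) YK).left ≫ Spec.map (CommRingCat.ofHom (algebraMap P (FractionRing P))) :=
  pullback.lift_snd _ _ _

theorem isPullback_jj : IsPullback (jj f YK y sq φ t ht) (fst (TF t) YK).left
    (pullback.snd f (Spec.map (CommRingCat.ofHom φ)))
    (Spec.map (CommRingCat.ofHom (algebraMap P (FractionRing P)))) := by
  have h1 : IsPullback (snd (TF t) YK).left (fst (TF t) YK).left YK.hom (TF t).hom :=
    (IsPullback.of_hasPullback (TF t).hom YK.hom).flip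
  have h2 := h1.paste_horiz sq
  refine IsPullback.of_right (h₁₂ := pullback.fst f (Spec.map (CommRingCat.ofHom φ))) (v₁₃ := f)
    (h₂₂ := Spec.map (CommRingCat.ofHom φ)) ?_ (jj_snd f YK y sq φ t ht)
    (IsPullback.of_hasPullback f (Spec.map (CommRingCat.ofHom φ)))
  have h3 : (TF t).hom ≫ Spec.map (CommRingCat.ofHom (algebraMap R K)) =
      Spec.map (CommRingCat.ofHom (algebraMap P (FractionRing P))) ≫ Spec.map (CommRingCat.ofHom φ) := by
    change Spec.map _ ≫ Spec.map _ = Spec.map _ ≫ Spec.map _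
    rw [← Spec.map_comp, ← Spec.map_comp, ← CommRingCat.ofHom_comp, ← CommRingCat.ofHom_comp, ht]
  rw [jj_fst, ← h3]
  exact h2

theorem isIntegral_gen [GeometricallyIntegral YK.hom] : IsIntegral (TF t ⊗ YK).left := by
  have h1 : GeometricallyIntegral (fst (TF t) YK).left := by
    change GeometricallyIntegral (pullback.fst (TF t).hom YK.hom)
    infer_instance
  have : IsIntegral (TF t).left := by
    change IsIntegral (Spec (CommRingCat.of (FractionRing P)))
    infer_instance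
  have : Subsingleton (TF t).left := by
    change Subsingleton (PrimeSpectrum (FractionRing P))
    infer_instance
  exact GeometricallyIntegral.isIntegral_of_subsingleton (fst (TF t) YK).left

theorem isIntegral_bc [Flat f] [GeometricallyIntegral YK.hom] :
    IsIntegral (bc f φ) ∧ IsDominant (jj f YK y sq φ t ht) := by
  have := isIntegral_gen YK t
  exact Groth.Agent.K382.ModelMap.isIntegral_of_flat P (FractionRing P)
    (pullback.snd f (Spec.map (CommRingCat.ofHom φ))) (jj f YK y sq φ t ht) (fst (TF t) YK).left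
    (isPullback_jj f YK y sq φ t ht)

variable {H : Over (Spec (CommRingCat.of K))} [GrpObj H] (ρ : H ⊗ YK ⟶ YK)

/-- The translation by `γ` on the generic fibre. -/
def tr (γ : TF t ⟶ H) : TF t ⊗ YK ⟶ YK := lift (fst (TF t) YK ≫ γ) (snd (TF t) YK) ≫ ρ

/-- The translation by `γ` on the generic fibre, over `Frac P`. -/
def trF (γ : TF t ⟶ H) : TF t ⊗ YK ⟶ TF t ⊗ YK := lift (fst (TF t) YK) (tr YK t ρ γ)

theorem trF_tr (hone : lift (toUnit YK ≫ η[H]) (𝟙 YK) ≫ ρ = 𝟙 YK)
    (hmul : (μ[H] ▷ YK) ≫ ρ = (α_ H H YK).hom ≫ (H ◁ ρ) ≫ ρ) (γ γ' : TF t ⟶ H) (h : γ' * γ = 1) :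
    trF YK t ρ γ ≫ tr YK t ρ γ' = snd (TF t) YK := by
  have h1 : trF YK t ρ γ ≫ tr YK t ρ γ' = lift (fst (TF t) YK ≫ γ') (tr YK t ρ γ) ≫ ρ := by
    rw [tr, ← Category.assoc, comp_lift, ← Category.assoc, trF, lift_fst, lift_snd]
  rw [h1, tr, act_mul ρ hmul, ← MonObj.comp_mul, h, MonObj.comp_one, act_one ρ hone]

variable (a : bc f φ ⟶ Y) (ha : a ≫ f = pullback.snd _ _ ≫ Spec.map (CommRingCat.ofHom φ))
  (b : bc f φ ⟶ Y) (hb : b ≫ f = pullback.snd _ _ ≫ Spec.map (CommRingCat.ofHom φ))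
  (γ γ' : TF t ⟶ H)
  (haK : jj f YK y sq φ t ht ≫ a = (tr YK t ρ γ).left ≫ y)
  (hbK : jj f YK y sq φ t ht ≫ b = (tr YK t ρ γ').left ≫ y)

/-- The endomorphism of the base change given by `a`. -/
def sg : bc f φ ⟶ bc f φ := pullback.lift a (pullback.snd _ _) ha

omit [IsDomain P] in
theorem sg_fst : sg f φ a ha ≫ pullback.fst _ _ = a := pullback.lift_fst _ _ _

omit [IsDomain P] in
theorem sg_snd : sg f φ a ha ≫ pullback.snd _ _ = pullback.snd _ _ := pullback.lift_snd _ _ _

include haK in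
theorem jj_sg : jj f YK y sq φ t ht ≫ sg f φ a ha =
    (trF YK t ρ γ).left ≫ jj f YK y sq φ t ht := by
  apply pullback.hom_ext
  · rw [Category.assoc, sg_fst, haK, Category.assoc, jj_fst, ← Category.assoc, ← Over.comp_left, trF,
      lift_snd]
  · rw [Category.assoc, sg_snd, jj_snd, Category.assoc, jj_snd, ← Category.assoc, ← Over.comp_left, trF,
      lift_fst]

include haK hbK in
theorem sg_comp [Flat f] [IsSeparated f] [GeometricallyIntegral YK.hom]
    (hone : lift (toUnit YK ≫ η[H]) (𝟙 YK) ≫ ρ = 𝟙 YK)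
    (hmul : (μ[H] ▷ YK) ≫ ρ = (α_ H H YK).hom ≫ (H ◁ ρ) ≫ ρ) (h : γ' * γ = 1) :
    sg f φ a ha ≫ sg f φ b hb = 𝟙 _ := by
  obtain ⟨h1, h2⟩ := isIntegral_bc f YK y sq φ t ht
  apply pullback.hom_ext
  · rw [Category.assoc, sg_fst, Category.id_comp]
    refine ext_of_isDominant_of_isSeparated f ?_ (jj f YK y sq φ t ht) ?_
    · rw [Category.assoc, hb, ← Category.assoc, sg_snd, pullback.condition]
    · rw [← Category.assoc, jj_sg f YK y sq φ t ht ρ a ha γ haK, Category.assoc, hbK, ← Category.assoc,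
        ← Over.comp_left, trF_tr YK t ρ hone hmul γ γ' h, jj_fst]
  · rw [Category.assoc, sg_snd, sg_snd, Category.id_comp]

include hb haK hbK in
/-- The endomorphism given by `a` is an automorphism. -/
theorem isIso_sg [Flat f] [IsSeparated f] [GeometricallyIntegral YK.hom]
    (hone : lift (toUnit YK ≫ η[H]) (𝟙 YK) ≫ ρ = 𝟙 YK)
    (hmul : (μ[H] ▷ YK) ≫ ρ = (α_ H H YK).hom ≫ (H ◁ ρ) ≫ ρ) (h : γ' * γ = 1) (h' : γ * γ' = 1) :
    IsIso (sg f φ a ha) :=
  ⟨sg f φ b hb, sg_comp f YK y sq φ t ht ρ a ha b hb γ γ' haK hbK hone hmul h,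
    sg_comp f YK y sq φ t ht ρ b hb a ha γ' γ hbK haK hone hmul h'⟩

omit [IsDomain P] in
/-- A point with a smooth translate is smooth. -/
theorem mem_smoothLocus [Flat f] [LocallyOfFinitePresentation f] [IsIso (sg f φ a ha)] (z : bc f φ)
    (hz : a z ∈ f.smoothLocus) : pullback.fst f (Spec.map (CommRingCat.ofHom φ)) z ∈ f.smoothLocus := by
  have h1 := Groth.Agent.S2155.result f (Spec.map (CommRingCat.ofHom φ)) (pullback.snd _ _)
    (pullback.fst _ _) (IsPullback.of_hasPullback f (Spec.map (CommRingCat.ofHom φ))) (Or.inl inferInstance)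
  have h2 := Groth.Agent.S2155.result (pullback.snd f (Spec.map (CommRingCat.ofHom φ))) (𝟙 _)
    (pullback.snd f (Spec.map (CommRingCat.ofHom φ))) (sg f φ a ha)
    (IsPullback.of_horiz_isIso ⟨by rw [sg_snd, Category.comp_id]⟩) (Or.inl inferInstance)
  have h3 : sg f φ a ha z ∈ (pullback.snd f (Spec.map (CommRingCat.ofHom φ))).smoothLocus := by
    rw [h1]
    change pullback.fst f (Spec.map (CommRingCat.ofHom φ)) (sg f φ a ha z) ∈ f.smoothLocus
    rw [← Scheme.Hom.comp_apply, sg_fst]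
    exact hz
  have h4 : z ∈ (pullback.snd f (Spec.map (CommRingCat.ofHom φ))).smoothLocus := by
    rw [h2]
    exact h3
  rw [h1] at h4
  exact h4

end gen

section main

variable {R K : Type u} [CommRing R] [IsDedekindDomain R] [Finite (MaximalSpectrum R)] [Field K]
  [Algebra R K] {Y : Scheme.{u}}
  (f : Y ⟶ Spec (CommRingCat.of R)) (YK : Over (Spec (CommRingCat.of K))) (y : YK.left ⟶ Y)
  (sq : IsPullback y YK.hom f (Spec.map (CommRingCat.ofHom (algebraMap R K))))
  {H : Over (Spec (CommRingCat.of K))} [GrpObj H] (ρ : H ⊗ YK ⟶ YK)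

/-- **Smoothness and ampleness from generic translations.** -/
theorem exists_isAmple (hR : ¬ IsField R) [Flat f] [IsSeparated f] [LocallyOfFiniteType f] [QuasiCompact f]
    [IsIntegral Y] [GeometricallyIntegral YK.hom]
    (hone : lift (toUnit YK ≫ η[H]) (𝟙 YK) ≫ ρ = 𝟙 YK)
    (hmul : (μ[H] ▷ YK) ≫ ρ = (α_ H H YK).hom ≫ (H ◁ ρ) ≫ ρ)
    (hsm : ∀ [LocallyOfFinitePresentation f] (z : Y), IsMaxFib f z → z ∈ f.smoothLocus)
    (P : MaximalSpectrum R → Type u) [∀ q, CommRing (P q)] [∀ q, IsDomain (P q)]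
    [∀ q, IsDiscreteValuationRing (P q)] (φ : ∀ q, R →+* P q) (hφf : ∀ q, (φ q).Flat)
    (hφ : ∀ q, (IsLocalRing.maximalIdeal (P q)).comap (φ q) = q.asIdeal)
    (hC : ∀ (q : MaximalSpectrum R) (C : Scheme.{u}) (c : C ⟶ Spec (CommRingCat.of R)),
      IsIntegral C → LocallyOfFiniteType c → (∀ x, (c x).asIdeal = q.asIdeal) →
        IsIntegral (pullback c (Spec.map (CommRingCat.ofHom (φ q)))))
    (t : ∀ q, K →+* FractionRing (P q))
    (ht : ∀ q, (t q).comp (algebraMap R K) = (algebraMap (P q) (FractionRing (P q))).comp (φ q))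
    (γ : ∀ q, TF (t q) ⟶ H)
    (a b : ∀ q, bc f (φ q) ⟶ Y)
    (ha : ∀ q, a q ≫ f = pullback.snd _ _ ≫ Spec.map (CommRingCat.ofHom (φ q)))
    (hb : ∀ q, b q ≫ f = pullback.snd _ _ ≫ Spec.map (CommRingCat.ofHom (φ q)))
    (haK : ∀ q, jj f YK y sq (φ q) (t q) (ht q) ≫ a q = (tr YK (t q) ρ (γ q)).left ≫ y)
    (hbK : ∀ q, jj f YK y sq (φ q) (t q) (ht q) ≫ b q = (tr YK (t q) ρ (γ q)⁻¹).left ≫ y)
    (hsq : ∀ (q : MaximalSpectrum R) (c : Pic YK.left), ∃ n : ℕ, 0 < n ∧
      (pull (tr YK (t q) ρ (γ q)).left c * pull (tr YK (t q) ρ (γ q)⁻¹).left c) ^ n =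
        pull (snd (TF (t q)) YK).left c ^ (2 * n))
    (hd : ∀ z : Y, ∃ (q : MaximalSpectrum R) (z' : bc f (φ q)), pullback.fst f _ z' = z ∧
      IsMaxFib f (a q z') ∧ IsMaxFib f (b q z')) :
    Smooth f ∧ ∃ L : Y.Modules, CohB1.IsAmple L := by
  have hfp : LocallyOfFinitePresentation f := inferInstance
  have hisoa : ∀ q, IsIso (sg f (φ q) (a q) (ha q)) := fun q =>
    isIso_sg f YK y sq (φ q) (t q) (ht q) ρ (a q) (ha q) (b q) (hb q) (γ q) (γ q)⁻¹ (haK q) (hbK q) hone hmul
      (inv_mul_cancel _) (mul_inv_cancel _)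
  have hisob : ∀ q, IsIso (sg f (φ q) (b q) (hb q)) := fun q =>
    isIso_sg f YK y sq (φ q) (t q) (ht q) ρ (b q) (hb q) (a q) (ha q) (γ q)⁻¹ (γ q) (hbK q) (haK q) hone hmul
      (mul_inv_cancel _) (inv_mul_cancel _)
  have hsmooth : Smooth f := by
    rw [← Scheme.Hom.smoothLocus_eq_top_iff]
    apply SetLike.coe_injective
    rw [TopologicalSpace.Opens.coe_top, Set.eq_univ_iff_forall]
    intro z
    obtain ⟨q, z', rfl, h1, -⟩ := hd z
    exact mem_smoothLocus f (φ q) (a q) (ha q) z' (hsm _ h1)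
  refine ⟨hsmooth, K622.Trans.exists_isAmple f hR (isRegularLocalRing_stalk f) P φ hφf hφ
    (fun q => (isIntegral_bc f YK y sq (φ q) (t q) (ht q)).1) hC a b (fun q => ?_) (fun q => ?_)
    (fun q c => ?_) hd⟩
  · rw [← sg_fst f (φ q) (a q) (ha q)]
    have h1 : IsIso (sg f (φ q) (a q) (ha q)) := hisoa q
    have h2 : IsAffineHom (pullback.fst f (Spec.map (CommRingCat.ofHom (φ q)))) :=
      MorphismProperty.pullback_fst _ _ inferInstance
    have h3 : IsAffineHom (sg f (φ q) (a q) (ha q)) := inferInstance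
    exact MorphismProperty.comp_mem _ _ _ h3 h2
  · rw [← sg_fst f (φ q) (b q) (hb q)]
    have h1 : IsIso (sg f (φ q) (b q) (hb q)) := hisob q
    have h2 : IsAffineHom (pullback.fst f (Spec.map (CommRingCat.ofHom (φ q)))) :=
      MorphismProperty.pullback_fst _ _ inferInstance
    have h3 : IsAffineHom (sg f (φ q) (b q) (hb q)) := inferInstance
    exact MorphismProperty.comp_mem _ _ _ h3 h2
  · obtain ⟨n, hn, h⟩ := hsq q (pull y c)
    refine ⟨n, hn, ?_⟩
    -- the canonical generic fibre and `jj`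
    let e := (isPullback_jj f YK y sq (φ q) (t q) (ht q)).isoPullback
    have he : e.hom ≫ gen f (φ q) = jj f YK y sq (φ q) (t q) (ht q) := IsPullback.isoPullback_hom_fst _
    have h2 : Function.Injective (pull e.hom) := by
      intro u v huv
      have h3 := congrArg (pull e.inv) huv
      rwa [← pull_comp, ← pull_comp, e.inv_hom_id, pull_id, pull_id] at h3
    apply h2
    rw [map_one, ← pull_comp, he, map_pow, map_mul, map_mul, map_inv, map_pow, ← pull_comp, ← pull_comp,
      ← pull_comp, haK, hbK, jj_fst, pull_comp, pull_comp, pull_comp, mul_pow, h, inv_pow, ← pow_mul,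
      mul_inv_cancel]

end main

end

end K622.GenTr
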