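import Groth.Agent.AlgSp.K622.CoreC
import Groth.Agent.AlgSp.K622.CoreT
import Groth.Agent.AlgSp.K622.GenTr
import Groth.Agent.AlgSp.K598.RepKit

/-!
# The translations on the generic fibre

The translate by the arc (a morphism `X ×_R P ⟶ X`) and the translation on the generic fibre of a model.
-/

set_option autoImplicit false
universe u

open CategoryTheory CategoryTheory.Limits AlgebraicGeometry MonoidalCategory CartesianMonoidalCategory MonObj AlgSp

namespace K622.CoreG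

open K622.AnDefs K622.AnDefs2 K622.CoreC K622.CoreT K622.GenTr K612.OrbFlat

set_option maxHeartbeats 400000
set_option backward.isDefEq.respectTransparency.types false

noncomputable section

variable {R K : Type u} [CommRing R] [Field K] [Algebra R K]
  {G M : Over ((yon (Spec (CommRingCat.of R))).obj (Over.mk (𝟙 (Spec (CommRingCat.of R)))))}
  [GrpObj G] (act : GAction G M) {X : Sp (Spec (CommRingCat.of R))} (i : X ⟶ M.left)
  (D : HData R K G)

/-- The homomorphism `H → G` on points. -/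
def hpt {T : Over (Spec (CommRingCat.of K))} (a : T ⟶ D.H) :
    (yon (Spec (CommRingCat.of R))).obj ((Over.map (gn R K)).obj T) ⟶ G.left :=
  (yon (Spec (CommRingCat.of R))).map ((Over.map (gn R K)).map a) ≫ D.h

theorem hpt_mul {T : Over (Spec (CommRingCat.of K))} (a b : T ⟶ D.H) :
    hpt D (a * b) = mul (hpt D a) (hpt D b) := D.hmul a b

theorem mul_one' {F : Sp (Spec (CommRingCat.of R))} (g : F ⟶ G.left) :
    mul g ((1 : ov F ⟶ G).left) = g :=
  congrArg (fun f : ov F ⟶ G => f.left) (_root_.mul_one (up g))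

theorem hpt_one {T : Over (Spec (CommRingCat.of K))} : hpt D (1 : T ⟶ D.H) =
    (1 : ov ((yon (Spec (CommRingCat.of R))).obj ((Over.map (gn R K)).obj T)) ⟶ G).left := by
  have h1 : mul (hpt D (1 : T ⟶ D.H)) (hpt D (1 : T ⟶ D.H)) = hpt D (1 : T ⟶ D.H) := by
    rw [← hpt_mul, _root_.mul_one]
  have h2 := inv_mul_cancel' (hpt D (1 : T ⟶ D.H)) (hpt D (1 : T ⟶ D.H))
  rw [h1, K612.OrbFlat.inv_mul'] at h2
  exact h2.symm

theorem hpt_inv {T : Over (Spec (CommRingCat.of K))} (a : T ⟶ D.H) :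
    hpt D a⁻¹ = inv (hpt D a) := by
  have h1 : mul (hpt D a⁻¹) (hpt D a) =
      (1 : ov ((yon (Spec (CommRingCat.of R))).obj ((Over.map (gn R K)).obj T)) ⟶ G).left := by
    rw [← hpt_mul, inv_mul_cancel, hpt_one]
  have h2 : mul (mul (hpt D a⁻¹) (hpt D a)) (inv (hpt D a)) = hpt D a⁻¹ := by
    rw [mul_assoc', K612.OrbFlat.mul_inv']
    exact mul_one' _
  rw [← h2, h1]
  exact one_mul' _

theorem comp_hpt {T T' : Over (Spec (CommRingCat.of K))} (r : T' ⟶ T) (a : T ⟶ D.H) :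
    (yon (Spec (CommRingCat.of R))).map ((Over.map (gn R K)).map r) ≫ hpt D a = hpt D (r ≫ a) := by
  rw [hpt, hpt, ← Category.assoc, ← Functor.map_comp, ← Functor.map_comp]

variable {Xs : Over (Spec (CommRingCat.of R))} (eX : (yon (Spec (CommRingCat.of R))).obj Xs ≅ X)

theorem pt_injective [Mono i] {T : Over (Spec (CommRingCat.of R))} {m m' : T ⟶ Xs}
    (h : pt i eX m = pt i eX m') : m = m' := by
  have h1 := (cancel_mono (eX.hom ≫ i)).1 h
  exact (yon (Spec (CommRingCat.of R))).map_injective h1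

theorem comp_pt {T T' : Over (Spec (CommRingCat.of R))} (r : T' ⟶ T) (m : T ⟶ Xs) :
    (yon (Spec (CommRingCat.of R))).map r ≫ pt i eX m = pt i eX (r ≫ m) := by
  rw [pt, pt, Functor.map_comp, Category.assoc]

variable {P : Type u} [CommRing P] [IsDomain P] (φ : R →+* P)

variable (Xs) in
/-- `X ×_R P` over `R`. -/
abbrev XP : Over (Spec (CommRingCat.of R)) :=
  Over.mk (pullback.fst Xs.hom (Spec.map (CommRingCat.ofHom φ)) ≫ Xs.hom)

variable (Xs) in
/-- `X ×_R P ⟶ X`. -/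
abbrev prX : XP Xs φ ⟶ Xs := Over.homMk (pullback.fst Xs.hom (Spec.map (CommRingCat.ofHom φ))) rfl

variable (Xs) in
/-- `X ×_R P ⟶ P`. -/
abbrev prP : XP Xs φ ⟶ Over.mk (Spec.map (CommRingCat.ofHom φ)) :=
  Over.homMk (pullback.snd Xs.hom (Spec.map (CommRingCat.ofHom φ))) pullback.condition.symm

variable (t : K →+* FractionRing P) (ht : t.comp (algebraMap R K) = (algebraMap P (FractionRing P)).comp φ)

/-- `Spec (Frac P) ⟶ Spec P` over `R`. -/
abbrev jF : (Over.map (gn R K)).obj (Over.mk (Spec.map (CommRingCat.ofHom t))) ⟶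
    Over.mk (Spec.map (CommRingCat.ofHom φ)) :=
  Over.homMk (Spec.map (CommRingCat.ofHom (algebraMap P (FractionRing P)))) (by
    change Spec.map _ ≫ Spec.map _ = Spec.map _ ≫ Spec.map _
    rw [← Spec.map_comp, ← Spec.map_comp, ← CommRingCat.ofHom_comp, ← CommRingCat.ofHom_comp, ht])

variable {Y : Scheme.{u}} (ν : Y ⟶ Xs.left)
  (YK : Over (Spec (CommRingCat.of K))) (y : YK.left ⟶ Y)
  (sq : IsPullback y YK.hom (ν ≫ Xs.hom) (Spec.map (CommRingCat.ofHom (algebraMap R K))))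
  (XK : Over (Spec (CommRingCat.of K))) (x : (Over.map (gn R K)).obj XK ⟶ Xs)
  (yy : YK ⟶ XK) (hyy : yy.left ≫ x.left = y ≫ ν)
  (ρ : D.H ⊗ YK ⟶ YK)
  (hρ : ∀ (T : Over (Spec (CommRingCat.of K))) (a : T ⟶ D.H) (z : T ⟶ YK),
          pt i eX ((Over.map (gn R K)).map (lift a z ≫ ρ ≫ yy) ≫ x) =
            op act ((yon (Spec (CommRingCat.of R))).map ((Over.map (gn R K)).map a) ≫ D.h)
              (pt i eX ((Over.map (gn R K)).map (z ≫ yy) ≫ x)))

include hyy hρ in
/-- The translations on the generic fibre of a model. -/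
theorem jj_kap_w [Mono i] (c : TF t ⟶ D.H)
    (Gp : (yon (Spec (CommRingCat.of R))).obj (Over.mk (Spec.map (CommRingCat.ofHom φ))) ⟶ G.left)
    (hc : hpt D c = (yon (Spec (CommRingCat.of R))).map (jF φ t ht) ≫ Gp)
    (w : XP Xs φ ⟶ Xs)
    (hw : pt i eX w = op act ((yon (Spec (CommRingCat.of R))).map (prP Xs φ) ≫ Gp) (pt i eX (prX Xs φ))) :
    jj (ν ≫ Xs.hom) YK y sq φ t ht ≫ kap ν Xs.hom (Spec.map (CommRingCat.ofHom φ)) ≫ w.left =
      (tr YK t ρ c).left ≫ y ≫ ν := by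
  let T := TF t ⊗ YK
  let W₁ : (Over.map (gn R K)).obj T ⟶ Xs :=
    (Over.map (gn R K)).map (lift (fst (TF t) YK ≫ c) (snd (TF t) YK) ≫ ρ ≫ yy) ≫ x
  have hW₁ : pt i eX W₁ = op act (hpt D (fst (TF t) YK ≫ c))
      (pt i eX ((Over.map (gn R K)).map (snd (TF t) YK ≫ yy) ≫ x)) :=
    hρ T (fst (TF t) YK ≫ c) (snd (TF t) YK)
  have hJ0 : (jj (ν ≫ Xs.hom) YK y sq φ t ht ≫ kap ν Xs.hom (Spec.map (CommRingCat.ofHom φ))) ≫
      pullback.fst Xs.hom (Spec.map (CommRingCat.ofHom φ)) = (snd (TF t) YK).left ≫ y ≫ ν := by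
    rw [Category.assoc, kap_fst, ← Category.assoc, jj_fst, Category.assoc]
  have hJ1 : (jj (ν ≫ Xs.hom) YK y sq φ t ht ≫ kap ν Xs.hom (Spec.map (CommRingCat.ofHom φ))) ≫
      pullback.snd Xs.hom (Spec.map (CommRingCat.ofHom φ)) =
        (fst (TF t) YK).left ≫ Spec.map (CommRingCat.ofHom (algebraMap P (FractionRing P))) := by
    rw [Category.assoc, kap_snd, jj_snd]
  let J : (Over.map (gn R K)).obj T ⟶ XP Xs φ :=
    Over.homMk (jj (ν ≫ Xs.hom) YK y sq φ t ht ≫ kap ν Xs.hom (Spec.map (CommRingCat.ofHom φ))) (by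
      change (jj (ν ≫ Xs.hom) YK y sq φ t ht ≫ kap ν Xs.hom (Spec.map (CommRingCat.ofHom φ))) ≫
        pullback.fst Xs.hom (Spec.map (CommRingCat.ofHom φ)) ≫ Xs.hom = T.hom ≫ gn R K
      rw [← Category.assoc, hJ0, Category.assoc, Category.assoc, sq.w, ← Category.assoc, Over.w])
  have h1 : J ≫ prP Xs φ = (Over.map (gn R K)).map (fst (TF t) YK) ≫ jF φ t ht := by
    apply Over.OverMorphism.ext
    exact hJ1
  have h2 : J ≫ prX Xs φ = (Over.map (gn R K)).map (snd (TF t) YK ≫ yy) ≫ x := by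
    apply Over.OverMorphism.ext
    change (jj (ν ≫ Xs.hom) YK y sq φ t ht ≫ kap ν Xs.hom (Spec.map (CommRingCat.ofHom φ))) ≫
      pullback.fst Xs.hom (Spec.map (CommRingCat.ofHom φ)) =
        ((snd (TF t) YK).left ≫ yy.left) ≫ x.left
    rw [hJ0, Category.assoc, hyy]
  have h3 : pt i eX (J ≫ w) = pt i eX W₁ := by
    rw [← comp_pt, hw, comp_op, comp_pt, hW₁, ← Category.assoc, ← Functor.map_comp, h1, h2,
      Functor.map_comp, Category.assoc, ← hc, comp_hpt]
  have h4 := congrArg (fun f => f.left) (pt_injective i eX h3)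
  have h5 : W₁.left = ((tr YK t ρ c).left ≫ yy.left) ≫ x.left := by
    change ((lift (fst (TF t) YK ≫ c) (snd (TF t) YK)).left ≫ ρ.left ≫ yy.left) ≫ x.left = _
    rw [tr, Over.comp_left]
    simp only [Category.assoc]
  rw [Category.assoc, hyy] at h5
  rw [← h5, ← h4]
  exact (Category.assoc _ _ _).symm

end

end K622.CoreG
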