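import Groth.Agent.AlgSp.K622.CoreG
import Groth.Agent.AlgSp.K489.Square
import Groth.Agent.AlgSp.K93.RFLift
import Groth.Agent.AlgSp.K93.RFNormal
import Groth.Agent.Sga4B.SmoothNormal

/-!
# The translations of a model
-/

set_option autoImplicit false
universe u

open CategoryTheory CategoryTheory.Limits AlgebraicGeometry MonoidalCategory CartesianMonoidalCategory MonObj AlgSp

namespace K622.CoreM

open Groth.Agent K622.AnDefs K622.AnDefs2 K622.CoreC K622.CoreT K622.CoreG K622.GenTr K622.Trans K622.FibPts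
  K612.OrbFlat

set_option maxHeartbeats 400000
set_option backward.isDefEq.respectTransparency.types false

noncomputable section

section norm

variable {R K : Type u} [CommRing R] [Field K] [Algebra R K] {Y : Scheme.{u}}
  (f : Y ⟶ Spec (CommRingCat.of R)) (YK : Over (Spec (CommRingCat.of K))) (y : YK.left ⟶ Y)
  (sq : IsPullback y YK.hom f (Spec.map (CommRingCat.ofHom (algebraMap R K))))
  {P : Type u} [CommRing P] [IsDomain P] (φ : R →+* P) (t : K →+* FractionRing P)
  (ht : t.comp (algebraMap R K) = (algebraMap P (FractionRing P)).comp φ)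

include sq ht in
theorem isNormalScheme_bc [IsPrincipalIdealRing P] [Flat f] [LocallyOfFiniteType f] [GeometricallyReduced f]
    [Smooth YK.hom] : Pi1.IsNormalScheme (bc f φ) := by
  refine K93.RedFib.isNormalScheme_of_flat (FractionRing P) (pullback.snd f (Spec.map (CommRingCat.ofHom φ)))
    ?_ fun k _ _ _ => ?_
  · have hs : Smooth (fst (TF t) YK).left := by
      change Smooth (pullback.fst (TF t).hom YK.hom)
      infer_instance
    let e := (isPullback_jj f YK y sq φ t ht).isoPullback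
    have h1 : e.inv ≫ (fst (TF t) YK).left = pullback.snd _ _ := IsPullback.isoPullback_inv_snd _
    have h2 : Smooth (pullback.snd (pullback.snd f (Spec.map (CommRingCat.ofHom φ)))
        (Spec.map (CommRingCat.ofHom (algebraMap P (FractionRing P))))) := by
      rw [← h1]
      infer_instance
    exact Sga4B.SmoothNormal.isNormalScheme_of_smooth (pullback.snd
      (pullback.snd f (Spec.map (CommRingCat.ofHom φ)))
      (Spec.map (CommRingCat.ofHom (algebraMap P (FractionRing P)))))
  · have h3 : GeometricallyReduced (pullback.snd f (Spec.map (CommRingCat.ofHom φ))) := inferInstance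
    exact h3.geometrically_isReduced _ _ _ (IsPullback.of_hasPullback _ _)

/-- Lifting along a finite morphism. -/
theorem exists_lift [IsPrincipalIdealRing P] [Flat f] [LocallyOfFiniteType f] [GeometricallyReduced f]
    [Smooth YK.hom] {X' : Scheme.{u}} (ν : Y ⟶ X') [IsIntegralHom ν] (h : bc f φ ⟶ X')
    (σ : (TF t ⊗ YK).left ⟶ Y) (hσ : σ ≫ ν = jj f YK y sq φ t ht ≫ h) :
    ∃ a : bc f φ ⟶ Y, a ≫ ν = h ∧ jj f YK y sq φ t ht ≫ a = σ := by
  have hT := isNormalScheme_bc f YK y sq φ t ht
  let e := (isPullback_jj f YK y sq φ t ht).isoPullback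
  have h1 : e.hom ≫ K93.RedFib.genι (pullback.snd f (Spec.map (CommRingCat.ofHom φ))) (FractionRing P) =
    jj f YK y sq φ t ht := IsPullback.isoPullback_hom_fst _
  obtain ⟨a, ⟨ha1, ha2⟩, -⟩ := K93.RedFib.exists_unique_lift (P := P) (F := FractionRing P)
    (pullback.snd f (Spec.map (CommRingCat.ofHom φ))) ν hT h (e.inv ≫ σ) (by
      rw [Category.assoc, hσ, ← h1, Category.assoc, e.inv_hom_id_assoc])
  refine ⟨a, ha1, ?_⟩
  rw [← h1, Category.assoc, ha2, e.hom_inv_id_assoc]

end norm

/-- A point of `Spec P` over a given prime. -/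
theorem exists_point {R K : Type u} [CommRing R] [IsDedekindDomain R] [Field K] [Algebra R K]
    [IsFractionRing R K] {P : MaximalSpectrum R → Type u} [∀ q, CommRing (P q)]
    [∀ q, IsDomain (P q)] [∀ q, IsLocalRing (P q)]
    (φ : ∀ q, R →+* P q) (hφ : ∀ q, (IsLocalRing.maximalIdeal (P q)).comap (φ q) = q.asIdeal)
    (t : ∀ q, K →+* FractionRing (P q))
    (ht : ∀ q, (t q).comp (algebraMap R K) = (algebraMap (P q) (FractionRing (P q))).comp (φ q))
    (s : Spec (CommRingCat.of R)) : ∃ (q : MaximalSpectrum R) (p : Spec (CommRingCat.of (P q))),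
      Spec.map (CommRingCat.ofHom (φ q)) p = s := by
  by_cases h : s.asIdeal = ⊥
  · obtain ⟨m, hm⟩ := Ideal.exists_maximal R
    let q : MaximalSpectrum R := ⟨m, hm⟩
    refine ⟨q, ⟨⊥, Ideal.isPrime_bot⟩, ?_⟩
    apply PrimeSpectrum.ext
    rw [h]
    change (⊥ : Ideal (P q)).comap (φ q) = ⊥
    have hinj : Function.Injective (φ q) := by
      have h1 : Function.Injective ((algebraMap (P q) (FractionRing (P q))).comp (φ q)) := by
        rw [← ht q]
        exact (t q).injective.comp (IsFractionRing.injective R K)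
      rw [RingHom.coe_comp] at h1
      exact Function.Injective.of_comp h1
    exact (RingHom.injective_iff_ker_eq_bot _).mp hinj
  · let q : MaximalSpectrum R := ⟨s.asIdeal, Ring.DimensionLEOne.maximalOfPrime h s.isPrime⟩
    refine ⟨q, ⟨IsLocalRing.maximalIdeal (P q), inferInstance⟩, ?_⟩
    apply PrimeSpectrum.ext
    exact hφ q

section model

variable {R K : Type u} [CommRing R] [IsDedekindDomain R] [Finite (MaximalSpectrum R)] [Field K]
  [Algebra R K] [IsFractionRing R K]
  {G M : Over ((yon (Spec (CommRingCat.of R))).obj (Over.mk (𝟙 (Spec (CommRingCat.of R)))))}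
  [GrpObj G] (act : GAction G M) {X : Sp (Spec (CommRingCat.of R))} (i : X ⟶ M.left)
  (D : HData R K G) (A : ∀ q, Arc R K D q)
  {Xs : Over (Spec (CommRingCat.of R))} (eX : (yon (Spec (CommRingCat.of R))).obj Xs ≅ X)

omit [IsDedekindDomain R] [Finite (MaximalSpectrum R)] [IsFractionRing R K] in
theorem hpt_arc {q : MaximalSpectrum R} (A : Arc R K D q) :
    hpt D A.g = (yon (Spec (CommRingCat.of R))).map (jF A.φ A.t A.ht) ≫
      (yon (Spec (CommRingCat.of R))).map A.c ≫ A.j := by
  have h1 := A.hg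
  rw [Functor.map_comp, Category.assoc] at h1
  exact h1

include A eX in
/-- **The models have ample modules.** -/
theorem exists_isAmple_model (hC1 : NodeC1.{u}) (hC2 : NodeC2.{u}) (hC4 : NodeC4.{u}) (hR : ¬ IsField R)
    (hs : Sit act i) (hfc : FibClosed i) (ho : OrbFlat act) [IsSeparated Xs.hom]
    [LocallyOfFiniteType Xs.hom] [QuasiCompact Xs.hom]
    (Y : Scheme.{u}) (ν : Y ⟶ Xs.left) [IsIntegral Y] [IsFinite ν] [Flat (ν ≫ Xs.hom)]
    [GeometricallyReduced (ν ≫ Xs.hom)]
    (h1 : Smooth (pullback.snd (ν ≫ Xs.hom) (gn R K)))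
    (h2 : GeometricallyIntegral (pullback.snd (ν ≫ Xs.hom) (gn R K)))
    (h3 : IsClosedImmersion (pullback.map (ν ≫ Xs.hom) (gn R K) Xs.hom (gn R K) ν (𝟙 _) (𝟙 _)
        (Category.comp_id _) (by rw [Category.comp_id, Category.id_comp])))
    (h4 : IsOpen (Set.range (pullback.map (ν ≫ Xs.hom) (gn R K) Xs.hom (gn R K) ν (𝟙 _) (𝟙 _)
        (Category.comp_id _) (by rw [Category.comp_id, Category.id_comp])))) :
    ∃ L : Y.Modules, CohB1.IsAmple L := by
  have hmono : Mono i := K610.Factor.mono_of_isOpenImmersion hs.op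
  let XK : Over (Spec (CommRingCat.of K)) := Over.mk (pullback.snd Xs.hom (gn R K))
  let x : (Over.map (gn R K)).obj XK ⟶ Xs := Over.homMk (pullback.fst Xs.hom (gn R K)) pullback.condition
  have hx : IsPullback x.left XK.hom Xs.hom (gn R K) := IsPullback.of_hasPullback _ _
  let YK : Over (Spec (CommRingCat.of K)) := Over.mk (pullback.snd (ν ≫ Xs.hom) (gn R K))
  let y : YK.left ⟶ Y := pullback.fst (ν ≫ Xs.hom) (gn R K)
  have sq : IsPullback y YK.hom (ν ≫ Xs.hom) (Spec.map (CommRingCat.ofHom (algebraMap R K))) :=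
    IsPullback.of_hasPullback _ _
  let yy : YK ⟶ XK := Over.homMk (pullback.map (ν ≫ Xs.hom) (gn R K) Xs.hom (gn R K) ν (𝟙 _) (𝟙 _)
        (Category.comp_id _) (by rw [Category.comp_id, Category.id_comp]))
        ((pullback.lift_snd _ _ _).trans (Category.comp_id _))
  have hyy : yy.left ≫ x.left = y ≫ ν := pullback.lift_fst _ _ _
  have h1' : Smooth YK.hom := h1
  have h2' : GeometricallyIntegral YK.hom := h2
  obtain ⟨ρ, hone, hmul, hρ⟩ := hC2 R K G M act X i hs hfc D Xs eX XK YK x hx yy h3 h4 h2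
  -- the translates
  choose w hw using fun q => (hC1 R K G M act X i hs hfc D q (A q) Xs eX (XP Xs (A q).φ)
    (prP Xs (A q).φ) (prX Xs (A q).φ)).1
  choose w' hw' using fun q => (hC1 R K G M act X i hs hfc D q (A q) Xs eX (XP Xs (A q).φ) (prP Xs (A q).φ)
    (prX Xs (A q).φ)).2
  have ea : ∀ q, jj (ν ≫ Xs.hom) YK y sq (A q).φ (A q).t (A q).ht ≫
      kap ν Xs.hom (Spec.map (CommRingCat.ofHom (A q).φ)) ≫ (w q).left =
        (tr YK (A q).t ρ (A q).g).left ≫ y ≫ ν := by
    intro q
    refine jj_kap_w act i D eX (A q).φ (A q).t (A q).ht ν YK y sq XK x yy hyy ρ hρ (A q).g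
      ((yon (Spec (CommRingCat.of R))).map (A q).c ≫ (A q).j) (hpt_arc D (A q)) (w q) ?_
    rw [hw q, Functor.map_comp, Category.assoc]
  have eb : ∀ q, jj (ν ≫ Xs.hom) YK y sq (A q).φ (A q).t (A q).ht ≫
      kap ν Xs.hom (Spec.map (CommRingCat.ofHom (A q).φ)) ≫ (w' q).left =
        (tr YK (A q).t ρ (A q).g⁻¹).left ≫ y ≫ ν := by
    intro q
    refine jj_kap_w act i D eX (A q).φ (A q).t (A q).ht ν YK y sq XK x yy hyy ρ hρ (A q).g⁻¹
      (inv ((yon (Spec (CommRingCat.of R))).map (A q).c ≫ (A q).j)) ?_ (w' q) ?_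
    · rw [hpt_inv, hpt_arc, ← comp_inv]
    · rw [hw' q, comp_inv, Functor.map_comp, Category.assoc]
  have hint : IsIntegralHom ν := inferInstance
  choose a ha1 ha2 using fun q => exists_lift (ν ≫ Xs.hom) YK y sq (A q).φ (A q).t (A q).ht ν
    (kap ν Xs.hom (Spec.map (CommRingCat.ofHom (A q).φ)) ≫ (w q).left)
    ((tr YK (A q).t ρ (A q).g).left ≫ y) (by rw [Category.assoc]; exact (ea q).symm)
  choose b hb1 hb2 using fun q => exists_lift (ν ≫ Xs.hom) YK y sq (A q).φ (A q).t (A q).ht ν
    (kap ν Xs.hom (Spec.map (CommRingCat.ofHom (A q).φ)) ≫ (w' q).left)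
    ((tr YK (A q).t ρ (A q).g⁻¹).left ≫ y) (by rw [Category.assoc]; exact (eb q).symm)
  have hk : ∀ (q : MaximalSpectrum R) (w : XP Xs (A q).φ ⟶ Xs),
      (kap ν Xs.hom (Spec.map (CommRingCat.ofHom (A q).φ)) ≫ w.left) ≫ Xs.hom =
        pullback.snd (ν ≫ Xs.hom) (Spec.map (CommRingCat.ofHom (A q).φ)) ≫
          Spec.map (CommRingCat.ofHom (A q).φ) := by
    intro q w
    have e1 : w.left ≫ Xs.hom = pullback.fst Xs.hom (Spec.map (CommRingCat.ofHom (A q).φ)) ≫ Xs.hom :=
      Over.w w
    rw [Category.assoc, e1, pullback.condition, ← Category.assoc, kap_snd]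
  have hsep : IsSeparated (ν ≫ Xs.hom) := inferInstance
  have hqs : QuasiSeparated YK.hom := by
    change QuasiSeparated (pullback.snd (ν ≫ Xs.hom) (gn R K))
    infer_instance
  have hqc : QuasiCompact YK.hom := by
    change QuasiCompact (pullback.snd (ν ≫ Xs.hom) (gn R K))
    infer_instance
  refine (K622.GenTr.exists_isAmple (ν ≫ Xs.hom) YK y sq ρ hR hone hmul
    (fun z hz => CoreS.mem_smoothLocus_of_isMaxFib (ν ≫ Xs.hom) z hz)
    (fun q => (A q).P) (fun q => (A q).φ) (fun q => (A q).flat) (fun q => (A q).comap)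
    (fun q C c hCi hCf hCq => CoreS.isIntegral_pullback q (A q).φ (A q).comap (A q).map (A q).res c hCq)
    (fun q => (A q).t) (fun q => (A q).ht) (fun q => (A q).g) a b ?_ ?_ ha2 hb2 ?_ ?_).2
  · intro q
    rw [← Category.assoc, ha1]
    exact hk q (w q)
  · intro q
    rw [← Category.assoc, hb1]
    exact hk q (w' q)
  · intro q c
    exact K489.Square.square (Spec.map (CommRingCat.ofHom (A q).t)) D.H YK ρ hone (A q).g c
  · intro z
    obtain ⟨q, p, hp⟩ := exists_point (K := K) (fun q => (A q).φ) (fun q => (A q).comap)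
      (fun q => (A q).t) (fun q => (A q).ht) (Xs.hom (ν z))
    obtain ⟨z', hz', hmax⟩ := exists_max ν Xs.hom (Spec.map (CommRingCat.ofHom (A q).φ)) z ⟨p, hp⟩
    obtain ⟨m1, m2⟩ := hC4 R K G M act X i hs ho D q (A q) Xs eX (w q) (w' q) (hw q) (hw' q) _ hmax
    refine ⟨q, z', hz', ?_, ?_⟩
    · refine isMaxFib_of_isIntegralHom ν Xs.hom (a q z') ?_
      rw [← Scheme.Hom.comp_apply, ha1, Scheme.Hom.comp_apply]
      exact m1
    · refine isMaxFib_of_isIntegralHom ν Xs.hom (b q z') ?_
      rw [← Scheme.Hom.comp_apply, hb1, Scheme.Hom.comp_apply]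
      exact m2

end model

end

end K622.CoreM
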