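import Groth.Agent.AlgSp.K622.FibPts
import Groth.Agent.S2156
import Groth.Agent.VarietyA.GeomRedSch
import Mathlib.AlgebraicGeometry.Geometrically.Integral
import Mathlib.RingTheory.DiscreteValuationRing.Basic

/-!
# Smoothness at the maximal points of the fibres; integral base changes along weakly unramified extensions

* `mem_smoothLocus_of_isMaxFib`: a flat morphism locally of finite presentation with geometrically reduced
  fibres is smooth at the maximal points of its fibres.
* `isIntegral_pullback`: `R → P` with `q P` the maximal ideal of `P` and geometrically integral residue field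
  extension at `q`; integral schemes of finite type over `κ(q)` stay integral over `P`.
-/

set_option autoImplicit false
universe u

open CategoryTheory CategoryTheory.Limits AlgebraicGeometry TopologicalSpace

namespace K622.CoreS

open Groth.Agent K622.FibPts

set_option maxHeartbeats 400000
set_option backward.isDefEq.respectTransparency.types false

noncomputable section

theorem isPullback_comp_mono {C : Type*} [Category C] {Z X Y W T : C} {a : Z ⟶ X} {b : Z ⟶ Y}
    {f : X ⟶ W} {g : Y ⟶ W} (h : IsPullback a b f g) (m : W ⟶ T) [Mono m] :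
    IsPullback a b (f ≫ m) (g ≫ m) := by
  refine ⟨⟨by rw [← Category.assoc, h.w, Category.assoc]⟩, ⟨PullbackCone.IsLimit.mk _
    (fun s => h.lift s.fst s.snd ?_) ?_ ?_ ?_⟩⟩
  · rw [← cancel_mono m, Category.assoc, Category.assoc]
    exact s.condition
  · intro s; exact h.lift_fst _ _ _
  · intro s; exact h.lift_snd _ _ _
  · intro s l h1 h2
    exact h.hom_ext (by rw [h1, h.lift_fst]) (by rw [h2, h.lift_snd])

theorem isIntegral_of_iso {X Y : Scheme.{u}} (e : X ≅ Y) [IsIntegral X] : IsIntegral Y := by
  have : Nonempty Y := ⟨e.hom (Classical.arbitrary X)⟩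
  exact isIntegral_of_isOpenImmersion e.inv

/-- A dense open of a locally noetherian scheme contains a generalization of every point. -/
theorem exists_mem_specializes_of_dense {X : Scheme.{u}} [IsLocallyNoetherian X] (U : X.Opens)
    (hU : Dense (U : Set X)) (x : X) : ∃ ξ ∈ U, ξ ⤳ x := by
  obtain ⟨W, hW, hxW, -⟩ := exists_isAffineOpen_mem_and_subset (X := X) (x := x) (U := ⊤) trivial
  have hWn : IsLocallyNoetherian W.toScheme := inferInstance
  have : CompactSpace W.toScheme := isCompact_iff_compactSpace.mp hW.isCompact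
  have : IsNoetherian W.toScheme := {}
  have hNS : TopologicalSpace.NoetherianSpace W.toScheme := inferInstance
  let xW : W.toScheme := ⟨x, hxW⟩
  have hT : irreducibleComponent xW ∈ irreducibleComponents W.toScheme :=
    irreducibleComponent_mem_irreducibleComponents xW
  obtain ⟨o, ho, hne, hoT⟩ :=
    TopologicalSpace.NoetherianSpace.exists_isOpen_nonempty_subset_irreducibleComponent
      (α := W.toScheme) _ hT
  obtain ⟨ξ, hξ⟩ := QuasiSober.sober hT.1 (isClosed_of_mem_irreducibleComponents _ hT)
  have hoX : IsOpen (W.ι '' o) := W.ι.isOpenEmbedding.isOpenMap _ ho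
  obtain ⟨r, ⟨r', hr'o, rfl⟩, hrU⟩ :=
    (hU.inter_open_nonempty _ hoX (hne.image _))
  have h1 : ξ ⤳ r' := hξ.specializes (hoT hr'o)
  have h2 : ξ ⤳ xW := hξ.specializes mem_irreducibleComponent
  exact ⟨W.ι ξ, (h1.map W.ι.continuous).mem_open U.2 hrU, h2.map W.ι.continuous⟩

/-- Flat morphisms with geometrically reduced fibres are smooth at the maximal points of the fibres. -/
theorem mem_smoothLocus_of_isMaxFib {X S : Scheme.{u}} (f : X ⟶ S) [Flat f]
    [LocallyOfFinitePresentation f] [GeometricallyReduced f] (x : X) (hx : IsMaxFib f x) :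
    x ∈ f.smoothLocus := by
  have hlfp : LocallyOfFinitePresentation (f.fiberToSpecResidueField (f x)) := by
    change LocallyOfFinitePresentation (pullback.snd f (S.fromSpecResidueField (f x)))
    infer_instance
  have hgr : GeometricallyReduced (f.fiberToSpecResidueField (f x)) := by
    change GeometricallyReduced (pullback.snd f (S.fromSpecResidueField (f x)))
    infer_instance
  have hln : IsLocallyNoetherian (f.fiber (f x)) :=
    LocallyOfFiniteType.isLocallyNoetherian (f.fiberToSpecResidueField (f x))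
  refine (Groth.Agent.S2156.result f x).2 ⟨Flat.stalkMap f x, ?_⟩
  obtain ⟨ξ, hξ, hξx⟩ := exists_mem_specializes_of_dense
    (f.fiberToSpecResidueField (f x)).smoothLocus
    (VarietyA.GeomRedSch.dense_smoothLocus (S.residueField (f x)) (f.fiberToSpecResidueField (f x)))
    (f.asFiber x)
  have h1 : f.fiberι (f x) ξ = x := by
    refine hx _ ?_ ?_
    · have h2 := hξx.map (f.fiberι (f x)).continuous
      rwa [f.fiberι_asFiber] at h2
    · have h3 : f.fiberι (f x) ξ ∈ f ⁻¹' {f x} := by
        rw [← f.range_fiberι]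
        exact ⟨ξ, rfl⟩
      exact h3
  have h4 : ξ = f.asFiber x := (f.fiberι (f x)).isEmbedding.injective (by rw [h1, f.fiberι_asFiber])
  rw [← h4]
  exact hξ

section integral

variable {R : Type u} [CommRing R] (q : MaximalSpectrum R) {P : Type u} [CommRing P] [IsLocalRing P]
  (φ : R →+* P)

/-- A reduced scheme over `Spec R` with all points over `q` is a scheme over `R ⧸ q`. -/
theorem exists_factor {C : Scheme.{u}} [IsReduced C] (c : C ⟶ Spec (CommRingCat.of R))
    (hc : ∀ x, (c x).asIdeal = q.asIdeal) : ∃ c' : C ⟶ Spec (CommRingCat.of (R ⧸ q.asIdeal)),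
      c' ≫ Spec.map (CommRingCat.ofHom (Ideal.Quotient.mk q.asIdeal)) = c := by
  let s : R →+* Γ(C, ⊤) := (c.appTop.hom).comp (Scheme.ΓSpecIso (CommRingCat.of R)).inv.hom
  have hs : ∀ r ∈ q.asIdeal, s r = 0 := by
    intro r hr
    rw [← basicOpen_eq_bot_iff, ← le_bot_iff]
    intro x hx
    have h1 : C.basicOpen (s r) = c ⁻¹ᵁ ((Spec (CommRingCat.of R)).basicOpen
        ((Scheme.ΓSpecIso (CommRingCat.of R)).inv.hom r)) := by
      rw [Scheme.preimage_basicOpen]
      rfl
    rw [h1, basicOpen_eq_of_affine'] at hx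
    have h2 : r ∉ (c x).asIdeal := by
      have h3 : c x ∈ PrimeSpectrum.basicOpen ((Scheme.ΓSpecIso (CommRingCat.of R)).hom
          ((Scheme.ΓSpecIso (CommRingCat.of R)).inv.hom r)) := hx
      have h4 : (Scheme.ΓSpecIso (CommRingCat.of R)).hom
          ((Scheme.ΓSpecIso (CommRingCat.of R)).inv.hom r) = r := by
        exact congr($((Scheme.ΓSpecIso (CommRingCat.of R)).inv_hom_id) r)
      rw [h4] at h3
      exact h3
    rw [hc x] at h2
    exact (h2 hr).elim
  let l : (R ⧸ q.asIdeal) →+* Γ(C, ⊤) := Ideal.Quotient.lift q.asIdeal s hs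
  refine ⟨C.toSpecΓ ≫ Spec.map (CommRingCat.ofHom l), ?_⟩
  rw [Category.assoc, ← Spec.map_comp, ← CommRingCat.ofHom_comp]
  have h5 : l.comp (Ideal.Quotient.mk q.asIdeal) = s := Ideal.Quotient.lift_comp_mk _ _ _
  rw [h5]
  have h6 : CommRingCat.ofHom s = (Scheme.ΓSpecIso (CommRingCat.of R)).inv ≫ c.appTop := rfl
  rw [h6, Spec.map_comp, ← Category.assoc, ← Scheme.toSpecΓ_naturality, Category.assoc]
  simp

theorem isPullback_residue (hmap : q.asIdeal.map φ = IsLocalRing.maximalIdeal P)
    (κ : (R ⧸ q.asIdeal) →+* IsLocalRing.ResidueField P)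
    (hκ : κ.comp (Ideal.Quotient.mk q.asIdeal) = (IsLocalRing.residue P).comp φ) :
    IsPullback (Spec.map (CommRingCat.ofHom (IsLocalRing.residue P))) (Spec.map (CommRingCat.ofHom κ))
      (Spec.map (CommRingCat.ofHom φ)) (Spec.map (CommRingCat.ofHom (Ideal.Quotient.mk q.asIdeal))) := by
  have hl : ∀ s : PushoutCocone (CommRingCat.ofHom φ)
      (CommRingCat.ofHom (Ideal.Quotient.mk q.asIdeal)),
      ∀ a ∈ IsLocalRing.maximalIdeal P, s.inl.hom a = 0 := by
    intro s a ha
    rw [← hmap] at ha
    induction ha using Submodule.span_induction with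
    | mem x hx =>
      obtain ⟨r, hr, rfl⟩ := hx
      have h1 := congr($(s.condition) r)
      have h2 : Ideal.Quotient.mk q.asIdeal r = 0 := Ideal.Quotient.eq_zero_iff_mem.2 hr
      change s.inl.hom (φ r) = s.inr.hom (Ideal.Quotient.mk q.asIdeal r) at h1
      rw [h1, h2, map_zero]
    | zero => exact map_zero _
    | add x y _ _ hx hy => rw [map_add, hx, hy, add_zero]
    | smul a x _ hx => rw [smul_eq_mul, map_mul, hx, mul_zero]
  have h : IsPushout (CommRingCat.ofHom φ) (CommRingCat.ofHom (Ideal.Quotient.mk q.asIdeal))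
      (CommRingCat.ofHom (IsLocalRing.residue P)) (CommRingCat.ofHom κ) := by
    refine ⟨⟨by rw [← CommRingCat.ofHom_comp, ← CommRingCat.ofHom_comp, hκ]⟩, ⟨?_⟩⟩
    refine PushoutCocone.IsColimit.mk _ (fun s => CommRingCat.ofHom (Ideal.Quotient.lift
      (IsLocalRing.maximalIdeal P) s.inl.hom (hl s))) ?_ ?_ ?_
    · intro s
      ext x
      rfl
    · intro s
      apply CommRingCat.hom_ext
      apply Ideal.Quotient.ringHom_ext
      ext x
      have h1 := congr($(s.condition) x)
      have h2 := congr($hκ x)
      change κ (Ideal.Quotient.mk q.asIdeal x) = IsLocalRing.residue P (φ x) at h2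
      change (Ideal.Quotient.lift (IsLocalRing.maximalIdeal P) s.inl.hom (hl s))
        (κ (Ideal.Quotient.mk q.asIdeal x)) = s.inr.hom (Ideal.Quotient.mk q.asIdeal x)
      rw [h2]
      exact h1
    · intro s m hm1 hm2
      apply CommRingCat.hom_ext
      apply Ideal.Quotient.ringHom_ext
      ext x
      exact congr($hm1 x)
  exact isPullback_SpecMap_of_isPushout _ _ _ _ h

/-- Integral schemes over `κ(q)` stay integral over `P`. -/
theorem isIntegral_pullback (hcomap : (IsLocalRing.maximalIdeal P).comap φ = q.asIdeal)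
    (hmap : q.asIdeal.map φ = IsLocalRing.maximalIdeal P)
    (hres : ∀ (k' : Type u) [Field k'] (ψ : R →+* k'), RingHom.ker ψ = q.asIdeal →
      IsIntegral (pullback (Spec.map (CommRingCat.ofHom ψ))
        (Spec.map (CommRingCat.ofHom ((IsLocalRing.residue P).comp φ)))))
    [IsNoetherianRing R] {C : Scheme.{u}} (c : C ⟶ Spec (CommRingCat.of R)) [IsIntegral C]
    [LocallyOfFiniteType c] (hc : ∀ x, (c x).asIdeal = q.asIdeal) :
    IsIntegral (pullback c (Spec.map (CommRingCat.ofHom φ))) := by
  obtain ⟨c', hc'⟩ := exists_factor q c hc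
  let _ : Field (R ⧸ q.asIdeal) := Ideal.Quotient.field q.asIdeal
  have hk : ∀ r ∈ q.asIdeal, ((IsLocalRing.residue P).comp φ) r = 0 := by
    intro r hr
    rw [RingHom.comp_apply, IsLocalRing.residue_eq_zero_iff, ← Ideal.mem_comap, hcomap]
    exact hr
  let κ : (R ⧸ q.asIdeal) →+* IsLocalRing.ResidueField P :=
    Ideal.Quotient.lift q.asIdeal ((IsLocalRing.residue P).comp φ) hk
  have hκ : κ.comp (Ideal.Quotient.mk q.asIdeal) = (IsLocalRing.residue P).comp φ :=
    Ideal.Quotient.lift_comp_mk _ _ _
  have hgeom : GeometricallyIntegral (Spec.map (CommRingCat.ofHom κ)) := by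
    refine ⟨fun L _ y Z fst snd h => ?_⟩
    obtain ⟨ψ', rfl⟩ := Spec.map_surjective y
    let ψ : R →+* L := ψ'.hom.comp (Ideal.Quotient.mk q.asIdeal)
    have hker : RingHom.ker ψ = q.asIdeal := by
      rw [← RingHom.comap_ker, (RingHom.injective_iff_ker_eq_bot _).1 ψ'.hom.injective]
      exact Ideal.mk_ker
    have h1 := hres L ψ hker
    have h2 : IsPullback snd fst (Spec.map (CommRingCat.ofHom ψ))
        (Spec.map (CommRingCat.ofHom ((IsLocalRing.residue P).comp φ))) := by
      have h3 : Spec.map (CommRingCat.ofHom ψ) = Spec.map ψ' ≫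
          Spec.map (CommRingCat.ofHom (Ideal.Quotient.mk q.asIdeal)) := by
        rw [← Spec.map_comp]; rfl
      have h4 : Spec.map (CommRingCat.ofHom ((IsLocalRing.residue P).comp φ)) =
          Spec.map (CommRingCat.ofHom κ) ≫
            Spec.map (CommRingCat.ofHom (Ideal.Quotient.mk q.asIdeal)) := by
        rw [← Spec.map_comp, ← hκ]; rfl
      have hmono : Mono (Spec.map (CommRingCat.ofHom (Ideal.Quotient.mk q.asIdeal))) := by
        have : IsClosedImmersion (Spec.map (CommRingCat.ofHom (Ideal.Quotient.mk q.asIdeal))) :=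
          IsClosedImmersion.spec_of_surjective _ Ideal.Quotient.mk_surjective
        infer_instance
      rw [h3, h4]
      exact isPullback_comp_mono h.flip _
    exact isIntegral_of_iso h2.isoPullback.symm
  have hln : IsLocallyNoetherian C := LocallyOfFiniteType.isLocallyNoetherian c
  have hflat : Flat (Spec.map (CommRingCat.ofHom κ)) := inferInstance
  have hint : IsIntegral (pullback c' (Spec.map (CommRingCat.ofHom κ))) := inferInstance
  have hp := (IsPullback.of_hasPullback c' (Spec.map (CommRingCat.ofHom κ))).flip.paste_horiz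
    (isPullback_residue q φ hmap κ hκ)
  rw [hc'] at hp
  exact isIntegral_of_iso hp.flip.isoPullback

end integral

end

end K622.CoreS
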