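import Groth.Agent.AlgSp.K622.GrpQuot

/-!
Elementary etale neighbourhoods; comparison of two monomorphisms from spectra of fields.
-/

set_option autoImplicit false
universe u
open CategoryTheory CategoryTheory.Limits AlgebraicGeometry Opposite Topology
open AlgSp

set_option maxHeartbeats 400000
set_option backward.isDefEq.respectTransparency.types false

noncomputable section

namespace K622.ElemNbhd

open K622.Basic K622.EpiYon K622.Sch K622.MonoPts K622.GrpQuot

variable {S : Scheme.{u}} {F : Sp S}

theorem isIso_over {A B : Over S} (f : A ⟶ B) (h : IsIso f.left) : IsIso f := by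
  have : IsIso ((Over.forget S).map f) := h
  exact isIso_of_reflects_iso f (Over.forget S)

/-- Two monomorphisms from spectra of fields defining the same point are isomorphic. -/
theorem exists_iso_of_mk_eq {K L : Type u} [Field K] [Field L] {str : Spec (CommRingCat.of K) ⟶ S}
    {str' : Spec (CommRingCat.of L) ⟶ S} (p : (yon S).obj (Over.mk str) ⟶ F)
    (q : (yon S).obj (Over.mk str') ⟶ F) (hp : Representable p) [Mono p] [Mono q]
    (h : Points.ofPt p (pt0 str) = Points.ofPt q (pt0 str')) :
    ∃ e : Over.mk str ≅ Over.mk str', (yon S).map e.hom ≫ q = p := by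
  obtain ⟨T, a, b, hT⟩ := exists_pullback_yon hp q
  have h1 : Mono ((yon S).map a) := mono_fst_of_isPullback hT
  have h2 : Mono ((yon S).map b) := mono_snd_of_isPullback hT
  have h1' : Mono a.left := mono_of_yon_map a
  have h2' : Mono b.left := mono_of_yon_map b
  obtain ⟨t, -, -⟩ := exists_pt_of_isPullback' hT (pt0 str) (pt0 str') h
  have : Nonempty ↥T.left := ⟨t⟩
  have i1 : IsIso a.left := isIso_of_mono_field (K := K) a.left
  have i2 : IsIso b.left := isIso_of_mono_field (K := L) b.left
  have j1 : IsIso a := isIso_over a i1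
  have j2 : IsIso b := isIso_over b i2
  refine ⟨(asIso a).symm ≪≫ asIso b, ?_⟩
  rw [Iso.trans_hom, Iso.symm_hom, asIso_inv, asIso_hom, Functor.map_comp, Category.assoc, ← hT.w,
    ← Category.assoc, ← Functor.map_comp, IsIso.inv_hom_id, (yon S).map_id, Category.id_comp]

theorem exists_factor_sch {X : Scheme.{u}} {K : Type u} [Field K] (l : Spec (CommRingCat.of K) ⟶ X) :
    ∃ g : Spec (CommRingCat.of K) ⟶ Spec (X.residueField (l (IsLocalRing.closedPoint K))),
      g ≫ X.fromSpecResidueField (l (IsLocalRing.closedPoint K)) = l :=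
  ⟨_, Scheme.descResidueField_stalkClosedPointTo_fromSpecResidueField K X l⟩

/-- A morphism from the spectrum of a field to a scheme factors through the residue field of its image. -/
theorem exists_factor_residue {T : Over S} {K : Type u} [Field K] {str : Spec (CommRingCat.of K) ⟶ S}
    (l : Over.mk str ⟶ T) (v : ↥T.left) (hv : l.left (pt0 str) = v) :
    ∃ g : Over.mk str ⟶ Over.mk (T.left.fromSpecResidueField v ≫ T.hom),
      g ≫ Over.homMk (T.left.fromSpecResidueField v) rfl = l := by
  subst hv
  obtain ⟨g, hg⟩ := exists_factor_sch (X := T.left) (K := K) l.left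
  refine ⟨Over.homMk g ?_, ?_⟩
  · exact ((Category.assoc _ _ _).symm.trans (congrArg (· ≫ T.hom) hg)).trans (Over.w l)
  · exact Over.OverMorphism.ext hg

theorem elem_of_lift {U₁ W : Over S} {x : Points F} (h : W ⟶ U₁) (a₁ : (yon S).obj U₁ ⟶ F) (u₁ : ↥U₁.left)
    (he : IsElemEtaleNbhd a₁ u₁ x) (hW : Etale h.left)
    (l : Over.mk (U₁.left.fromSpecResidueField u₁ ≫ U₁.hom) ⟶ W)
    (hl : l ≫ h = Over.homMk (U₁.left.fromSpecResidueField u₁) rfl) :
    ∃ v : ↥W.left, v = l.left (pt0 (K := U₁.left.residueField u₁) _) ∧ h.left v = u₁ ∧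
      IsElemEtaleNbhd ((yon S).map h ≫ a₁) v x := by
  let str : Spec (U₁.left.residueField u₁) ⟶ S := U₁.left.fromSpecResidueField u₁ ≫ U₁.hom
  let v : ↥W.left := l.left (pt0 (K := U₁.left.residueField u₁) str)
  have hv : h.left v = u₁ := by
    have h1 : h.left v = (l ≫ h).left (pt0 (K := U₁.left.residueField u₁) str) := by
      rw [Over.comp_left, Scheme.Hom.comp_apply]
    rw [h1, hl]
    exact Scheme.fromSpecResidueField_apply u₁ _
  refine ⟨v, rfl, hv, ⟨(RepWith @Etale).comp_mem _ _ ((repWith_yon_map_iff _ _).2 hW) he.etale, ?_, ?_⟩⟩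
  · rw [ofPt_yon_map, hv, he.ofPt_eq]
  · obtain ⟨g, hg⟩ := exists_factor_residue (K := U₁.left.residueField u₁) l v rfl
    have hp : (FieldPt.ofPt a₁ u₁).toHom = (yon S).map l ≫ (yon S).map h ≫ a₁ := by
      rw [FieldPt.toHom_ofPt, ← Category.assoc, ← Functor.map_comp, hl]
      rfl
    have hm : Mono ((yon S).map l ≫ (yon S).map h ≫ a₁) := hp ▸ he.mono
    have hlm : Mono ((yon S).map l) := mono_of_mono _ ((yon S).map h ≫ a₁)
    have hlm' : Mono l := (yon S).mono_of_mono_map hlm
    have hgm : Mono g := by
      rw [← hg] at hlm'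
      exact mono_of_mono g (Over.homMk (W.left.fromSpecResidueField v) rfl)
    have hgi : IsIso g.left := by
      have : Mono g.left := inferInstance
      have : Nonempty ↥(Over.mk str).left := ⟨pt0 (K := U₁.left.residueField u₁) str⟩
      exact isIso_of_mono_field (K := W.left.residueField v) g.left
    have hgi' : IsIso g := isIso_over g hgi
    have h2 : (yon S).map (Over.homMk (W.left.fromSpecResidueField v) rfl :
        Over.mk (W.left.fromSpecResidueField v ≫ W.hom) ⟶ W) ≫ (yon S).map h ≫ a₁ =
        (yon S).map (inv g) ≫ (yon S).map l ≫ (yon S).map h ≫ a₁ := by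
      rw [← Category.assoc ((yon S).map (inv g)), ← Functor.map_comp]
      congr 2
      rw [← hg, ← Category.assoc, IsIso.inv_hom_id, Category.id_comp]
    have h3 : Mono ((yon S).map (Over.homMk (W.left.fromSpecResidueField v) rfl :
        Over.mk (W.left.fromSpecResidueField v ≫ W.hom) ⟶ W) ≫ (yon S).map h ≫ a₁) := by
      rw [h2]
      exact mono_comp _ _
    rw [FieldPt.toHom_ofPt]
    exact h3

end K622.ElemNbhd
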