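import Groth.Agent.AlgSp.K622.Basic
import Mathlib.CategoryTheory.Sites.LocallySurjective

/-!
Fppf coverings as epimorphisms of representable sheaves; testing monomorphisms and epimorphisms of sheaves on
representable sheaves.
-/

set_option autoImplicit false
universe u
open CategoryTheory CategoryTheory.Limits AlgebraicGeometry Opposite Topology
open AlgSp

noncomputable section

namespace K622.EpiYon

variable {S : Scheme.{u}} {F G H : Sp S}

/-- A flat, locally finitely presented, surjective morphism of schemes over `S` generates a covering sieve. -/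
theorem generate_singleton_mem {T U : Over S} (p : U ⟶ T) [Flat p.left] [Surjective p.left]
    [LocallyOfFinitePresentation p.left] : Sieve.generate (Presieve.singleton p) ∈ J S T := by
  rw [GrothendieckTopology.mem_over_iff, Sieve.overEquiv_generate]
  have h : Presieve.functorPushforward (Over.forget S) (Presieve.singleton p) ≤
      (Sieve.generate (Presieve.singleton p.left)).arrows := by
    rintro Z f ⟨W, g, i, ⟨⟩, rfl⟩
    exact ⟨_, i, p.left, ⟨⟩, rfl⟩
  have h' : Sieve.generate (X := T.left) (Presieve.singleton p.left) ≤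
      Sieve.generate (X := T.left) (Presieve.functorPushforward (Over.forget S) (Presieve.singleton p)) := by
    refine (Sieve.generate_le_iff _ _).2 ?_
    rintro Z f ⟨⟩
    exact ⟨_, 𝟙 _, p.left, ⟨_, p, 𝟙 _, ⟨⟩, (Category.id_comp _).symm⟩, Category.id_comp _⟩
  exact GrothendieckTopology.superset_covering _ h'
    (Precoverage.generate_mem_toGrothendieck (Scheme.Hom.singleton_mem_fppfPrecoverage p.left))

theorem isSheafFor_singleton (F : Sp S) {T U : Over S} (p : U ⟶ T) [Flat p.left] [Surjective p.left]
    [LocallyOfFinitePresentation p.left] : Presieve.IsSheafFor F.obj (Presieve.singleton p) := by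
  rw [Presieve.isSheafFor_iff_generate]
  exact ((isSheaf_iff_isSheaf_of_type _ _).1 F.2) _ (generate_singleton_mem p)

/-- The morphism defined by a section. -/
def homOfSec {F : Sp S} {T : Over S} (x : F.obj.obj (op T)) : (yon S).obj T ⟶ F := (J S).uliftYonedaEquiv.symm x

theorem equiv_homOfSec {F : Sp S} {T : Over S} (x : F.obj.obj (op T)) :
    (J S).uliftYonedaEquiv (homOfSec x) = x := Equiv.apply_symm_apply _ _

theorem homOfSec_injective {F : Sp S} {T : Over S} {x y : F.obj.obj (op T)} (h : homOfSec x = homOfSec y) :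
    x = y := (J S).uliftYonedaEquiv.symm.injective h

theorem homOfSec_comp {T : Over S} (x : F.obj.obj (op T)) (f : F ⟶ G) :
    homOfSec x ≫ f = homOfSec (f.hom.app _ x) := by
  apply (J S).uliftYonedaEquiv.injective
  rw [GrothendieckTopology.uliftYonedaEquiv_comp, equiv_homOfSec, equiv_homOfSec]

theorem equiv_map {T T' : Over S} (a : T' ⟶ T) (i : (yon S).obj T ⟶ F) :
    (J S).uliftYonedaEquiv ((yon S).map a ≫ i) = F.obj.map a.op ((J S).uliftYonedaEquiv i) := by
  rw [GrothendieckTopology.map_uliftYonedaEquiv, GrothendieckTopology.uliftYonedaEquiv_comp,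
      GrothendieckTopology.uliftYonedaEquiv_uliftYoneda_map]

/-- Descent of morphisms out of representable sheaves along fppf coverings. -/
theorem existsUnique_desc {T U : Over S} (p : U ⟶ T) [Flat p.left] [Surjective p.left]
    [LocallyOfFinitePresentation p.left] (q : (yon S).obj U ⟶ F)
    (hq : ∀ {Z : Over S} (a b : Z ⟶ U), a ≫ p = b ≫ p → (yon S).map a ≫ q = (yon S).map b ≫ q) :
    ∃! m : (yon S).obj T ⟶ F, (yon S).map p ≫ m = q := by
  have h := Presieve.isSheafFor_singleton.1 (isSheafFor_singleton F p) ((J S).uliftYonedaEquiv q)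
    (fun a b hab => by rw [← equiv_map, ← equiv_map, hq a b hab])
  obtain ⟨y, hy, huy⟩ := h
  refine ⟨(J S).uliftYonedaEquiv.symm y, ?_, fun m hm => ?_⟩
  · apply (J S).uliftYonedaEquiv.injective
    rw [equiv_map, Equiv.apply_symm_apply]
    exact hy
  · rw [Equiv.eq_symm_apply]
    apply huy
    dsimp only at hm
    rw [← equiv_map, hm]

theorem hom_ext_cover {T U : Over S} (p : U ⟶ T) [Flat p.left] [Surjective p.left]
    [LocallyOfFinitePresentation p.left] {m m' : (yon S).obj T ⟶ F}
    (h : (yon S).map p ≫ m = (yon S).map p ≫ m') : m = m' := by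
  refine (existsUnique_desc p ((yon S).map p ≫ m) (fun a b hab => ?_)).unique rfl h.symm
  rw [← Category.assoc, ← Category.assoc, ← Functor.map_comp, ← Functor.map_comp, hab]

instance epi_yon_map {T U : Over S} (p : U ⟶ T) [Flat p.left] [Surjective p.left]
    [LocallyOfFinitePresentation p.left] : Epi ((yon S).map p) :=
  ⟨fun _ _ h => hom_ext_cover p h⟩

/-- Morphisms of sheaves are equal if they agree on all maps from representable sheaves. -/
theorem hom_ext_yon {f g : F ⟶ G} (h : ∀ (T : Over S) (a : (yon S).obj T ⟶ F), a ≫ f = a ≫ g) : f = g := by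
  apply Sheaf.hom_ext
  ext T x
  have := congrArg (J S).uliftYonedaEquiv (h T.unop ((J S).uliftYonedaEquiv.symm x))
  rw [GrothendieckTopology.uliftYonedaEquiv_comp, GrothendieckTopology.uliftYonedaEquiv_comp,
    Equiv.apply_symm_apply] at this
  exact this

theorem mono_of_yon (f : F ⟶ G) (h : ∀ (T : Over S) (a b : (yon S).obj T ⟶ F), a ≫ f = b ≫ f → a = b) :
    Mono f :=
  ⟨fun u v huv => hom_ext_yon fun T a => h T _ _ (by rw [Category.assoc, Category.assoc, huv])⟩

/-- Epimorphisms of sheaves of sets over `S`: local lifting of sections. -/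
theorem isLocallySurjective_of_lift (f : F ⟶ G)
    (h : ∀ (T : Over S) (a : (yon S).obj T ⟶ G), ∃ (T' : Over S) (p : T' ⟶ T), Flat p.left ∧ Surjective p.left ∧
      LocallyOfFinitePresentation p.left ∧ ∃ b : (yon S).obj T' ⟶ F, b ≫ f = (yon S).map p ≫ a) :
    Sheaf.IsLocallySurjective f := by
  constructor
  intro T s
  obtain ⟨T', p, h1, h2, h3, b, hb⟩ := h T ((J S).uliftYonedaEquiv.symm s)
  refine GrothendieckTopology.superset_covering _ ?_ (generate_singleton_mem p)
  rw [Sieve.generate_le_iff]
  rintro Z g ⟨⟩
  refine ⟨(J S).uliftYonedaEquiv b, ?_⟩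
  have := congrArg (J S).uliftYonedaEquiv hb
  rw [equiv_map, Equiv.apply_symm_apply, GrothendieckTopology.uliftYonedaEquiv_comp] at this
  exact this

theorem epi_of_lift (f : F ⟶ G)
    (h : ∀ (T : Over S) (a : (yon S).obj T ⟶ G), ∃ (T' : Over S) (p : T' ⟶ T), Flat p.left ∧ Surjective p.left ∧
      LocallyOfFinitePresentation p.left ∧ ∃ b : (yon S).obj T' ⟶ F, b ≫ f = (yon S).map p ≫ a) :
    Epi f := by
  have := isLocallySurjective_of_lift f h
  infer_instance

/-- A monomorphism of sheaves through which sections lift locally is an isomorphism. -/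
theorem isIso_of_mono_of_lift (f : F ⟶ G) [Mono f]
    (h : ∀ (T : Over S) (a : (yon S).obj T ⟶ G), ∃ (T' : Over S) (p : T' ⟶ T), Flat p.left ∧ Surjective p.left ∧
      LocallyOfFinitePresentation p.left ∧ ∃ b : (yon S).obj T' ⟶ F, b ≫ f = (yon S).map p ≫ a) :
    IsIso f := by
  have key : ∀ (T : Over S) (a : (yon S).obj T ⟶ G), ∃ b : (yon S).obj T ⟶ F, b ≫ f = a := by
    intro T a
    obtain ⟨T', p, h1, h2, h3, b, hb⟩ := h T a
    obtain ⟨m, hm, -⟩ := existsUnique_desc p b (fun u v huv => by
      rw [← cancel_mono f, Category.assoc, Category.assoc, hb, ← Category.assoc, ← Category.assoc,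
        ← Functor.map_comp, ← Functor.map_comp, huv])
    refine ⟨m, hom_ext_cover p ?_⟩
    rw [← hb, ← hm, Category.assoc]
  have hbij : ∀ T : (Over S)ᵒᵖ, Function.Bijective (f.hom.app T) := by
    intro T
    constructor
    · intro x y hxy
      have : homOfSec (T := T.unop) x ≫ f = homOfSec (T := T.unop) y ≫ f := by
        rw [homOfSec_comp, homOfSec_comp]
        exact congrArg homOfSec hxy
      rw [cancel_mono] at this
      exact homOfSec_injective this
    · intro y
      obtain ⟨b, hb⟩ := key T.unop (homOfSec (T := T.unop) y)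
      refine ⟨(J S).uliftYonedaEquiv b, ?_⟩
      have := congrArg (J S).uliftYonedaEquiv hb
      rw [GrothendieckTopology.uliftYonedaEquiv_comp, equiv_homOfSec] at this
      exact this
  have h1 : IsIso f.hom := by
    rw [NatTrans.isIso_iff_isIso_app]
    intro T
    rw [isIso_iff_bijective]
    exact hbij T
  have h2 : IsIso ((sheafToPresheaf _ _).map f) := h1
  exact isIso_of_reflects_iso f (sheafToPresheaf _ _)

end K622.EpiYon
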