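import Groth.Agent.AlgSp.K622.MonoPts
import Groth.Agent.AlgSp.K613.Chart
import Groth.Agent.AlgSp.K596.QC
import Groth.Agent.AlgSp.K597.LocP
import Groth.Agent.AlgSp.K597.EtLoc

/-!
Finiteness of the set of points of a fibre product over a given pair of points, for a morphism of finite type which is
quasi-finite at the given point.
-/

set_option autoImplicit false
universe u
open CategoryTheory CategoryTheory.Limits AlgebraicGeometry Opposite Topology
open AlgSp

set_option maxHeartbeats 400000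
set_option backward.isDefEq.respectTransparency.types false

noncomputable section

namespace K622.FinFib

open K622.Basic K622.MonoPts K622.Sch

variable {S : Scheme.{u}}

/-- A scheme locally quasi-finite over a field is discrete. -/
theorem discreteTopology_of_lqf {T : Scheme.{u}} {K : Type u} [Field K] (f : T ⟶ Spec (CommRingCat.of K))
    [LocallyQuasiFinite f] : DiscreteTopology T := by
  have hK : DiscreteTopology ↥(Spec (CommRingCat.of K)) := Subsingleton.discreteTopology
  have h := f.isDiscrete_preimage (s := Set.univ) (isDiscrete_univ_iff.2 hK)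
  rw [Set.preimage_univ] at h
  exact isDiscrete_univ_iff.1 h

theorem lqf_etale {X Y : Scheme.{u}} (g : Y ⟶ X) (h : Etale g) : LocallyQuasiFinite g :=
  locallyQuasiFinite_of_formallyUnramified g

/-- The points of a chart of `X ×_Y Spec K` over a point where `X ⟶ Y` is quasi-finite are isolated. -/
theorem isOpen_singleton {X Y : Sp S} (f : X ⟶ Y)
    {K : Type u} [Field K] {str : Spec (CommRingCat.of K) ⟶ S} (m : (yon S).obj (Over.mk str) ⟶ Y)
    {P : Sp S} {fst : P ⟶ X} {snd : P ⟶ (yon S).obj (Over.mk str)} (sq : IsPullback fst snd f m) (x : Points X)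
    (hf : HasAtMor (fun U _ h u => ∃ W : U.Opens, u ∈ W ∧ LocallyQuasiFinite (W.ι ≫ h) ∧
      LocallyOfFiniteType (W.ι ≫ h)) f x)
    {T : Over S} {a : (yon S).obj T ⟶ P} (ha : RepWith @Etale a) (t : ↥T.left)
    (ht : Points.map fst (Points.ofPt a t) = x) : IsOpen ({t} : Set ↥T.left) := by
  obtain ⟨U, V, a', b', h, u, ha', hb', w, hu, O, huO, hlqf, -⟩ := hf
  let U₀ : Over S := Over.mk (O.ι ≫ U.hom)
  let ι₀ : U₀ ⟶ U := Over.homMk O.ι rfl
  let u₀ : ↥U₀.left := (⟨u, huO⟩ : ↥O)
  have hu₀ : ι₀.left u₀ = u := rfl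
  let h₀ : U₀ ⟶ V := ι₀ ≫ h
  let a₀ : (yon S).obj U₀ ⟶ X := (yon S).map ι₀ ≫ a'
  have ha₀ : RepWith @Etale a₀ := (RepWith @Etale).comp_mem _ _
    ((repWith_yon_map_iff _ _).2 (inferInstanceAs (Etale O.ι))) ha'
  have hw₀ : a₀ ≫ f = (yon S).map h₀ ≫ b' := by
    simp only [a₀, h₀, Functor.map_comp, Category.assoc, w]
  have hh₀ : LocallyQuasiFinite h₀.left := hlqf
  obtain ⟨R, r1, r2, hR⟩ := exists_pullback_yon hb'.1 m
  have hr2 : Etale r2.left := (repWith_yon_map_iff _ _).1 ((RepWith @Etale).of_isPullback hR hb')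
  let Q := pullback h₀ r1
  let q1 : Q ⟶ U₀ := pullback.fst _ _
  let q2 : Q ⟶ R := pullback.snd _ _
  have hQ : IsPullback q1 q2 h₀ r1 := IsPullback.of_hasPullback h₀ r1
  have hQl : IsPullback q1.left q2.left h₀.left r1.left := hQ.map (Over.forget S)
  have hq2 : LocallyQuasiFinite q2.left := MorphismProperty.of_isPullback (P := @LocallyQuasiFinite) hQl hh₀
  have hQm : IsPullback ((yon S).map q1) ((yon S).map q2 ≫ (yon S).map r2) (a₀ ≫ f) m := by
    rw [hw₀]
    exact (hQ.map (yon S)).paste_vert hR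
  let c : (yon S).obj Q ⟶ P := sq.lift ((yon S).map q1 ≫ a₀) ((yon S).map q2 ≫ (yon S).map r2) (by
    rw [Category.assoc]; exact hQm.w)
  have hc1 : c ≫ fst = (yon S).map q1 ≫ a₀ := sq.lift_fst _ _ _
  have hc2 : c ≫ snd = (yon S).map q2 ≫ (yon S).map r2 := sq.lift_snd _ _ _
  have hcq : IsPullback ((yon S).map q1) c a₀ fst := by
    have h1 : IsPullback ((yon S).map q1) (c ≫ snd) (a₀ ≫ f) m := by rw [hc2]; exact hQm
    exact (IsPullback.of_right h1.flip hc1 sq.flip).flip
  have hce : RepWith @Etale c := (RepWith @Etale).of_isPullback hcq ha₀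
  obtain ⟨T', t1, t2, hT'⟩ := exists_pullback_yon ha.1 c
  have ht2 : Etale t2.left := (repWith_yon_map_iff _ _).1 ((RepWith @Etale).of_isPullback hT' ha)
  have ht1 : Etale t1.left := (repWith_yon_map_iff _ _).1 ((RepWith @Etale).of_isPullback hT'.flip hce)
  obtain ⟨w0, -, hw0⟩ := exists_pt_of_isPullback_left hcq u₀ (Points.ofPt a t) (by
    rw [ht, ofPt_yon_map, hu₀, hu])
  obtain ⟨t', ht', -⟩ := exists_pt_of_isPullback' hT' t w0 hw0.symm
  have i1 : LocallyQuasiFinite t2.left := lqf_etale _ ht2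
  have i2 : LocallyQuasiFinite r2.left := lqf_etale _ hr2
  let k : T'.left ⟶ Spec (CommRingCat.of K) := t2.left ≫ q2.left ≫ r2.left
  have i3 : LocallyQuasiFinite k := inferInstanceAs (LocallyQuasiFinite (t2.left ≫ q2.left ≫ r2.left))
  have hd : DiscreteTopology ↥T'.left := discreteTopology_of_lqf k
  have ho : IsOpenMap t1.left := t1.left.isOpenMap
  have := ho {t'} (isOpen_discrete _)
  rw [Set.image_singleton, ht'] at this
  exact this

/-- Let `X ⟶ Y` be of finite type and quasi-finite at `x`.  Finitely many points of `X ×_Y Spec K` lie over `x`. -/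
theorem finite_over {X Y : Sp S} (hX : IsAlgSpace X) (hY : IsAlgSpace Y) (f : X ⟶ Y) (hft : IsFiniteTypeMor f)
    {K : Type u} [Field K] {str : Spec (CommRingCat.of K) ⟶ S} (m : (yon S).obj (Over.mk str) ⟶ Y)
    {P : Sp S} {fst : P ⟶ X} {snd : P ⟶ (yon S).obj (Over.mk str)} (sq : IsPullback fst snd f m) (x : Points X)
    (hf : HasAtMor (fun U _ h u => ∃ W : U.Opens, u ∈ W ∧ LocallyQuasiFinite (W.ι ≫ h) ∧
      LocallyOfFiniteType (W.ι ≫ h)) f x) :
    {w : Points P | Points.map fst w = x}.Finite := by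
  have hP : IsAlgSpace P := K613.Chart.isAlgSpace_of_isPullback hY.diag hX (IsAlgSpace.yon_obj _) sq
  have hcK : CompactSpace ↥(Over.mk str).left := inferInstanceAs (CompactSpace ↥(Spec (CommRingCat.of K)))
  obtain ⟨T, a, ha, has, hT⟩ := hft.2 (IsAlgSpace.yon_obj _) (K596.QC.isQuasiCompactSp_yon (Over.mk str)) m fst snd sq
  obtain ⟨τ, hτ⟩ := (yon S).map_surjective (a ≫ snd)
  have hlft : LocP @LocallyOfFiniteType snd :=
    K597.locP_bc K597.etLoc_lft sq hX.hasAtlas hY.hasAtlas (IsAlgSpace.yon_obj _).hasAtlas hft.1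
  have hτl : LocallyOfFiniteType τ.left := hlft a (𝟙 _) τ ha (repWith_id @Etale _) (by rw [hτ, Category.comp_id])
  let τ' : T.left ⟶ Spec (CommRingCat.of K) := τ.left
  have hτ' : LocallyOfFiniteType τ' := hτl
  have hn1 : IsLocallyNoetherian T.left := LocallyOfFiniteType.isLocallyNoetherian τ'
  have hTc : CompactSpace ↥T.left := hT
  have hn : IsNoetherian T.left := {}
  have hns : TopologicalSpace.NoetherianSpace ↥T.left := inferInstance
  let D : Set ↥T.left := {t | Points.map fst (Points.ofPt a t) = x}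
  have hD : ∀ t ∈ D, IsOpen ({t} : Set ↥T.left) := fun t ht => isOpen_singleton f m sq x hf ha t ht
  have hDfin : D.Finite := by
    have hc : IsCompact D := TopologicalSpace.NoetherianSpace.isCompact D
    refine hc.finite ?_
    rw [isDiscrete_iff_discreteTopology]
    refine discreteTopology_iff_isOpen_singleton.2 ?_
    intro d
    have h1 := (hD d.1 d.2).preimage (continuous_subtype_val (p := fun t => t ∈ D))
    have h2 : (Subtype.val ⁻¹' {d.1} : Set ↥D) = {d} := by
      ext e
      simp [Subtype.ext_iff]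
    rw [h2] at h1
    exact h1
  refine (hDfin.image (Points.ofPt a)).subset ?_
  intro w hw
  obtain ⟨y, rfl⟩ := K596.Pts.surjective_of_repWith has w
  obtain ⟨t, rfl⟩ := exists_ofScheme _ y
  rw [Points.map_ofPt, Category.id_comp] at hw ⊢
  exact ⟨t, hw, rfl⟩

end K622.FinFib
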