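import Mathlib.RingTheory.Ideal.MinimalPrime.Localization
import Mathlib.RingTheory.Ideal.MinimalPrime.Noetherian
import Mathlib.RingTheory.LocalRing.ResidueField.Ideal
import Mathlib.RingTheory.LocalProperties.Reduced
import Mathlib.AlgebraicGeometry.Noetherian

/-!
Morphisms from reduced schemes to locally Noetherian schemes whose image contains no proper specialization
factor, locally on the source, through spectra of fields.
-/

set_option autoImplicit false
universe u
open CategoryTheory CategoryTheory.Limits AlgebraicGeometry Opposite Topology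

noncomputable section

namespace K622.NoSpec

theorem exists_localization_factor {A B : Type u} [CommRing A] [CommRing B] [IsNoetherianRing A] [_root_.IsReduced B]
    (φ : A →+* B)
    (h : ∀ q q' : Ideal B, q.IsPrime → q'.IsPrime → q.comap φ ≤ q'.comap φ → q.comap φ = q'.comap φ)
    (q₀ : Ideal B) [q₀.IsPrime] :
    ∃ b : B, b ∉ q₀ ∧ ∃ ψ : (q₀.comap φ).ResidueField →+* Localization.Away b,
      ψ.comp (algebraMap A _) = (algebraMap B (Localization.Away b)).comp φ := by
  classical
  let p : Ideal A := q₀.comap φ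
  have hp : p.IsPrime := inferInstance
  have hmin : ∀ q : Ideal B, q.IsPrime → q.comap φ ∈ (RingHom.ker φ).minimalPrimes := by
    intro q hq
    have hle : RingHom.ker φ ≤ q.comap φ := by
      rw [RingHom.ker_eq_comap_bot]
      exact Ideal.comap_mono bot_le
    obtain ⟨m, hm, hmq⟩ := Ideal.exists_minimalPrimes_le hle
    obtain ⟨q', hq', hq'm⟩ := Ideal.exists_comap_eq_of_mem_minimalPrimes (I := ⊥) φ m
      (by rw [← RingHom.ker_eq_comap_bot]; exact hm)
    have := h q' q hq' hq (by rw [hq'm.2]; exact hmq)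
    rw [← this, hq'm.2]
    exact hm
  have hfin : {m : Ideal A | m ∈ (RingHom.ker φ).minimalPrimes ∧ m ≠ p}.Finite :=
    ((RingHom.ker φ).finite_minimalPrimes_of_isNoetherianRing A).subset fun _ h => h.1
  obtain ⟨a, ha, hap⟩ : ∃ a, (∀ m ∈ (RingHom.ker φ).minimalPrimes, m ≠ p → a ∈ m) ∧ a ∉ p := by
    by_contra hcon
    push Not at hcon
    have hle : hfin.toFinset.inf id ≤ p := by
      intro a ha
      refine hcon a fun m hm hmp => ?_
      have : hfin.toFinset.inf id ≤ m := Finset.inf_le (f := id) (hfin.mem_toFinset.2 ⟨hm, hmp⟩)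
      exact this ha
    obtain ⟨m, hm, hmp⟩ := (Ideal.IsPrime.inf_le' hp).1 hle
    rw [hfin.mem_toFinset] at hm
    have h1 : p ∈ (RingHom.ker φ).minimalPrimes := hmin q₀ inferInstance
    exact hm.2 (le_antisymm hmp (h1.2 hm.1.1 hmp))
  refine ⟨φ a, hap, ?_⟩
  have hkey : ∀ r : Ideal (Localization.Away (φ a)), r.IsPrime →
      r.comap ((algebraMap B (Localization.Away (φ a))).comp φ) = p := by
    intro r hr
    by_contra hne
    have hq : (r.comap (algebraMap B (Localization.Away (φ a)))).IsPrime := inferInstance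
    have h1 := hmin _ hq
    rw [Ideal.comap_comap] at h1
    have h2 := ha _ h1 hne
    have h3 : algebraMap B (Localization.Away (φ a)) (φ a) ∈ r := h2
    exact hr.ne_top (Ideal.eq_top_of_isUnit_mem _ h3 (IsLocalization.Away.algebraMap_isUnit _))
  have hred : _root_.IsReduced (Localization.Away (φ a)) := inferInstance
  have h1 : p ≤ RingHom.ker ((algebraMap B (Localization.Away (φ a))).comp φ) := by
    intro x hx
    rw [RingHom.mem_ker]
    have h1 : (algebraMap B (Localization.Away (φ a))).comp φ x ∈ nilradical (Localization.Away (φ a)) := by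
      rw [nilradical_eq_sInf, Ideal.mem_sInf]
      intro r hr
      have := hkey r hr
      change x ∈ r.comap ((algebraMap B (Localization.Away (φ a))).comp φ)
      rw [this]
      exact hx
    rw [nilradical_eq_zero] at h1
    exact h1
  have h2 : p.primeCompl ≤
      (IsUnit.submonoid (Localization.Away (φ a))).comap ((algebraMap B (Localization.Away (φ a))).comp φ) := by
    intro x hx
    by_contra hcon
    obtain ⟨r, hr, hxr⟩ := exists_max_ideal_of_mem_nonunits (show _ ∈ nonunits _ from hcon)
    have := hkey r hr.isPrime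
    refine hx ?_
    change x ∈ p
    rw [← this]
    exact hxr
  refine ⟨Ideal.ResidueField.lift _ ((algebraMap B (Localization.Away (φ a))).comp φ) h1 h2, ?_⟩
  ext x
  exact Ideal.ResidueField.lift_algebraMap _ _ h1 h2 _

/-- If no point of the image of a morphism from a reduced scheme to a locally Noetherian scheme is a proper
specialization of another one, then locally on the source the morphism factors through the spectrum of a field. -/
theorem exists_nhd_factor {W U : Scheme.{u}} [AlgebraicGeometry.IsReduced W] [IsLocallyNoetherian U] (f : W ⟶ U)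
    (hsp : ∀ w w' : W, f w ⤳ f w' → f w = f w') (w : W) :
    ∃ (T : Scheme.{u}) (e : T ⟶ W) (t : T) (K : Type u) (_ : Field K) (g : T ⟶ Spec (CommRingCat.of K))
      (j : Spec (CommRingCat.of K) ⟶ U), IsOpenImmersion e ∧ e t = w ∧ g ≫ j = e ≫ f := by
  obtain ⟨U₀, hU₀, hfw, -⟩ := exists_isAffineOpen_mem_and_subset (TopologicalSpace.Opens.mem_top (f w))
  obtain ⟨W₀, hW₀, hw, hle⟩ := exists_isAffineOpen_mem_and_subset (x := w) (U := f ⁻¹ᵁ U₀) hfw
  let A := Γ(U, U₀)
  let B := Γ(W, W₀)
  let φ : A ⟶ B := f.appLE U₀ W₀ hle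
  have hsq : Spec.map φ ≫ hU₀.fromSpec = hW₀.fromSpec ≫ f := IsAffineOpen.SpecMap_appLE_fromSpec f hU₀ hW₀ hle
  have : IsNoetherianRing A := IsLocallyNoetherian.component_noetherian ⟨U₀, hU₀⟩
  obtain ⟨q₀, hq₀⟩ : w ∈ Set.range hW₀.fromSpec := by rw [hW₀.range_fromSpec]; exact hw
  have hinj : Function.Injective hU₀.fromSpec := hU₀.fromSpec.isOpenEmbedding.injective
  have hcomp : ∀ q : Spec B, hU₀.fromSpec (Spec.map φ q) = f (hW₀.fromSpec q) := fun q => by
    rw [← Scheme.Hom.comp_apply, hsq, Scheme.Hom.comp_apply]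
  have hφ : ∀ q q' : Ideal B, q.IsPrime → q'.IsPrime → q.comap φ.hom ≤ q'.comap φ.hom →
      q.comap φ.hom = q'.comap φ.hom := by
    intro q q' hq hq' hle'
    let x : Spec B := ⟨q, hq⟩
    let x' : Spec B := ⟨q', hq'⟩
    have h1 : Spec.map φ x ⤳ Spec.map φ x' := by
      exact (PrimeSpectrum.le_iff_specializes (Spec.map φ x : PrimeSpectrum A) (Spec.map φ x')).1 hle'
    have h2 := h1.map hU₀.fromSpec.continuous
    rw [hcomp, hcomp] at h2
    have h3 := hsp _ _ h2
    rw [← hcomp, ← hcomp] at h3
    exact congrArg PrimeSpectrum.asIdeal (hinj h3)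
  have hq₀' : q₀.asIdeal.IsPrime := q₀.isPrime
  obtain ⟨b, hb, ψ, hψ⟩ := exists_localization_factor φ.hom hφ q₀.asIdeal
  let e₀ : Spec (CommRingCat.of (Localization.Away b)) ⟶ Spec B :=
    Spec.map (CommRingCat.ofHom (algebraMap B (Localization.Away b)))
  have he₀ : IsOpenImmersion e₀ := inferInstanceAs (IsOpenImmersion (Spec.map (CommRingCat.ofHom (algebraMap B _))))
  obtain ⟨t, ht⟩ : q₀ ∈ Set.range e₀ := by
    have h1 := PrimeSpectrum.localization_away_comap_range (Localization.Away b) b
    have h2 : q₀ ∈ (PrimeSpectrum.basicOpen b : Set (PrimeSpectrum B)) := hb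
    rw [← h1] at h2
    exact h2
  refine ⟨_, e₀ ≫ hW₀.fromSpec, t, (q₀.asIdeal.comap φ.hom).ResidueField, inferInstance,
    Spec.map (CommRingCat.ofHom ψ), Spec.map (CommRingCat.ofHom (algebraMap A _)) ≫ hU₀.fromSpec, inferInstance, ?_, ?_⟩
  · rw [Scheme.Hom.comp_apply, ht, hq₀]
  · rw [Category.assoc, ← hsq, ← Category.assoc, ← Category.assoc, ← Spec.map_comp, ← Spec.map_comp]
    congr 2
    ext1
    exact hψ

end K622.NoSpec
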