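import Groth.Agent.AlgSp.K622.MonoPts
import Groth.Agent.AlgSp.K619.MonoSingle
import Groth.Agent.AlgSp.K621.Decent
import Groth.Agent.AlgSp.K621.Charts
import Groth.Agent.AlgSp.K642.EtCov
import Groth.Agent.AlgSp.K638.RedEt
import Groth.Agent.AlgSp.K622.NoSpec

/-!
Residual spaces: field points factor through the residual space; morphisms from reduced spaces to locally Noetherian
spaces with one-point image factor through the residual space.
-/

set_option autoImplicit false
universe u
open CategoryTheory CategoryTheory.Limits AlgebraicGeometry Opposite Topology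
open AlgSp

set_option maxHeartbeats 400000
set_option backward.isDefEq.respectTransparency.types false

noncomputable section

namespace K622.Residual

open K622.Basic K622.MonoPts

variable {S : Scheme.{u}}

/-- `F` has a flat, locally finitely presented, surjective field point. -/
def FlatPt (F : Sp S) : Prop :=
  ∃ (k : Type u) (_ : Field k) (str : Spec (CommRingCat.of k) ⟶ S) (p : (AlgSp.yon S).obj (Over.mk str) ⟶ F),
        AlgSp.LocP @LocallyOfFinitePresentation p ∧ AlgSp.LocP @Flat p ∧ AlgSp.IsSurjectiveMor p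

theorem flatPt_field {K : Type u} [Field K] (str : Spec (CommRingCat.of K) ⟶ S) :
    FlatPt ((yon S).obj (Over.mk str)) := by
  have h : RepWith @Etale (𝟙 ((yon S).obj (Over.mk str))) := repWith_id @Etale (Over.mk str)
  refine ⟨K, inferInstance, str, 𝟙 _, ?_, ?_, ?_⟩
  · exact K619.LocPComp.locP_of_chart _ K619.LocPComp.etale_le_lfp h
  · exact K619.LocPComp.locP_of_chart _ K619.LocPComp.etale_le_flat h
  · intro x
    exact ⟨x, by rw [Points.map_id]⟩

/-- A monomorphism onto a point: every field-valued point in its image factors through it. -/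
theorem exists_lift_field {X Z : Space S} (i : Z ⟶ X) [Mono i.hom] {K : Type u} [Field K]
    {str : Spec (CommRingCat.of K) ⟶ S} (m : (yon S).obj (Over.mk str) ⟶ X.obj)
    (hx : Points.ofPt m (pt0 str) ∈ Set.range (Points.map i.hom)) :
    ∃ l : (yon S).obj (Over.mk str) ⟶ Z.obj, l ≫ i.hom = m := by
  obtain ⟨z, hz⟩ := hx
  have sq := IsPullback.of_hasPullback i.hom m
  have hP : IsAlgSpace (pullback i.hom m) :=
    K613.Chart.isAlgSpace_of_isPullback X.property.diag Z.property (IsAlgSpace.yon_obj _) sq
  obtain ⟨y, -, -⟩ := exists_of_isPullback sq z (Points.ofPt (𝟙 _) (pt0 str)) (by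
    rw [hz, Points.map_ofPt, Category.id_comp])
  have hn : ¬ IsEmpty (Points (pullback i.hom m)) := fun h => h.false y
  have h1 : IsIso (pullback.snd i.hom m) :=
    (K619.MonoSingle.isEmpty_or_isIso hP (IsAlgSpace.yon_obj _) _ (flatPt_field str)).resolve_left hn
  refine ⟨inv (pullback.snd i.hom m) ≫ pullback.fst i.hom m, ?_⟩
  rw [Category.assoc, pullback.condition, IsIso.inv_hom_id_assoc]

/-- Let `Y` be a reduced algebraic space, `X` a locally Noetherian algebraic space and `Z ⟶ X` a monomorphism of
algebraic spaces.  A morphism `Y ⟶ X` whose image is one point in the image of `Z` factors through `Z`. -/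
theorem exists_factor {Y X Z : Space S} (f : Y ⟶ X)
    (x : Points X.obj) (hf : ∀ y : Points Y.obj, Points.map f.hom y = x)
    (hY : EtaleLocally (fun U => IsReduced U) Y.obj)
    (hX : IsLocNoethSp X.obj) (i : Z ⟶ X) [Mono i.hom] (hi : x ∈ Set.range (Points.map i.hom)) :
    ∃ g : Y ⟶ Z, g ≫ i = f := by
  obtain ⟨U, a, ha, has, hU⟩ := hX
  obtain ⟨V, b, hb, hbs, hV⟩ := hY
  obtain ⟨W, p, q, hW⟩ := exists_pullback_yon ha.1 (b ≫ f.hom)
  have hq : Etale q.left := (repWith_yon_map_iff _ _).1 ((RepWith @Etale).of_isPullback hW ha)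
  have hqs : Surjective q.left := (repWith_yon_map_iff _ _).1 ((RepWith @Surjective).of_isPullback hW has)
  have hVr : IsReduced V.left := hV
  have hWr : IsReduced W.left := K638.RedEt.isReduced_of_etale q.left
  have hUn : IsLocallyNoetherian U.left := hU
  have hpx : ∀ w : ↥W.left, Points.ofPt a (p.left w) = x := by
    intro w
    rw [← ofPt_yon_map p a w, hW.w, ← Category.assoc, ← Points.map_ofPt]
    exact hf _
  have hsp : ∀ w w' : ↥W.left, p.left w ⤳ p.left w' → p.left w = p.left w' := fun w w' h =>
    K621.Decent.eq_of_specializes_of_coheight X.property ha h (by rw [hpx, hpx])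
      (K621.Charts.ringKrullDim_stalk_lt_top _)
  have key : ∀ w : ↥W.left, ∃ (T : Over S) (e : T ⟶ W) (t : ↥T.left) (c : (yon S).obj T ⟶ Z.obj),
      Etale e.left ∧ e.left t = w ∧ c ≫ i.hom = (yon S).map e ≫ (yon S).map q ≫ b ≫ f.hom := by
    intro w
    obtain ⟨T, e, t, K, _, g, j, he, het, hgj⟩ := K622.NoSpec.exists_nhd_factor p.left hsp w
    let str : Spec (CommRingCat.of K) ⟶ S := j ≫ U.hom
    let T' : Over S := Over.mk (e ≫ W.hom)
    let e' : T' ⟶ W := Over.homMk e rfl
    let j' : Over.mk str ⟶ U := Over.homMk j rfl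
    let g' : T' ⟶ Over.mk str := Over.homMk g (by
      change g ≫ j ≫ U.hom = e ≫ W.hom
      rw [← Category.assoc, hgj, Category.assoc, Over.w p])
    have hgj' : g' ≫ j' = e' ≫ p := Over.OverMorphism.ext hgj
    obtain ⟨l, hl⟩ := exists_lift_field i ((yon S).map j' ≫ a) (by
      rw [ofPt_yon_map]
      have h1 : j'.left (pt0 str) = p.left w := by
        have h2 : j'.left (g'.left t) = p.left (e'.left t) := by
          rw [← Scheme.Hom.comp_apply, ← Scheme.Hom.comp_apply, ← Over.comp_left, ← Over.comp_left, hgj']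
        rw [eq_pt0 (g'.left t)] at h2
        rw [h2]
        exact congrArg p.left het
      rw [h1, hpx]
      exact hi)
    refine ⟨T', e', t, (yon S).map g' ≫ l, ?_, het, ?_⟩
    · exact inferInstanceAs (Etale e)
    · rw [Category.assoc, hl, ← Category.assoc, ← Functor.map_comp, hgj', Functor.map_comp, Category.assoc, hW.w]
  choose T e t c he het hc using key
  let pw : ∀ w : ↥W.left, (yon S).obj (T w) ⟶ Y.obj := fun w => (yon S).map (e w ≫ q) ≫ b
  have hpw : ∀ w, RepWith @Etale (pw w) := fun w => by
    refine (RepWith @Etale).comp_mem _ _ ((repWith_yon_map_iff _ _).2 ?_) hb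
    rw [Over.comp_left]
    have := he w
    infer_instance
  have hsurj : ∀ y : Points Y.obj, ∃ (w : ↥W.left) (t' : ↥(T w).left), Points.ofPt (pw w) t' = y := by
    intro y
    obtain ⟨v, rfl⟩ := K642.EtCov.exists_ofPt_of_repWith_surjective hbs y
    obtain ⟨w, rfl⟩ := hqs.surj v
    refine ⟨w, t w, ?_⟩
    rw [ofPt_yon_map, Over.comp_left, Scheme.Hom.comp_apply, het]
  have hjls := K642.EtCov.jls_of_repWith_etale pw hpw hsurj
  have sq := IsPullback.of_hasPullback f.hom i.hom
  have hm : Mono (pullback.fst f.hom i.hom) := inferInstance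
  have hiso : IsIso (pullback.fst f.hom i.hom) := hjls.isIso_of_mono (pullback.fst f.hom i.hom)
    (fun w => pullback.lift (pw w) (c w) (by
      rw [hc]
      simp only [pw, Functor.map_comp, Category.assoc]))
    (fun w => pullback.lift_fst _ _ _)
  let g₀ : Y.obj ⟶ Z.obj := inv (pullback.fst f.hom i.hom) ≫ pullback.snd f.hom i.hom
  have hg₀ : g₀ ≫ i.hom = f.hom := by
    rw [Category.assoc, ← pullback.condition, IsIso.inv_hom_id_assoc]
  refine ⟨(ObjectProperty.ι _).preimage g₀, (ObjectProperty.ι _).map_injective ?_⟩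
  rw [Functor.map_comp, Functor.map_preimage]
  exact hg₀

end K622.Residual
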