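import Groth.Agent.AlgSp.K622.MonoPts
import Groth.Agent.AlgSp.K610.InvOpen
import Groth.Agent.AlgSp.K610.ZarGlue
import Groth.Agent.AlgSp.K596.Univ
import Groth.Agent.S2127
import Groth.Prelude.Def_AlgSpMor5

/-!
The schematic locus and finite locally free surjective morphisms.
-/

set_option autoImplicit false
universe u
open CategoryTheory CategoryTheory.Limits AlgebraicGeometry Opposite Topology
open AlgSp

set_option maxHeartbeats 400000
set_option backward.isDefEq.respectTransparency.types false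

noncomputable section

namespace K622.SchLoc

open K622.Basic K622.MonoPts

variable {S : Scheme.{u}}

theorem isIso_of_open {F G : Sp S} {f : F ⟶ G} (hf : RepWith @IsOpenImmersion f)
    (hs : Function.Surjective (Points.map f)) : IsIso f := by
  have := K610.Factor.mono_of_isOpenImmersion hf
  refine K613.Basic.isIso_of_bijective fun T y => ?_
  obtain ⟨x, hx⟩ := K610.Factor.exists_lift_open hf y (fun z _ => hs z)
  exact ⟨x, hx, fun x' hx' => by rw [← cancel_mono f, hx, hx']⟩

theorem repWith_mono {P Q : MorphismProperty Scheme.{u}} (h : ∀ ⦃X Y : Scheme.{u}⦄ (f : X ⟶ Y), P f → Q f)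
    {F G : Sp S} {f : F ⟶ G} (hf : RepWith P f) : RepWith Q f :=
  ⟨hf.1, fun _ _ g fst snd sq => h _ (hf.2 g fst snd sq)⟩

/-- The finite fibres of a representable finite morphism from a scheme. -/
theorem finite_fibre {F : Sp S} {W : Over S} {a : (yon S).obj W ⟶ F} (ha : RepWith @IsFinite a) (w : ↥W.left) :
    {w' : ↥W.left | Points.ofPt a w' = Points.ofPt a w}.Finite := by
  obtain ⟨R, s, t, sq⟩ := exists_pullback_yon ha.1 a
  have ht : IsFinite t.left := (repWith_yon_map_iff _ _).1 ((RepWith @IsFinite).of_isPullback sq ha)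
  refine ((t.left.finite_preimage_singleton w).image s.left).subset ?_
  intro w' hw'
  obtain ⟨r, hr1, hr2⟩ := exists_pt_of_isPullback' sq w' w hw'
  exact ⟨r, hr2, hr1⟩

theorem exists_of_affine_nhd {X Y : Space S} (f : X ⟶ Y)
    (hf : IsFinLocFreeMor f.hom) (hs : RepWith @Surjective f.hom) (y : Points Y.obj)
    (U : Over S) (a : (yon S).obj U ⟶ X.obj) (hU : IsAffine U.left) (ha : RepWith @IsOpenImmersion a)
    (hy : Points.map f.hom ⁻¹' {y} ⊆ Set.range (Points.ofPt a)) :
    ∃ (M : Over S) (k : (yon S).obj M ⟶ Y.obj), RepWith @IsOpenImmersion k ∧ y ∈ Set.range (Points.ofPt k) := by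
  have hfin : RepWith @IsFinite f.hom := repWith_mono (fun _ _ _ h => h.1) hf
  have hcl : IsClosedMap (Points.map f.hom) :=
    K596.Univ.isClosedMap_of_repWith (repWith_mono (Q := @UniversallyClosed) (fun _ _ g (h : IsFinite g) => (inferInstance : UniversallyClosed g)) hfin)
  have hao : IsOpen (Set.range (Points.ofPt a)) :=
    (K610.Base.isOpenMap_ofPt_etale (repWith_mono (Q := @Etale) (fun _ _ g (h : IsOpenImmersion g) => (inferInstance : Etale g)) ha)).isOpen_range
  let N : Set (Points Y.obj) := (Points.map f.hom '' (Set.range (Points.ofPt a))ᶜ)ᶜ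
  have hN : IsOpen N := (hcl _ hao.isClosed_compl).isOpen_compl
  have hyN : y ∈ N := by
    rintro ⟨x, hx, hxy⟩
    exact hx (hy hxy)
  obtain ⟨Y', j, hj, hr⟩ := K610.Sub.exists_open_subspace Y N hN
  have hjm : Mono j.hom := K610.Factor.mono_of_isOpenImmersion hj
  have sq := IsPullback.of_hasPullback f.hom j.hom
  have hfst : RepWith @IsOpenImmersion (pullback.fst f.hom j.hom) :=
    (RepWith @IsOpenImmersion).of_isPullback sq.flip hj
  obtain ⟨W, w, c, sqW⟩ := hfst.1 a
  -- `sqW : IsPullback c w fst a`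
  have hw : IsOpenImmersion w.left := hfst.2 a _ _ sqW
  have hc : RepWith @IsOpenImmersion c := (RepWith @IsOpenImmersion).of_isPullback sqW.flip ha
  have hcs : Function.Surjective (Points.map c) := by
    intro p
    have h1 : Points.map (pullback.fst f.hom j.hom) p ∈ Set.range (Points.ofPt a) := by
      by_contra hcon
      have h2 : Points.map f.hom (Points.map (pullback.fst f.hom j.hom) p) ∈ N := by
        rw [← Points.map_comp, sq.w, Points.map_comp, ← hr]
        exact ⟨_, rfl⟩
      exact h2 ⟨_, hcon, rfl⟩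
    obtain ⟨u, hu⟩ := h1
    obtain ⟨z, hz, -⟩ := exists_of_isPullback sqW p (Points.ofPt (𝟙 _) u) (by
      rw [Points.map_ofPt, Category.id_comp, hu])
    exact ⟨z, hz⟩
  have hciso : IsIso c := isIso_of_open hc hcs
  have hsnd : RepWith finLocFree (pullback.snd f.hom j.hom) := (RepWith finLocFree).of_isPullback sq hf
  have hb : RepWith finLocFree (c ≫ pullback.snd f.hom j.hom) :=
    MorphismProperty.RespectsIso.precomp (RepWith finLocFree) c _ hsnd
  have hbs : RepWith @Surjective (c ≫ pullback.snd f.hom j.hom) :=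
    MorphismProperty.RespectsIso.precomp (RepWith @Surjective) c _ ((RepWith @Surjective).of_isPullback sq hs)
  have hb1 : RepWith @IsFinite (c ≫ pullback.snd f.hom j.hom) := repWith_mono (fun _ _ _ h => h.1) hb
  obtain ⟨y', hy'⟩ : y ∈ Set.range (Points.map j.hom) := by rw [hr]; exact hyN
  obtain ⟨w0, rfl⟩ := K610.Base.surjective_ofPt hbs y'
  have hE := finite_fibre hb1 w0
  obtain ⟨g, hg1, hg2, hg3⟩ := Groth.Agent.S2127.exists_basicOpen (X := U.left) w.left.opensRange _
    (hE.image w.left) (by rintro _ ⟨z, -, rfl⟩; exact ⟨z, rfl⟩)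
  obtain ⟨M, k, -, hk, hk2⟩ := K610.InvOpen.exists_affine_nhd hb1 (repWith_mono (fun _ _ _ h => h.2.1) hb)
    (repWith_mono (fun _ _ _ h => h.2.2) hb) hbs w0 (w.left ⁻¹ᵁ U.left.basicOpen g)
    (hg1.preimage_of_isOpenImmersion w.left hg3) (fun z hz => hg2 ⟨z, hz, rfl⟩)
  refine ⟨M, k ≫ j.hom, (RepWith @IsOpenImmersion).comp_mem _ _ hk hj, ?_⟩
  obtain ⟨m, hm⟩ := hk2
  exact ⟨m, by rw [← Points.map_ofPt, hm, hy']⟩

theorem exists_affine_of_nhd {X Y : Space S} (f : X ⟶ Y)
    (hf : IsFinLocFreeMor f.hom) (y : Points Y.obj)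
    (H : Over S) (k : (yon S).obj H ⟶ Y.obj) (hk : RepWith @IsOpenImmersion k) (hy : y ∈ Set.range (Points.ofPt k)) :
    ∃ (U : Over S) (a : (yon S).obj U ⟶ X.obj), IsAffine U.left ∧ RepWith @IsOpenImmersion a ∧
        Points.map f.hom ⁻¹' {y} ⊆ Set.range (Points.ofPt a) := by
  obtain ⟨h, rfl⟩ := hy
  obtain ⟨H₀, hH₀, hh, -⟩ := exists_isAffineOpen_mem_and_subset (TopologicalSpace.Opens.mem_top h)
  let H' : Over S := Over.mk (H₀.ι ≫ H.hom)
  let i : H' ⟶ H := Over.homMk H₀.ι rfl
  have hi : RepWith @IsOpenImmersion ((yon S).map i) :=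
    (repWith_yon_map_iff _ _).2 (inferInstanceAs (IsOpenImmersion H₀.ι))
  have hk' : RepWith @IsOpenImmersion ((yon S).map i ≫ k) := (RepWith @IsOpenImmersion).comp_mem _ _ hi hk
  obtain ⟨V, v, c, sq⟩ := hf.1 ((yon S).map i ≫ k)
  have hv : IsFinite v.left := (hf.2 _ _ _ sq).1
  have hc : RepWith @IsOpenImmersion c := (RepWith @IsOpenImmersion).of_isPullback sq.flip hk'
  have hH'a : IsAffine H'.left := hH₀
  refine ⟨V, c, isAffine_of_isAffineHom v.left, hc, ?_⟩
  intro x hx
  let h' : ↥H'.left := (⟨h, hh⟩ : ↥H₀)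
  obtain ⟨z, hz, -⟩ := exists_pt_of_isPullback sq x (Points.ofPt (𝟙 _) h') (by
    rw [Points.map_ofPt, Category.id_comp, ofPt_yon_map]
    exact hx)
  exact ⟨z, hz⟩

end K622.SchLoc
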